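import Mathlib

/-!
Facts about two elements of order three in `A₆` rotating two four-groups.
-/

set_option autoImplicit false
set_option maxRecDepth 100000
set_option synthInstance.maxSize 4000

namespace H36.J3U

local notation "A6" => alternatingGroup (Fin 6)

/-- Two elements of order three rotating the four-groups `⟨z,u⟩` and `⟨z,r⟩`. -/
structure Cfg {X : Type*} [Group X] (z u r a b : X) : Prop where
  zz : z * z = 1
  z1 : z ≠ 1
  uu : u * u = 1
  rr : r * r = 1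
  zu : u * z = z * u
  zr : r * z = z * r
  ur : u * r = r * u * z
  a3 : a * a * a = 1
  b3 : b * b * b = 1
  az : a * z * a⁻¹ = u
  au : a * u * a⁻¹ = u * z
  ra : r * a * r = a⁻¹
  bz : b * z * b⁻¹ = r
  br : b * r * b⁻¹ = r * z
  ub : u * b * u = b⁻¹

theorem Cfg.map {X Y : Type*} [Group X] [Group Y] {z u r a b : X} (C : Cfg z u r a b) (f : X ≃* Y) :
    Cfg (f z) (f u) (f r) (f a) (f b) where
  zz := by rw [← map_mul, C.zz, map_one]
  z1 := fun h => C.z1 (f.injective (h.trans (map_one f).symm))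
  uu := by rw [← map_mul, C.uu, map_one]
  rr := by rw [← map_mul, C.rr, map_one]
  zu := by rw [← map_mul, C.zu, map_mul]
  zr := by rw [← map_mul, C.zr, map_mul]
  ur := by rw [← map_mul, C.ur, map_mul, map_mul]
  a3 := by rw [← map_mul, ← map_mul, C.a3, map_one]
  b3 := by rw [← map_mul, ← map_mul, C.b3, map_one]
  az := by rw [← map_inv, ← map_mul, ← map_mul, C.az]
  au := by rw [← map_inv, ← map_mul, ← map_mul, C.au, map_mul]
  ra := by rw [← map_mul, ← map_mul, C.ra, map_inv]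
  bz := by rw [← map_inv, ← map_mul, ← map_mul, C.bz]
  br := by rw [← map_inv, ← map_mul, ← map_mul, C.br, map_mul]
  ub := by rw [← map_mul, ← map_mul, C.ub, map_inv]

/-- The number of fixed letters. -/
def fixCount (a : A6) : Nat := (Finset.univ.filter fun i : Fin 6 => (a : Equiv.Perm (Fin 6)) i = i).card

theorem fixCount_conj (g a : A6) : fixCount (g * a * g⁻¹) = fixCount a := by
  refine Finset.card_bij' (fun i _ => (g : Equiv.Perm (Fin 6)).symm i) (fun i _ => (g : Equiv.Perm (Fin 6)) i)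
    ?_ ?_ ?_ ?_
  · intro i hi
    have h : (g : Equiv.Perm (Fin 6)) ((a : Equiv.Perm (Fin 6)) ((g : Equiv.Perm (Fin 6)).symm i)) = i :=
      (Finset.mem_filter.mp hi).2
    exact Finset.mem_filter.mpr ⟨Finset.mem_univ _, (Equiv.eq_symm_apply _).mpr h⟩
  · intro i hi
    have h : (a : Equiv.Perm (Fin 6)) i = i := (Finset.mem_filter.mp hi).2
    refine Finset.mem_filter.mpr ⟨Finset.mem_univ _, ?_⟩
    show (g : Equiv.Perm (Fin 6)) ((a : Equiv.Perm (Fin 6))
      ((g : Equiv.Perm (Fin 6)).symm ((g : Equiv.Perm (Fin 6)) i))) = (g : Equiv.Perm (Fin 6)) i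
    rw [Equiv.symm_apply_apply, h]
  · intro i _; simp
  · intro i _; simp

/-- `(01)(23)`. -/
def z0 : A6 := ⟨Equiv.swap 0 1 * Equiv.swap 2 3, by rw [Equiv.Perm.mem_alternatingGroup]; decide⟩

theorem a6_invol : ∀ z : A6, z * z = 1 → z ≠ 1 → ∃ g : A6, g * z * g⁻¹ = z0 := by decide +kernel

theorem a6_real : ∀ y : A6, y * y * y = 1 → ∃ g : A6, g * y * g⁻¹ = y⁻¹ := by decide +kernel

theorem a6_config : ∀ u : A6, u * u = 1 → u * z0 = z0 * u → ∀ r : A6, r * r = 1 → r * z0 = z0 * r →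
    u * r = r * u * z0 → ∀ a : A6, a * z0 * a⁻¹ = u → a * u * a⁻¹ = u * z0 → a * a * a = 1 → r * a * r = a⁻¹ →
      ∀ b : A6, b * z0 * b⁻¹ = r → b * r * b⁻¹ = r * z0 → b * b * b = 1 → u * b * u = b⁻¹ →
        (a * b) ^ 5 = 1 ∧ (a * b⁻¹) ^ 4 = 1 ∧ fixCount a ≠ fixCount b⁻¹ := by
  decide +kernel

theorem Cfg.a6 {z u r a b : A6} (C : Cfg z u r a b) :
    (a * b) ^ 5 = 1 ∧ (a * b⁻¹) ^ 4 = 1 ∧ ∀ k : A6, k * a * k⁻¹ ≠ b⁻¹ := by
  obtain ⟨g, hg⟩ := a6_invol z C.zz C.z1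
  have D := C.map (MulAut.conj g)
  simp only [MulAut.conj_apply] at D
  rw [hg] at D
  obtain ⟨h1, h2, h3⟩ := a6_config _ D.uu D.zu _ D.rr D.zr D.ur _ D.az D.au D.a3 D.ra _ D.bz D.br D.b3 D.ub
  refine ⟨?_, ?_, ?_⟩
  · have : MulAut.conj g ((a * b) ^ 5) = 1 := by rw [map_pow, map_mul]; exact h1
    exact (MulEquiv.map_eq_one_iff _).mp this
  · have : MulAut.conj g ((a * b⁻¹) ^ 4) = 1 := by rw [map_pow, map_mul, map_inv]; exact h2
    exact (MulEquiv.map_eq_one_iff _).mp this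
  · intro k hk
    refine h3 ?_
    rw [show (g * b * g⁻¹)⁻¹ = g * b⁻¹ * g⁻¹ by group, fixCount_conj, fixCount_conj, ← hk, fixCount_conj]

end H36.J3U
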