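import Cfsg.Agent.H36.J3U.A6

/-!
Subgroups of `A₆` containing enough elements.
-/

set_option autoImplicit false
set_option maxRecDepth 100000
set_option synthInstance.maxSize 4000

namespace H36.J3U

local notation "A6" => alternatingGroup (Fin 6)

theorem a6_three_cent : ∀ a : A6, a * a * a = 1 → a ≠ 1 →
    ∃ y : A6, y * y * y = 1 ∧ a * y = y * a ∧ y ≠ 1 ∧ y ≠ a ∧ y ≠ a * a := by
  decide +kernel

theorem a6_five_criterion : ∀ x : A6, x * x * x = 1 → x ≠ 1 →
    x * z0 * x⁻¹ ≠ z0 → z0 * (x * z0 * x⁻¹) = x * z0 * x⁻¹ * z0 →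
      x * (x * z0 * x⁻¹) * x⁻¹ = z0 * (x * z0 * x⁻¹) →
        ∀ y : A6, y * y * y = 1 → x * y = y * x → y ≠ 1 → y ≠ x → y ≠ x * x →
          (z0 * y) ^ 5 = 1 ∧ z0 * y ≠ 1 ∨ (x * (z0 * y)) ^ 5 = 1 ∧ x * (z0 * y) ≠ 1 := by
  decide +kernel

theorem a6_eq_top (S : Subgroup A6) (h : 90 ≤ Nat.card S) : S = ⊤ := by
  by_contra hne
  have hc : Nat.card A6 = 360 := by
    rw [nat_card_alternatingGroup, Nat.card_fin]; norm_num [Nat.factorial]
  have hidx := S.index_mul_card
  rw [hc] at hidx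
  haveI : IsSimpleGroup A6 := alternatingGroup.isSimpleGroup (by simp)
  have hk : (MulAction.toPermHom A6 (A6 ⧸ S)).ker = ⊥ := by
    rcases Subgroup.Normal.eq_bot_or_eq_top
      (inferInstance : (MulAction.toPermHom A6 (A6 ⧸ S)).ker.Normal) with h0 | h0
    · exact h0
    · exfalso
      refine hne (Subgroup.eq_top_iff' S |>.mpr fun g => ?_)
      have hg : MulAction.toPermHom A6 (A6 ⧸ S) g = 1 := MonoidHom.mem_ker.mp (h0 ▸ Subgroup.mem_top g)
      have := congrArg (fun p : Equiv.Perm (A6 ⧸ S) => p ((1 : A6) : A6 ⧸ S)) hg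
      simp only [MulAction.toPermHom_apply, MulAction.toPerm_apply, Equiv.Perm.coe_one, id_eq] at this
      have h1 : ((g : A6) : A6 ⧸ S) = ((1 : A6) : A6 ⧸ S) := by simpa using this
      have h2 := QuotientGroup.eq.mp h1.symm
      simpa using h2
  have hle : 360 ≤ S.index.factorial := by
    have := Nat.card_le_card_of_injective _
      ((MonoidHom.ker_eq_bot_iff (MulAction.toPermHom A6 (A6 ⧸ S))).mp hk)
    rw [hc, Nat.card_perm] at this
    exact this
  have h4 : S.index ≤ 4 := by nlinarith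
  have := Nat.factorial_le h4
  rw [show Nat.factorial 4 = 24 from rfl] at this
  omega

theorem nine_dvd {X : Type*} [Group X] [Finite X] (S : Subgroup X) {a b : X} (ha : a ∈ S) (hb : b ∈ S)
    (a3 : a * a * a = 1) (b3 : b * b * b = 1) (hab : a * b = b * a) (b1 : b ≠ 1) (ba : b ≠ a)
    (baa : b ≠ a * a) (a1 : a ≠ 1) : 9 ∣ Nat.card S := by
  haveI : Fact (Nat.Prime 3) := ⟨by norm_num⟩
  set H := Subgroup.closure ({a, b} : Set X) with hH
  have hHS : H ≤ S := (Subgroup.closure_le S).mpr (by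
    intro x hx
    simp only [Set.mem_insert_iff, Set.mem_singleton_iff] at hx
    rcases hx with rfl | rfl <;> assumption)
  have hcomm : IsMulCommutative H := Subgroup.isMulCommutative_closure (by
    intro p hp q hq
    simp only [Set.mem_insert_iff, Set.mem_singleton_iff] at hp hq
    rcases hp with rfl | rfl <;> rcases hq with rfl | rfl
    exacts [rfl, hab, hab.symm, rfl])
  have hp : IsPGroup 3 H := fun g => ⟨1, Subtype.ext (by
    obtain ⟨g, hg⟩ := g
    show g ^ (3 ^ 1) = 1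
    rw [pow_one]
    induction hg using Subgroup.closure_induction with
    | mem x hx =>
      simp only [Set.mem_insert_iff, Set.mem_singleton_iff] at hx
      rcases hx with rfl | rfl <;> rw [pow_succ, pow_two] <;> assumption
    | one => exact one_pow _
    | mul x y hx hy ihx ihy =>
      rw [(show Commute x y from congrArg Subtype.val (hcomm.is_comm.comm ⟨x, hx⟩ ⟨y, hy⟩)).mul_pow, ihx, ihy,
        one_mul]
    | inv x _ ih => rw [inv_pow, ih, inv_one])⟩
  obtain ⟨n, hn⟩ := hp.exists_card_eq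
  have hZ : Nat.card (Subgroup.zpowers a) = 3 := by
    rw [Nat.card_zpowers]; exact orderOf_eq_prime (by rw [pow_succ, pow_two]; exact a3) a1
  have hlt : 3 < Nat.card H := by
    have hle : Subgroup.zpowers a ≤ H := Subgroup.zpowers_le.mpr (Subgroup.subset_closure (by simp))
    rcases lt_or_eq_of_le (hZ ▸ Nat.le_of_dvd Nat.card_pos (Subgroup.card_dvd_of_le hle)) with h | h
    · exact h
    exfalso
    have he : Subgroup.zpowers a = H := Subgroup.eq_of_le_of_card_ge hle (by rw [hZ, ← h])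
    obtain ⟨m, hm⟩ := Subgroup.mem_zpowers_iff.mp (he ▸ Subgroup.subset_closure (by simp) : b ∈ Subgroup.zpowers a)
    have h3 : a ^ (3 : ℤ) = 1 := by
      rw [show (3 : ℤ) = ((3 : ℕ) : ℤ) by norm_num, zpow_natCast, pow_succ, pow_two, a3]
    rw [← Int.mul_ediv_add_emod m 3, zpow_add, zpow_mul, h3, one_zpow, one_mul] at hm
    have l1 := Int.emod_nonneg m (show (3 : ℤ) ≠ 0 by norm_num)
    have l2 := Int.emod_lt_of_pos m (show (0 : ℤ) < 3 by norm_num)
    obtain q | q | q : m % 3 = 0 ∨ m % 3 = 1 ∨ m % 3 = 2 := by omega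
    · rw [q, zpow_zero] at hm; exact b1 hm.symm
    · rw [q, zpow_one] at hm; exact ba hm.symm
    · rw [q, show (2 : ℤ) = ((2 : ℕ) : ℤ) by norm_num, zpow_natCast, pow_two] at hm; exact baa hm.symm
  have h2 : 2 ≤ n := by
    by_contra hn2
    have := Nat.pow_le_pow_right (show 3 > 0 by norm_num) (show n ≤ 1 by omega)
    omega
  exact dvd_trans (dvd_trans (show 9 ∣ 3 ^ n from pow_dvd_pow 3 h2) (hn ▸ dvd_refl _))
    (Subgroup.card_dvd_of_le hHS)

theorem a6_large {S : Subgroup A6} {x w y : A6} (hx : x ∈ S) (hw : w ∈ S) (hy : y ∈ S)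
    (x3 : x * x * x = 1) (x1 : x ≠ 1) (w2 : w * w = 1) (w1 : w ≠ 1) (hne : x * w * x⁻¹ ≠ w)
    (hcomm : w * (x * w * x⁻¹) = x * w * x⁻¹ * w) (hcyc : x * (x * w * x⁻¹) * x⁻¹ = w * (x * w * x⁻¹))
    (y3 : y * y * y = 1) (hxy : x * y = y * x) (y1 : y ≠ 1) (yx : y ≠ x) (yxx : y ≠ x * x) : S = ⊤ := by
  obtain ⟨g, hg⟩ := a6_invol w w2 w1
  set f := MulAut.conj g
  have hgf : f w = z0 := hg
  have key := a6_five_criterion (f x) (by rw [← map_mul, ← map_mul, x3, map_one])
    (fun h => x1 (by simpa using h))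
    (by rw [← hgf, ← map_inv, ← map_mul, ← map_mul]; exact fun h => hne (f.injective h))
    (by simp only [← hgf, ← map_inv, ← map_mul]; rw [hcomm])
    (by simp only [← hgf, ← map_inv, ← map_mul]; rw [hcyc])
    (f y) (by rw [← map_mul, ← map_mul, y3, map_one]) (by rw [← map_mul, ← map_mul, hxy])
    (fun h => y1 (by simpa using h)) (fun h => yx (f.injective h))
    (by rw [← map_mul]; exact fun h => yxx (f.injective h))
  obtain ⟨t, ht, ht5, ht1⟩ : ∃ t ∈ S, t ^ 5 = 1 ∧ t ≠ 1 := by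
    rw [← hgf, ← map_mul, ← map_mul, ← map_pow, ← map_pow] at key
    simp only [ne_eq, MulEquiv.map_eq_one_iff] at key
    rcases key with k | k
    exacts [⟨_, mul_mem hw hy, k.1, k.2⟩, ⟨_, mul_mem hx (mul_mem hw hy), k.1, k.2⟩]
  have d2 : 2 ∣ Nat.card S :=
    (orderOf_eq_prime (p := 2) (x := w) (by rw [pow_two, w2]) w1) ▸ Subgroup.orderOf_dvd_natCard S hw
  haveI : Fact (Nat.Prime 5) := ⟨by norm_num⟩
  have d5 : 5 ∣ Nat.card S :=
    (orderOf_eq_prime (p := 5) ht5 ht1) ▸ Subgroup.orderOf_dvd_natCard S ht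
  have d9 := nine_dvd S hx hy x3 y3 hxy y1 yx yxx x1
  have d90 : 90 ∣ Nat.card S := by
    have := Nat.Coprime.mul_dvd_of_dvd_of_dvd (by norm_num)
      (Nat.Coprime.mul_dvd_of_dvd_of_dvd (by norm_num) d2 d5) d9
    simpa using this
  exact a6_eq_top S (Nat.le_of_dvd Nat.card_pos d90)

end H36.J3U
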