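import Cfsg.Agent.H36.J3U.Norm
import Cfsg.Agent.H36.J3U.A6
import Cfsg.Agent.H78.DihedralEightCentralizer
import Cfsg.Agent.H1.Cores
import Mathlib

/-!
The centraliser of `c` is `⟨c⟩ × A₆` when all involutions are conjugate; hence the last two relators.
-/

set_option autoImplicit false
set_option maxRecDepth 100000
set_option synthInstance.maxSize 4000
set_option synthInstance.maxHeartbeats 200000

namespace H36.J3U

variable {G : Type*} [Group G] {z : G} {e : Nat → G} {k : G}

local notation "A6" => alternatingGroup (Fin 6)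

theorem perm_five_criterion : ∀ s : Equiv.Perm (Fin 5), s * s = 1 → s ≠ 1 →
    (Finset.univ.filter fun x : Equiv.Perm (Fin 5) => x * s = s * x).card = 8 →
      ∃ x : Equiv.Perm (Fin 5), x * x = 1 ∧ x ≠ 1 ∧ x * s = s * x ∧
        Equiv.Perm.sign x ≠ Equiv.Perm.sign s := by
  decide +kernel

theorem card_sl_three : Fintype.card (Matrix.SpecialLinearGroup (Fin 3) (ZMod 2)) = 168 := by
  decide +kernel

/-- The elements of the centraliser of `c` in the dihedral group. -/
def d8f : DihedralGroup 4 → Nat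
  | .r i => [0, 840, 60, 900].getD i.val 0
  | .sr i => mulC 1800 ([0, 840, 60, 900].getD i.val 0)

theorem d8f_facts :
    (∀ x : DihedralGroup 4, d8f x < 1920 ∧ mulC (d8f x) 15 = mulC 15 (d8f x)) ∧
    (∀ x y : DihedralGroup 4, d8f (x * y) = mulC (d8f x) (d8f y)) ∧
    (∀ x : DihedralGroup 4, d8f x ∈ [0, 15, 24] → x = 1) ∧
    d8f 1 = 0 ∧ d8f (.r 2) = 60 ∧
    (∀ x : DihedralGroup 4, d8f x * 1 ∈ [0, 60, 840, 900, 960, 1020, 1800, 1860]) := by
  decide +kernel

theorem d8f_cover : (List.range 1920).all (fun a =>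
    !(mulC a 15 == mulC 15 a) ||
      [0, 60, 840, 900, 960, 1020, 1800, 1860].any (fun b => [0, 15, 24].any (fun n => mulC b n == a))) =
      true ∧
    ∀ b ∈ [0, 60, 840, 900, 960, 1020, 1800, 1860], ∃ x : DihedralGroup 4, d8f x = b := by
  decide +kernel

/-- The centraliser of `c`. -/
abbrev Kc (e : Nat → G) : Subgroup G := Subgroup.centralizer ({e 15} : Set G)

theorem mem_Kc {g : G} : g ∈ Kc e ↔ Commute g (e 15) := Subgroup.mem_centralizer_singleton_iff

/-- `c` in its centraliser. -/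
def cK (e : Nat → G) : Kc e := ⟨e 15, mem_Kc.mpr (Commute.refl _)⟩

/-- The group generated by `c`. -/
abbrev Zc (e : Nat → G) : Subgroup (Kc e) := Subgroup.zpowers (cK e)

instance j3u_zc_normal (e : Nat → G) : (Zc e).Normal :=
  ⟨fun x hx g => by
    obtain ⟨n, rfl⟩ := Subgroup.mem_zpowers_iff.mp hx
    have h : Commute g (cK e) := Subtype.ext (mem_Kc.mp g.2).eq
    rw [(h.zpow_right n).eq, mul_inv_cancel_right]
    exact Subgroup.zpow_mem_zpowers _ _⟩

/-- The configuration in the centraliser of `c`. -/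
structure Pts (z : G) (e : Nat → G) (k : G) : Prop where
  cfg : Cfg z (e 1800) (e 960) (k * e 15) (e 12 * (k * e 15) * e 12)
  mz : Commute z (e 15)
  mu : Commute (e 1800) (e 15)
  mr : Commute (e 960) (e 15)
  ma : Commute (k * e 15) (e 15)
  mb : Commute (e 12 * (k * e 15) * e 12) (e 15)

theorem pts_facts : cjC 12 15 = 24 ∧ cjC 12 60 = 60 ∧ cjC 12 1800 = 960 ∧ cjC 12 960 = 1800 ∧
    mulC 12 12 = 0 ∧ mulC 1800 960 = mulC (mulC 960 1800) 60 ∧ mulC 960 15 = mulC 15 960 ∧
    mulC 15 (mulC 15 15) = 0 ∧ mulC 15 15 = 24 := by decide +kernel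

section

variable (M : Mdl z e) (K : Kappa z e k)
include M

theorem c_cube : e 15 * e 15 * e 15 = 1 := by
  rw [mul_assoc, ← M.mul _ _ (by norm_num) (by norm_num),
    ← M.mul _ _ (by norm_num) (mulC_lt (by norm_num) (by norm_num)), pts_facts.2.2.2.2.2.2.2.1, M.one]

theorem Zc_cases {x : Kc e} (hx : x ∈ Zc e) : ∃ n ∈ [0, 15, 24], e n = (x : G) := by
  obtain ⟨m, rfl⟩ := Subgroup.mem_zpowers_iff.mp hx
  have h3 : (e 15) ^ (3 : ℤ) = 1 := by
    rw [show (3 : ℤ) = ((3 : ℕ) : ℤ) by norm_num, zpow_natCast, pow_succ, pow_two, c_cube M]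
  have hm : ((cK e ^ m : Kc e) : G) = e 15 ^ (m % 3) := by
    rw [Subgroup.coe_zpow]
    show e 15 ^ m = _
    conv_lhs => rw [← Int.mul_ediv_add_emod m 3, zpow_add, zpow_mul, h3, one_zpow, one_mul]
  have h1 := Int.emod_nonneg m (show (3 : ℤ) ≠ 0 by norm_num)
  have h2 := Int.emod_lt_of_pos m (show (0 : ℤ) < 3 by norm_num)
  obtain h | h | h : m % 3 = 0 ∨ m % 3 = 1 ∨ m % 3 = 2 := by omega
  · exact ⟨0, by decide, by rw [hm, h, zpow_zero, M.one]⟩
  · exact ⟨15, by decide, by rw [hm, h, zpow_one]⟩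
  · refine ⟨24, by decide, ?_⟩
    rw [hm, h, ← pts_facts.2.2.2.2.2.2.2.2, M.mul _ _ (by norm_num) (by norm_num),
      show (2 : ℤ) = ((2 : ℕ) : ℤ) by norm_num, zpow_natCast, pow_two]

include K

theorem pts : Pts z e k := by
  obtain ⟨g15, gz, gu, gr, gg, fur, fr15, -, f24⟩ := pts_facts
  have kz := K.kap.rot
  obtain ⟨huz, hzz, huu, -, hcu, -⟩ := M.uz
  set c := e 15 with hc
  set g := e 12 with hg
  have hgg : g * g = 1 := by rw [hg, ← M.mul _ _ (by norm_num) (by norm_num), gg, M.one]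
  have hgi : g⁻¹ = g := inv_eq_of_mul_eq_one_right hgg
  have hrr : e 960 * e 960 = 1 := by
    rw [← M.mul _ _ (by norm_num) (by norm_num), show mulC 960 960 = 0 by decide +kernel, M.one]
  have hcz : Commute c z := M.comm_z (by norm_num)
  have hcu' : Commute c (e 1800) := M.comm_u (by norm_num) (by decide +kernel)
  have hrc : Commute (e 960) c := M.comm (by norm_num) (by norm_num) fr15
  have hkc : Commute k c := kz.dc
  have hc3 := c_cube M
  have cg : ∀ a b, a < 1920 → cjC 12 a = b → g * e a * g = e b := fun a b ha h => by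
    rw [← h, (M.cj (by norm_num) ha).2, hgi]
  have gzz : g * z * g = z := by rw [← M.ez]; exact cg 60 60 (by norm_num) gz
  have guu : g * e 1800 * g = e 960 := cg _ _ (by norm_num) gu
  have grr : g * e 960 * g = e 1800 := cg _ _ (by norm_num) gr
  have gcc : g * c * g = c⁻¹ := by
    rw [hc, cg 15 24 (by norm_num) g15]
    refine eq_inv_of_mul_eq_one_left ?_
    rw [← f24, M.mul _ _ (by norm_num) (by norm_num)]
    exact c_cube M
  set a := k * c with ha
  have hac : Commute a c := hkc.mul_left (Commute.refl c)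
  have az : a * z * a⁻¹ = e 1800 := by
    calc a * z * a⁻¹ = k * (c * z * c⁻¹) * k⁻¹ := by rw [ha]; group
      _ = _ := by rw [hcz.eq, mul_inv_cancel_right, kz.dz]
  have au : a * e 1800 * a⁻¹ = e 1800 * z := by
    calc a * e 1800 * a⁻¹ = k * (c * e 1800 * c⁻¹) * k⁻¹ := by rw [ha]; group
      _ = _ := by rw [hcu'.eq, mul_inv_cancel_right, kz.du, huz]
  have a3 : a * a * a = 1 := by
    calc a * a * a = k * k * k * (c * c * c) := by
          rw [ha]
          have h1 : Commute c k := hkc.symm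
          calc k * c * (k * c) * (k * c) = k * (c * k) * c * k * c := by group
            _ = k * k * (c * c * k) * c := by rw [h1.eq]; group
            _ = k * k * (k * (c * c)) * c := by rw [(h1.mul_left h1).eq]
            _ = _ := by group
      _ = 1 := by rw [K.kap.cube M, hc3, one_mul]
  have ra : e 960 * a * e 960 = a⁻¹ := by
    calc e 960 * a * e 960 = e 960 * k * (c * e 960) := by rw [ha]; group
      _ = e 960 * k * e 960 * c := by rw [← hrc.eq]; group
      _ = k⁻¹ * (c * c * c) * c⁻¹ := by rw [K.relA, ← hc]; group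
      _ = a⁻¹ := by rw [hc3, mul_one, ha, mul_inv_rev, hkc.inv_inv.eq]
  have hflip : ∀ x y : G, g * x * g * (g * y * g) = g * (x * y) * g := fun x y => by
    calc g * x * g * (g * y * g) = g * x * (g * g) * y * g := by group
      _ = _ := by rw [hgg]; group
  have hinv : ∀ x : G, (g * x * g)⁻¹ = g * x⁻¹ * g := fun x => by rw [mul_inv_rev, mul_inv_rev, hgi, mul_assoc]
  refine ⟨{ zz := hzz, z1 := ?_, uu := huu, rr := hrr, zu := hcu.eq, zr := (M.comm_z (by norm_num)).eq,
            ur := ?_, a3 := a3, b3 := ?_, az := az, au := au, ra := ra, bz := ?_, br := ?_, ub := ?_ },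
          hcz.symm, hcu'.symm, hrc, hac, ?_⟩
  · intro h
    have := M.inj 60 0 (by norm_num) (by norm_num) (by rw [M.ez, M.one, h])
    omega
  · rw [← M.mul _ _ (by norm_num) (by norm_num), fur, M.mul _ _ (mulC_lt (by norm_num) (by norm_num)) (by norm_num),
      M.mul _ _ (by norm_num) (by norm_num), M.ez]
  · rw [hflip, hflip, a3, mul_one, hgg]
  · conv_lhs => rw [← gzz, hinv, hflip, hflip, az, guu]
  · conv_lhs => rw [← guu, hinv, hflip, hflip, au]
    rw [← hflip, guu, gzz]
  · conv_lhs => rw [← grr]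
    rw [hflip, hflip, ra, ← hinv]
  · show g * a * g * c = c * (g * a * g)
    have hcg : c = g * c⁻¹ * g := by rw [← hinv, gcc, inv_inv]
    rw [hcg, hflip, hflip, hac.inv_right.eq]

end

theorem exists_pi [Finite G] (M : Mdl z e) (K : Kappa z e k) (hone : OneClass G) :
    ∃ π : Kc e →* A6, Function.Surjective π ∧ ∀ x : Kc e, π x = 1 ↔ x ∈ Zc e := by
  have P := pts M K
  let zK : Kc e := ⟨z, mem_Kc.mpr P.mz⟩
  let mk := QuotientGroup.mk' (Zc e)
  have hker : ∀ x : Kc e, mk x = 1 ↔ x ∈ Zc e := fun x => QuotientGroup.eq_one_iff x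
  have hlt3 : ∀ n ∈ [0, 15, 24], n < 1920 := by decide
  have hnz : ∀ (x : G) (hx : Commute x (e 15)), x ≠ 1 → x * x = 1 → mk ⟨x, mem_Kc.mpr hx⟩ ≠ 1 := by
    intro x hx h1 h2 h
    obtain ⟨n, hn, hne⟩ := Zc_cases M ((hker _).mp h)
    have hn' := hlt3 n hn
    have : mulC n n = 0 := M.inj _ _ (mulC_lt hn' hn') (by norm_num) (by
      rw [M.mul _ _ hn' hn', hne, M.one]; exact h2)
    have hall : ∀ n ∈ [0, 15, 24], mulC n n = 0 → n = 0 := by decide +kernel
    rw [hall n hn this, M.one] at hne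
    exact h1 hne.symm
  have hz2 : orderOf (mk zK) = 2 := by
    refine orderOf_eq_prime ?_ (hnz z P.mz P.cfg.z1 P.cfg.zz)
    rw [pow_two, ← map_mul, show zK * zK = 1 from Subtype.ext P.cfg.zz, map_one]
  -- the centraliser of the image of `z`
  obtain ⟨hlt, hmul, hinj, h1, hr2, hlist⟩ := d8f_facts
  let f : DihedralGroup 4 →* Kc e := MonoidHom.mk' (fun x => ⟨e (d8f x), mem_Kc.mpr
    (M.comm (hlt x).1 (by norm_num) (hlt x).2)⟩) (fun x y => Subtype.ext (by
      show e (d8f (x * y)) = e (d8f x) * e (d8f y)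
      rw [hmul, M.mul _ _ (hlt x).1 (hlt y).1]))
  have hfz : ∀ x, mk (f x) ∈ Subgroup.centralizer ({mk zK} : Set _) := fun x => by
    rw [Subgroup.mem_centralizer_singleton_iff, ← map_mul, ← map_mul]
    exact congrArg mk (Subtype.ext (M.comm_z (hlt x).1).eq)
  let F : DihedralGroup 4 →* Subgroup.centralizer ({mk zK} : Set (Kc e ⧸ Zc e)) := (mk.comp f).codRestrict _ hfz
  have hFinj : Function.Injective F := (injective_iff_map_eq_one F).mpr fun x hx => by
    obtain ⟨n, hn, hne⟩ := Zc_cases M ((hker _).mp (congrArg Subtype.val hx))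
    exact hinj x (M.inj _ _ (hlt3 n hn) (hlt x).1 hne ▸ hn)
  have hFsurj : Function.Surjective F := by
    rintro ⟨q, hq⟩
    obtain ⟨x, rfl⟩ := QuotientGroup.mk'_surjective (Zc e) q
    rw [Subgroup.mem_centralizer_singleton_iff, ← map_mul, ← map_mul] at hq
    obtain ⟨n, hn, hne⟩ := Zc_cases M (QuotientGroup.eq.mp hq)
    have hxz : Commute (x : G) z := by
      have hn' := hlt3 n hn
      have hne' : ((x : G) * z)⁻¹ * (z * x) = e n := hne.symm
      -- `z` times an element of order dividing three is an involution only if that element is one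
      have hconj : (x : G)⁻¹ * z * x = z * e n := by rw [← hne']; group
      have hnn : mulC n n = 0 := M.inj _ _ (mulC_lt hn' hn') (by norm_num) (by
        rw [M.mul _ _ hn' hn', M.one]
        have h2 : z * e n * (z * e n) = 1 := by
          rw [← hconj]
          calc (x : G)⁻¹ * z * x * ((x : G)⁻¹ * z * x) = (x : G)⁻¹ * (z * z) * x := by group
            _ = 1 := by rw [P.cfg.zz]; group
        calc e n * e n = z * z * (e n * e n) := by rw [P.cfg.zz, one_mul]
          _ = z * (z * e n) * e n := by group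
          _ = z * (e n * z) * e n := by rw [(M.comm_z hn').eq]
          _ = 1 := by rw [← h2]; group)
      have hall : ∀ n ∈ [0, 15, 24], mulC n n = 0 → n = 0 := by decide +kernel
      rw [hall n hn hnn, M.one, mul_one] at hconj
      show (x : G) * z = z * x
      nth_rewrite 1 [← hconj]
      group
    obtain ⟨a, ha, hae⟩ := M.surj _ hxz
    have hac : mulC a 15 = mulC 15 a := M.inj _ _ (mulC_lt ha (by norm_num)) (mulC_lt (by norm_num) ha) (by
      rw [M.mul _ _ ha (by norm_num), M.mul _ _ (by norm_num) ha, hae, (mem_Kc.mp x.2).eq])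
    have h := List.all_eq_true.mp d8f_cover.1 a (List.mem_range.mpr ha)
    simp only [hac, beq_self_eq_true, Bool.not_true, Bool.false_or, List.any_eq_true, beq_iff_eq] at h
    obtain ⟨b, hb, m, hm, hbm⟩ := h
    obtain ⟨y, rfl⟩ := d8f_cover.2 b hb
    refine ⟨y, Subtype.ext ?_⟩
    show mk (f y) = mk x
    refine QuotientGroup.eq.mpr ?_
    have hm' : (⟨e m, mem_Kc.mpr (by
        have hall : ∀ n ∈ [0, 15, 24], mulC n 15 = mulC 15 n := by decide +kernel
        exact M.comm (hlt3 m hm) (by norm_num) (hall m hm))⟩ : Kc e) ∈ Zc e := by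
      simp only [List.mem_cons, List.not_mem_nil, or_false] at hm
      rcases hm with rfl | rfl | rfl
      · convert one_mem (Zc e) using 1; exact Subtype.ext M.one
      · exact Subgroup.mem_zpowers _
      · convert mul_mem (Subgroup.mem_zpowers (cK e)) (Subgroup.mem_zpowers (cK e)) using 1
        refine Subtype.ext ?_
        show e 24 = e 15 * e 15
        rw [← M.mul _ _ (by norm_num) (by norm_num), pts_facts.2.2.2.2.2.2.2.2]
    convert hm' using 1
    refine Subtype.ext ?_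
    show (e (d8f y))⁻¹ * x = e m
    rw [← hae, ← hbm, M.mul _ _ (hlt y).1 (hlt3 m hm), inv_mul_cancel_left]
  let E : Subgroup.centralizer ({mk zK} : Set (Kc e ⧸ Zc e)) ≃* DihedralGroup 4 :=
    (MulEquiv.ofBijective F ⟨hFinj, hFsurj⟩).symm
  -- the order is divisible by five
  obtain ⟨f5, hf5c, hf5, hf51⟩ := exists_five M K hone
  obtain ⟨a, ha⟩ := kappa_conj M K hone
  have hg5 : Commute (a * f5 * a⁻¹) (e 15) := by
    rcases ha with ha | ha <;> rw [← ha]
    · simpa using hf5c.map (MulAut.conj a).toMonoidHom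
    · simpa using hf5c.inv_right.map (MulAut.conj a).toMonoidHom
  set q5 := mk ⟨a * f5 * a⁻¹, mem_Kc.mpr hg5⟩ with hq5
  have hq51 : q5 ≠ 1 := by
    intro h
    obtain ⟨n, hn, hne⟩ := Zc_cases M ((hker _).mp h)
    have h3 : (a * f5 * a⁻¹) * (a * f5 * a⁻¹) * (a * f5 * a⁻¹) = 1 := by
      have hall : ∀ n ∈ [0, 15, 24], mulC (mulC n n) n = 0 := by decide +kernel
      have hn' := hlt3 n hn
      have he : e n = a * f5 * a⁻¹ := hne
      rw [← he, ← M.mul _ _ hn' hn', ← M.mul _ _ (mulC_lt hn' hn') hn', hall n hn, M.one]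
    have h3' : f5 ^ 3 = 1 := by
      calc f5 ^ 3 = a⁻¹ * ((a * f5 * a⁻¹) * (a * f5 * a⁻¹) * (a * f5 * a⁻¹)) * a := by
            rw [pow_succ, pow_two]; group
        _ = 1 := by rw [h3]; group
    refine hf51 ?_
    calc f5 = f5 ^ 3 * f5 ^ 3 * (f5 ^ 5)⁻¹ := by group
      _ = 1 := by rw [h3', hf5]; simp
  have hq5o : orderOf q5 = 5 := by
    haveI : Fact (Nat.Prime 5) := ⟨by norm_num⟩
    refine orderOf_eq_prime ?_ hq51
    rw [hq5, ← map_pow, show (⟨a * f5 * a⁻¹, mem_Kc.mpr hg5⟩ : Kc e) ^ 5 = 1 from Subtype.ext (by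
      show (a * f5 * a⁻¹) ^ 5 = 1
      rw [conj_pow, hf5, mul_one, mul_inv_cancel]), map_one]
  have h5dvd : 5 ∣ Nat.card (Kc e ⧸ Zc e) := hq5o ▸ orderOf_dvd_natCard q5
  have aK : k * e 15 ∈ Kc e := mem_Kc.mpr P.ma
  have bK : e 12 * (k * e 15) * e 12 ∈ Kc e := mem_Kc.mpr P.mb
  let uK : Kc e := ⟨e 1800, mem_Kc.mpr P.mu⟩
  let rK : Kc e := ⟨e 960, mem_Kc.mpr P.mr⟩
  have hzu : mk uK = mk ⟨_, aK⟩ * mk zK * (mk ⟨_, aK⟩)⁻¹ := by
    rw [← map_inv, ← map_mul, ← map_mul]; exact congrArg mk (Subtype.ext P.cfg.az.symm)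
  have hzr : mk rK = mk ⟨_, bK⟩ * mk zK * (mk ⟨_, bK⟩)⁻¹ := by
    rw [← map_inv, ← map_mul, ← map_mul]; exact congrArg mk (Subtype.ext P.cfg.bz.symm)
  rcases H78.D8.dihedral_eight_centralizer hz2 ⟨E⟩ with h | ⟨⟨φ⟩⟩ | ⟨⟨φ⟩⟩ | ⟨⟨φ⟩⟩ | ⟨⟨φ⟩⟩
  · exfalso
    haveI : (Cfsg.oddCore (Kc e ⧸ Zc e)).Normal := H1.pPrimeCore_normal' 2 _
    obtain ⟨cc, hcc, o, ho, hco⟩ :=
      Subgroup.mem_sup_of_normal_right.mp (h ▸ Subgroup.mem_top (mk ⟨_, aK⟩))
    rw [Subgroup.mem_centralizer_singleton_iff] at hcc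
    have hmem : mk zK⁻¹ * mk uK ∈ Cfsg.oddCore (Kc e ⧸ Zc e) := by
      have hn : (mk zK)⁻¹ * (o * mk zK * o⁻¹) ∈ Cfsg.oddCore (Kc e ⧸ Zc e) := by
        have := mul_mem (Subgroup.Normal.conj_mem inferInstance o ho (mk zK)⁻¹) (inv_mem ho)
        simpa [mul_assoc] using this
      have := Subgroup.Normal.conj_mem inferInstance _ hn cc
      convert this using 1
      rw [map_inv, hzu, ← hco]
      calc (mk zK)⁻¹ * (cc * o * mk zK * (cc * o)⁻¹)
          = (mk zK)⁻¹ * cc * (o * mk zK * o⁻¹) * cc⁻¹ := by group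
        _ = cc * (mk zK)⁻¹ * (o * mk zK * o⁻¹) * cc⁻¹ := by
          rw [((show Commute cc (mk zK) from hcc).inv_right).eq]
        _ = _ := by group
    have hsq : (zK⁻¹ * uK) * (zK⁻¹ * uK) = 1 := Subtype.ext (by
      show z⁻¹ * e 1800 * (z⁻¹ * e 1800) = 1
      rw [inv_eq_of_mul_eq_one_right P.cfg.zz, ← mul_assoc, mul_assoc z (e 1800) z, P.cfg.zu,
        ← mul_assoc, P.cfg.zz, one_mul, P.cfg.uu])
    rw [← map_mul] at hmem
    have hne : mk (zK⁻¹ * uK) ≠ 1 := hnz (z⁻¹ * e 1800) (P.mz.inv_left.mul_left P.mu) (fun h => by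
      rw [inv_mul_eq_one, ← M.ez] at h
      have := M.inj 60 1800 (by norm_num) (by norm_num) h
      omega) (congrArg Subtype.val hsq)
    have ho2 : orderOf (⟨_, hmem⟩ : Cfsg.oddCore (Kc e ⧸ Zc e)) = 2 := by
      refine orderOf_eq_prime (Subtype.ext ?_) (fun h => hne (congrArg Subtype.val h))
      show mk (zK⁻¹ * uK) ^ 2 = 1
      rw [pow_two, ← map_mul, hsq, map_one]
    have hd := ho2 ▸ orderOf_dvd_natCard (⟨_, hmem⟩ : Cfsg.oddCore (Kc e ⧸ Zc e))
    exact absurd hd (fun hd => by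
      have := Nat.dvd_gcd hd (dvd_refl 2)
      rw [H1.card_pPrimeCore_coprime 2 (Kc e ⧸ Zc e)] at this
      norm_num at this)
  · exfalso
    rw [Nat.card_congr φ.toEquiv, Nat.card_perm, Nat.card_fin] at h5dvd
    norm_num [Nat.factorial] at h5dvd
  · exfalso
    classical
    set s := φ (mk zK) with hs
    have hcard : (Finset.univ.filter fun x : Equiv.Perm (Fin 5) => x * s = s * x).card = 8 := by
      rw [← Fintype.card_subtype, ← Nat.card_eq_fintype_card]
      refine (Nat.card_congr ?_).trans ((Nat.card_congr E.toEquiv).trans (by rw [Nat.card_eq_fintype_card, DihedralGroup.card]))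
      exact
        { toFun := fun x => ⟨φ.symm x.1, Subgroup.mem_centralizer_singleton_iff.mpr (φ.injective (by
            rw [map_mul, map_mul, φ.apply_symm_apply]; exact x.2))⟩
          invFun := fun y => ⟨φ y.1, by
            rw [hs, ← map_mul, ← map_mul, Subgroup.mem_centralizer_singleton_iff.mp y.2]⟩
          left_inv := fun x => by simp
          right_inv := fun y => by simp }
    have hs2 : s * s = 1 := by rw [hs, ← map_mul, ← pow_two, ← hz2, pow_orderOf_eq_one, map_one]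
    have hs1 : s ≠ 1 := fun h0 => by
      rw [hs, MulEquiv.map_eq_one_iff] at h0
      rw [h0, orderOf_one] at hz2
      omega
    obtain ⟨x, hx2, hx1, hxc, hsign⟩ := perm_five_criterion s hs2 hs1 hcard
    obtain ⟨y, hy⟩ := hFsurj ⟨φ.symm x, Subgroup.mem_centralizer_singleton_iff.mpr (φ.injective (by
      rw [map_mul, map_mul, φ.apply_symm_apply]; exact hxc))⟩
    have hy' : mk (f y) = φ.symm x := congrArg Subtype.val hy
    have hy2 : y * y = 1 := hFinj (by
      rw [map_mul, map_one, hy]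
      exact Subtype.ext (φ.injective (by
        show φ (φ.symm x * φ.symm x) = φ 1
        rw [map_mul, φ.apply_symm_apply, hx2, map_one])))
    have hy1 : y ≠ 1 := fun h0 => hx1 (by
      rw [h0, map_one, map_one] at hy'
      have := congrArg φ hy'
      rwa [map_one, φ.apply_symm_apply, eq_comm] at this)
    -- every involution of the dihedral group is fused with `z`
    have hcls : ∀ b ∈ [0, 60, 840, 900, 960, 1020, 1800, 1860], mulC b b = 0 → b ≠ 0 →
        b ∈ [60, 1800, 1860, 960, 1020] := by decide +kernel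
    have hb := hcls (d8f y) (by simpa using hlist y)
      (by rw [← hmul, hy2, h1]) (fun h0 => hy1 (hinj y (by rw [h0]; decide)))
    refine hsign ?_
    have hsgn : ∀ (w : Kc e), Equiv.Perm.sign (φ (mk w * mk zK * (mk w)⁻¹)) = Equiv.Perm.sign s := fun w => by
      rw [map_mul, map_mul, map_inv, map_mul, map_mul, map_inv, hs, mul_comm (Equiv.Perm.sign (φ (mk w))),
        mul_inv_cancel_right]
    rw [show x = φ (mk (f y)) by rw [hy', φ.apply_symm_apply]]
    have hv : ∀ (v : Nat) (hv : Commute (e v) (e 15)) (w : Kc e), e v = (w : G) * z * (w : G)⁻¹ →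
        d8f y = v → Equiv.Perm.sign (φ (mk (f y))) = Equiv.Perm.sign s := by
      intro v hv w hw hyv
      rw [← hsgn w, ← map_inv, ← map_mul, ← map_mul]
      congr 3
      exact Subtype.ext (by show e (d8f y) = _; rw [hyv, hw]; rfl)
    obtain ⟨huz, -, -, -, -, -⟩ := M.uz
    simp only [List.mem_cons, List.not_mem_nil, or_false] at hb
    rcases hb with hb | hb | hb | hb | hb
    · exact hv 60 (by rw [M.ez]; exact P.mz) 1 (by simp [M.ez]) hb
    · exact hv 1800 P.mu ⟨_, aK⟩ P.cfg.az.symm hb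
    · refine hv 1860 (by rw [huz]; exact P.mu.mul_left P.mz) (⟨_, aK⟩ * ⟨_, aK⟩) ?_ hb
      show e 1860 = k * e 15 * (k * e 15) * z * (k * e 15 * (k * e 15))⁻¹
      rw [huz, ← P.cfg.au, ← P.cfg.az]; group
    · exact hv 960 P.mr ⟨_, bK⟩ P.cfg.bz.symm hb
    · refine hv 1020 (by
        rw [← show mulC 960 60 = 1020 by decide +kernel, M.mul _ _ (by norm_num) (by norm_num), M.ez]
        exact P.mr.mul_left P.mz) (⟨_, bK⟩ * ⟨_, bK⟩) ?_ hb
      show e 1020 = e 12 * (k * e 15) * e 12 * (e 12 * (k * e 15) * e 12) * z *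
        (e 12 * (k * e 15) * e 12 * (e 12 * (k * e 15) * e 12))⁻¹
      rw [show e 1020 = e 960 * z by
        rw [← show mulC 960 60 = 1020 by decide +kernel, M.mul _ _ (by norm_num) (by norm_num), M.ez],
        ← P.cfg.br, ← P.cfg.bz]
      group
  · exfalso
    rw [Nat.card_congr φ.toEquiv, Nat.card_eq_fintype_card, card_sl_three] at h5dvd
    norm_num at h5dvd
  · exact ⟨φ.toMonoidHom.comp mk, φ.surjective.comp (QuotientGroup.mk'_surjective _), fun x => by
      show φ (mk x) = 1 ↔ _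
      rw [MulEquiv.map_eq_one_iff, hker]⟩

end H36.J3U
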