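import Cfsg.Agent.H36.J3U.Tab
import Cfsg.Agent.H36.J3U.Data
import Mathlib.GroupTheory.GroupAction.Quotient

/-!
Checker for the double coset certificate.
-/

set_option autoImplicit false

namespace H36.J3U

/-- The fact with a given number. -/
def fact (k : Nat) : Nat := factTree.get factDepth k

def fT (n : Nat) : Nat := n &&& 3
def fKind (n : Nat) : Nat := (n >>> 2) &&& 3
def fI (n : Nat) : Nat := (n >>> 4) &&& 511
def fB (n : Nat) : Nat := (n >>> 13) &&& 2047
def fJ (n : Nat) : Nat := (n >>> 24) &&& 511
def fA (n : Nat) : Nat := (n >>> 33) &&& 2047
def fRel (n : Nat) : Nat := (n >>> 44) &&& 15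
def fPre (n : Nat) : Nat := (n >>> 48) &&& 63
def fLen (n : Nat) : Nat := (n >>> 54) &&& 63
def fMoves (n : Nat) : List Nat := (List.range (fLen n)).map fun t => (n >>> (60 + 14 * t)) &&& 16383
def cMoves (n : Nat) : List Nat := (List.range (n &&& 63)).map fun t => (n >>> (6 + 14 * t)) &&& 16383

def parent (j : Nat) : Nat := entry parTab 11 j

/-- Push a step on a reduced stack of steps. -/
def push (S : List Nat) (s : Nat) : List Nat :=
  if s < 1920 then
    match S with
    | [] => if s = oneC then [] else [s]
    | t :: S' =>
      if t < 1920 then (if mulC s t = oneC then S' else mulC s t :: S')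
      else if s = oneC then S else s :: S
  else
    match S with
    | [] => [s]
    | t :: S' => if (s = 1920 ∧ t = 1921) ∨ (s = 1921 ∧ t = 1920) then S' else s :: S

/-- The reduced stack of a list of steps. -/
def red (L : List Nat) : List Nat := L.foldl push []

/-- One move: new node, new element, the steps it reads. -/
def move (k : Nat) (m i b : Nat) : Option (Nat × Nat × List Nat) :=
  let x := m >>> 3
  if m &&& 3 = 0 then
    if x < 1920 then some (i, mulC x b, [x]) else none
  else
    let n := fact x
    let fwd := m &&& 4 == 0
    if k ≤ x then none
    else if m &&& 3 = 1 then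
      if fT n = 0 then
        if fwd then
          if fI n = i then some (fJ n, mulC (mulC b (invC (fB n))) (fA n), []) else none
        else
          if fJ n = i then some (fI n, mulC (mulC b (invC (fA n))) (fB n), []) else none
      else none
    else
      if fT n = 1 then
        if fwd then
          let d := phiC (mulC b (invC (fB n)))
          if fI n = i ∧ d < 1920 then some (fJ n, mulC d (fA n), [1920]) else none
        else
          let d := phiInvC (mulC b (invC (fA n)))
          if fJ n = i ∧ d < 1920 then some (fI n, mulC d (fB n), [1921]) else none
      else none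

/-- Follow moves. -/
def walk (k : Nat) : List Nat → Nat → Nat → Option (Nat × Nat × List Nat)
  | [], i, b => some (i, b, [])
  | m :: ms, i, b =>
    match move k m i b with
    | some (i', b', w) =>
      match walk k ms i' b' with
      | some (i'', b'', w') => some (i'', b'', w ++ w')
      | none => none
    | none => none

/-- The target stack of a rule. -/
def target (r p : Nat) : List Nat :=
  if r < relators.length then red ((relators.getD r []).drop p ++ (relators.getD r []).take p) else []

/-- Check one fact. -/
def checkFact (k : Nat) : Bool :=
  let n := fact k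
  decide (fB n < 1920) && decide (fA n < 1920) &&
  if fKind n = 0 then fT n == 0 && fI n == 0 && fJ n == 0
  else if fKind n = 1 then fT n == 1 && decide (fI n < fJ n) && fA n == oneC && parent (fJ n) == k
  else if fKind n = 2 then fT n == 1 && decide (fJ n < fI n) && fB n == oneC && parent (fI n) == k
  else
    match walk k (fMoves n) (fI n) (fB n) with
    | some (i, b, w) => i == fJ n && b == fA n &&
        (if fT n = 0 then red w == target (fRel n) (fPre n)
         else fT n == 1 && red (w ++ [1921]) == target (fRel n) (fPre n))
    | none => false

/-- Check closure at a live node and a coset representative. -/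
def checkClose (t : Nat) : Bool :=
  match walk numFacts (cMoves (closeData.getD t 0)) (liveNodes.getD (t / 10) 0) (cosetReps.getD (t % 10) 0) with
  | some (i, _, w) => liveNodes.contains i && red w == [1920]
  | none => false

theorem facts_ok0 : (List.range' 0 400).all checkFact = true := by decide +kernel
theorem facts_ok1 : (List.range' 400 400).all checkFact = true := by decide +kernel
theorem facts_ok2 : (List.range' 800 400).all checkFact = true := by decide +kernel
theorem facts_ok3 : (List.range' 1200 382).all checkFact = true := by decide +kernel

theorem checkFact_ok {k : Nat} (hk : k < numFacts) : checkFact k = true := by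
  have hk' : k < 1582 := hk
  rcases (show k < 400 ∨ (400 ≤ k ∧ k < 800) ∨ (800 ≤ k ∧ k < 1200) ∨ (1200 ≤ k ∧ k < 1582) by omega)
    with h | ⟨h, h'⟩ | ⟨h, h'⟩ | ⟨h, h'⟩
  · exact List.all_eq_true.mp facts_ok0 k (List.mem_range'_1.mpr ⟨Nat.zero_le _, by omega⟩)
  · exact List.all_eq_true.mp facts_ok1 k (List.mem_range'_1.mpr ⟨h, by omega⟩)
  · exact List.all_eq_true.mp facts_ok2 k (List.mem_range'_1.mpr ⟨h, by omega⟩)
  · exact List.all_eq_true.mp facts_ok3 k (List.mem_range'_1.mpr ⟨h, by omega⟩)

theorem close_ok : (List.range 810).all checkClose = true := by decide +kernel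

theorem cover_ok : (List.range 1920).all (fun b =>
    (List.range 10).any fun t => decide (phiC (mulC b (invC (cosetReps.getD t 0))) < 1920)) = true := by
  decide +kernel

theorem live_zero : liveNodes.contains 0 = true ∧ liveNodes.length = 81 ∧ cosetReps.length = 10 ∧
    cosetReps.all (· < 1920) = true := by decide +kernel

end H36.J3U
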