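import Cfsg.Agent.H36.J3U.Model

/-!
The labelled centraliser of the involution as the group given by the tables.
-/

set_option autoImplicit false
set_option synthInstance.maxSize 4000
set_option synthInstance.maxHeartbeats 200000

namespace H36.J3U

open H36.HJ
open H36.J2U (app app_mul app_inv mv mv_spec)

local notation "A5" => alternatingGroup (Fin 5)

variable {G : Type*} [Group G]

/-- `a` or `1`. -/
def pb (b : Bool) (a : G) : G := bif b then a else 1

/-- Four involutions, pairwise anticommuting with respect to the central involution `z`. -/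
structure Four (z : G) (Q : Subgroup G) (v : Fin 4 → G) : Prop where
  zz : z * z = 1
  z_ne : z ≠ 1
  zmem : z ∈ Q
  mem : ∀ i, v i ∈ Q
  sq : ∀ i, v i * v i = 1
  commz : ∀ i, Commute (v i) z
  anti : ∀ i j, i ≠ j → v i * v j = v j * v i * z

variable {z : G} {Q : Subgroup G} {v : Fin 4 → G}

/-- The monomial of five bits. -/
def qb (z : G) (v : Fin 4 → G) (e a b c d : Bool) : G :=
  pb e z * (pb a (v 0) * (pb b (v 1) * (pb c (v 2) * pb d (v 3))))

/-- The element of the extraspecial group with a given number. -/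
def qv (z : G) (v : Fin 4 → G) (q : Nat) : G :=
  qb z v (q.testBit 0) (q.testBit 1) (q.testBit 2) (q.testBit 3) (q.testBit 4)

/-- The number of a monomial. -/
def enc (e a b c d : Bool) : Nat := e.toNat + 2 * a.toNat + 4 * b.toNat + 8 * c.toNat + 16 * d.toNat

theorem enc_bits : ∀ e a b c d : Bool, (enc e a b c d).testBit 0 = e ∧ (enc e a b c d).testBit 1 = a ∧
    (enc e a b c d).testBit 2 = b ∧ (enc e a b c d).testBit 3 = c ∧ (enc e a b c d).testBit 4 = d := by
  decide +kernel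

theorem qv_enc (z : G) (v : Fin 4 → G) (e a b c d : Bool) : qv z v (enc e a b c d) = qb z v e a b c d := by
  obtain ⟨h0, h1, h2, h3, h4⟩ := enc_bits e a b c d
  rw [qv, h0, h1, h2, h3, h4]

/-- Right multiplication by a basic involution. -/
def rmSpec (i : Fin 4) (q : Nat) : Nat :=
  let e := q.testBit 0
  let a := q.testBit 1
  let b := q.testBit 2
  let c := q.testBit 3
  let d := q.testBit 4
  match i with
  | 0 => enc (e ^^ d ^^ c ^^ b) (!a) b c d
  | 1 => enc (e ^^ d ^^ c) a (!b) c d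
  | 2 => enc (e ^^ d) a b (!c) d
  | 3 => enc e a b c (!d)

theorem pb_z (F : Four z Q v) (e f : Bool) : pb e z * pb f z = pb (e ^^ f) z := by
  cases e <;> cases f <;> simp [pb, F.zz]

theorem zfront (F : Four z Q v) {X : G} (hX : Commute X z) (f : Bool) (Y : G) :
    X * (pb f z * Y) = pb f z * (X * Y) := by
  cases f
  · simp [pb]
  · simp only [pb, cond_true]; rw [← mul_assoc, hX.eq, mul_assoc]

theorem pb_comm (F : Four z Q v) (b : Bool) (i : Fin 4) : Commute (pb b (v i)) z := by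
  cases b
  · exact Commute.one_left z
  · exact F.commz i

theorem pushq (F : Four z Q v) {i j : Fin 4} (h : i ≠ j) (b : Bool) (Y : G) :
    pb b (v i) * (v j * Y) = v j * (pb b z * (pb b (v i) * Y)) := by
  cases b
  · simp [pb]
  · simp only [pb, cond_true]
    rw [← mul_assoc, F.anti i j h, mul_assoc (v j * v i), mul_assoc (v j)]
    congr 1
    rw [← mul_assoc, ← mul_assoc, (F.commz i).eq]

theorem absorb (F : Four z Q v) (b : Bool) (i : Fin 4) (Y : G) :
    pb b (v i) * (v i * Y) = pb (!b) (v i) * Y := by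
  cases b
  · simp [pb]
  · simp only [pb, cond_true, Bool.not_true, cond_false, one_mul]
    rw [← mul_assoc, F.sq, one_mul]

theorem push1 (F : Four z Q v) {i j : Fin 4} (h : i ≠ j) (b : Bool) :
    pb b (v i) * v j = v j * (pb b z * pb b (v i)) := by
  have e := pushq F h b 1
  rwa [mul_one, mul_one] at e

theorem qb_mul (F : Four z Q v) (e a b c d : Bool) (i : Fin 4) :
    qb z v e a b c d * v i = qv z v (rmSpec i (enc e a b c d)) := by
  obtain ⟨h0, h1, h2, h3, h4⟩ := enc_bits e a b c d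
  have hc := pb_comm F
  fin_cases i <;> simp only [Fin.zero_eta, Fin.mk_one, Fin.reduceFinMk]
  · simp only [rmSpec, h0, h1, h2, h3, h4, qv_enc]
    simp only [qb, mul_assoc]
    rw [push1 F (by decide : (3 : Fin 4) ≠ 0), pushq F (by decide : (2 : Fin 4) ≠ 0),
      pushq F (by decide : (1 : Fin 4) ≠ 0), absorb F]
    simp only [zfront F (hc _ _)]
    simp only [← mul_assoc, pb_z F]
    cases e <;> cases b <;> cases c <;> cases d <;> rfl
  · simp only [rmSpec, h0, h1, h2, h3, h4, qv_enc]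
    simp only [qb, mul_assoc]
    rw [push1 F (by decide : (3 : Fin 4) ≠ 1), pushq F (by decide : (2 : Fin 4) ≠ 1), absorb F]
    simp only [zfront F (hc _ _)]
    simp only [← mul_assoc, pb_z F]
    cases e <;> cases c <;> cases d <;> rfl
  · simp only [rmSpec, h0, h1, h2, h3, h4, qv_enc]
    simp only [qb, mul_assoc]
    rw [push1 F (by decide : (3 : Fin 4) ≠ 2), absorb F]
    simp only [zfront F (hc _ _)]
    simp only [← mul_assoc, pb_z F]
  · simp only [rmSpec, h0, h1, h2, h3, h4, qv_enc]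
    simp only [qb, mul_assoc]
    have e1 := absorb F d 3 1
    rw [mul_one, mul_one] at e1
    rw [e1]

theorem enc_testBit : ∀ q : Fin 32,
    enc ((q : Nat).testBit 0) ((q : Nat).testBit 1) ((q : Nat).testBit 2) ((q : Nat).testBit 3)
      ((q : Nat).testBit 4) = (q : Nat) := by decide +kernel

theorem rmSpec_lt : ∀ i : Fin 4, ∀ q : Fin 32, rmSpec i q < 32 := by decide +kernel

theorem qv_rm (F : Four z Q v) (i : Fin 4) {q : Nat} (hq : q < 32) :
    qv z v q * v i = qv z v (rmSpec i q) := by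
  have e := enc_testBit ⟨q, hq⟩
  simp only at e
  conv_rhs => rw [← e]
  exact qb_mul F _ _ _ _ _ i

/-- The product, from the rules. -/
def qmSpec (a b : Nat) : Nat :=
  let f := fun (i : Fin 4) (s : Bool) (q : Nat) => bif s then rmSpec i q else q
  f 3 (b.testBit 4) (f 2 (b.testBit 3) (f 1 (b.testBit 2) (f 0 (b.testBit 1)
    (enc (a.testBit 0 ^^ b.testBit 0) (a.testBit 1) (a.testBit 2) (a.testBit 3) (a.testBit 4)))))

theorem qmC_spec : ∀ a b : Fin 32, qmC a b = qmSpec a b ∧ qmC a b < 32 := by decide +kernel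

theorem enc_lt : ∀ e a b c d : Bool, enc e a b c d < 32 := by decide +kernel

theorem qv_mul (F : Four z Q v) {a b : Nat} (ha : a < 32) (hb : b < 32) :
    qv z v (qmC a b) = qv z v a * qv z v b := by
  rw [(qmC_spec ⟨a, ha⟩ ⟨b, hb⟩).1]
  set f := fun (i : Fin 4) (s : Bool) (q : Nat) => bif s then rmSpec i q else q with hf
  have step : ∀ (i : Fin 4) (s : Bool) {q : Nat}, q < 32 →
      f i s q < 32 ∧ qv z v (f i s q) = qv z v q * pb s (v i) := by
    intro i s q hq
    cases s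
    · exact ⟨hq, by simp [hf, pb]⟩
    · exact ⟨rmSpec_lt i ⟨q, hq⟩, (qv_rm F i hq).symm⟩
  have h0 : qv z v (enc (a.testBit 0 ^^ b.testBit 0) (a.testBit 1) (a.testBit 2) (a.testBit 3) (a.testBit 4)) =
      qv z v a * pb (b.testBit 0) z := by
    have hc : ∀ {X : G} (f : Bool), Commute X z → X * pb f z = pb f z * X := fun f hX => by
      cases f
      · simp [pb]
      · exact hX.eq
    rw [qv_enc, qb, qv, qb, hc _ ((Commute.refl z).mul_left (((pb_comm F _ _).mul_left ((pb_comm F _ _).mul_left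
      ((pb_comm F _ _).mul_left (pb_comm F _ _))))) |> fun h => by
        cases a.testBit 0
        · exact (Commute.one_left z).mul_left ((pb_comm F _ _).mul_left ((pb_comm F _ _).mul_left
            ((pb_comm F _ _).mul_left (pb_comm F _ _))))
        · exact h), ← mul_assoc (pb (b.testBit 0) z), pb_z F, Bool.xor_comm]
  show qv z v (f 3 _ (f 2 _ (f 1 _ (f 0 _ _)))) = _
  have s0 := step 0 (b.testBit 1) (enc_lt (a.testBit 0 ^^ b.testBit 0) (a.testBit 1) (a.testBit 2) (a.testBit 3) (a.testBit 4))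
  have s1 := step 1 (b.testBit 2) s0.1
  have s2 := step 2 (b.testBit 3) s1.1
  have s3 := step 3 (b.testBit 4) s2.1
  rw [s3.2, s2.2, s1.2, s0.2, h0]
  simp only [qv, qb, mul_assoc]

theorem qv_gen (z : G) (v : Fin 4 → G) :
    qv z v 0 = 1 ∧ qv z v 1 = z ∧ qv z v 2 = v 0 ∧ qv z v 4 = v 1 ∧ qv z v 8 = v 2 ∧ qv z v 16 = v 3 ∧
      qv z v 30 = v 0 * (v 1 * (v 2 * v 3)) := by
  simp [qv, qb, pb, Nat.testBit, Nat.shiftRight_eq_div_pow]

theorem qv_mem (F : Four z Q v) (q : Nat) : qv z v q ∈ Q := by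
  have h : ∀ (b : Bool) {g : G}, g ∈ Q → pb b g ∈ Q := fun b g hg => by
    cases b
    · exact one_mem Q
    · exact hg
  exact mul_mem (h _ F.zmem) (mul_mem (h _ (F.mem 0)) (mul_mem (h _ (F.mem 1))
    (mul_mem (h _ (F.mem 2)) (h _ (F.mem 3)))))

theorem q_witness : ∀ q : Fin 32, (q : Nat) = 0 ∨ (q : Nat) = 1 ∨ ∃ j ∈ [2, 4, 8, 16],
    qmC q j = qmC 1 (qmC j q) := by decide +kernel

theorem q_div : ∀ a b : Fin 32, ∃ c : Fin 32, qmC a c = b := by decide +kernel

theorem qv_eq_one (F : Four z Q v) {q : Nat} (hq : q < 32) (h : qv z v q = 1) : q = 0 := by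
  rcases q_witness ⟨q, hq⟩ with e | e | ⟨j, hj, e⟩
  · exact e
  · dsimp at e
    rw [e, (qv_gen z v).2.1] at h
    exact absurd h F.z_ne
  · have hj' : j < 32 := by
      simp only [List.mem_cons, List.not_mem_nil, or_false] at hj
      omega
    have := congrArg (qv z v) e
    rw [qv_mul F hq hj', qv_mul F (by norm_num) (qmC_spec ⟨j, hj'⟩ ⟨q, hq⟩).2, qv_mul F hj' hq, h,
      (qv_gen z v).2.1, one_mul, mul_one] at this
    exact absurd (mul_eq_right.mp this.symm) F.z_ne

theorem qv_inj (F : Four z Q v) {a b : Nat} (ha : a < 32) (hb : b < 32) (h : qv z v a = qv z v b) :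
    a = b := by
  obtain ⟨c, hc⟩ := q_div ⟨a, ha⟩ ⟨b, hb⟩
  have h1 : qv z v (qmC a c) = qv z v b := by rw [hc]
  rw [qv_mul F ha c.isLt, ← h, mul_eq_left] at h1
  have h0 := qv_eq_one F c.isLt h1
  have : qmC a 0 = a := by
    have := (show ∀ a : Fin 32, qmC a 0 = a by decide +kernel) ⟨a, ha⟩
    exact this
  rw [h0] at hc
  exact this.symm.trans hc

theorem qv_surj [Finite G] (F : Four z Q v) (hcard : Nat.card Q = 32) {g : G} (hg : g ∈ Q) :
    ∃ q, q < 32 ∧ qv z v q = g := by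
  let f : Fin 32 → Q := fun q => ⟨qv z v q, qv_mem F q⟩
  have hf : Function.Bijective f := (Nat.bijective_iff_injective_and_card f).mpr
    ⟨fun a b h => Fin.ext (qv_inj F a.isLt b.isLt (congrArg Subtype.val h)), by rw [hcard]; simp⟩
  obtain ⟨q, hq⟩ := hf.2 ⟨g, hg⟩
  exact ⟨q, q.isLt, congrArg Subtype.val hq⟩

variable [Finite G] {χ : Subgroup.centralizer ({z} : Set G) →* A5} {ψ : A5 →* G} {u : G}

theorem Lab.U_four (L : Lab z Q χ ψ u) : U ψ u 4 = u := by
  show (ψ 1)⁻¹ * u * ψ 1 = u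
  simp

theorem mv_inj : ∀ i j, app (mv j) i = 4 → i = j := by decide +kernel

theorem Lab.equiv (L : Lab z Q χ ψ u) (k : A5) (i : Fin 5) :
    ψ k * U ψ u i * (ψ k)⁻¹ = U ψ u (app k i) := by
  have h1 : app (mv (app k i) * k * (mv i)⁻¹) 4 = 4 := by
    rw [app_mul, app_mul, show app (mv i)⁻¹ 4 = i by
      conv_lhs => rw [← mv_spec i, ← app_mul, inv_mul_cancel]
      rfl, mv_spec]
  have h2 := L.stab _ h1
  rw [map_mul, map_mul, map_inv] at h2
  unfold U
  calc ψ k * ((ψ (mv i))⁻¹ * u * ψ (mv i)) * (ψ k)⁻¹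
      = (ψ (mv (app k i)))⁻¹ * ((ψ (mv (app k i)) * ψ k * (ψ (mv i))⁻¹) * u *
          (ψ (mv (app k i)) * ψ k * (ψ (mv i))⁻¹)⁻¹) * ψ (mv (app k i)) := by group
    _ = _ := by rw [h2]

theorem Lab.U_sat (L : Lab z Q χ ψ u) (i : Fin 5) : Hyp.Sat z Q (U ψ u i) := by
  have := L.hyp.sat_conj L.sat (L.comm (mv i)).inv_left
  simpa [U] using this

theorem Lab.U_ne (L : Lab z Q χ ψ u) {i j : Fin 5} (h : i ≠ j) :
    U ψ u j ≠ U ψ u i ∧ U ψ u j ≠ U ψ u i * z := by
  by_contra hc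
  have hp : U ψ u j = U ψ u i ∨ U ψ u j = U ψ u i * z := by tauto
  have e : ψ (mv i * (mv j)⁻¹) * u * (ψ (mv i * (mv j)⁻¹))⁻¹ = ψ (mv i) * U ψ u j * (ψ (mv i))⁻¹ := by
    rw [map_mul, map_inv, U]; group
  have h4 : app (mv i * (mv j)⁻¹) 4 = 4 := by
    refine L.only _ ?_
    rcases hp with hp | hp <;> rw [e, hp]
    · left; rw [U]; group
    · right
      calc ψ (mv i) * (U ψ u i * z) * (ψ (mv i))⁻¹
          = ψ (mv i) * U ψ u i * (z * (ψ (mv i))⁻¹) := by group
        _ = ψ (mv i) * U ψ u i * ((ψ (mv i))⁻¹ * z) := by rw [(L.comm _).inv_left.eq]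
        _ = u * z := by rw [U]; group
  rw [app_mul, show app (mv j)⁻¹ 4 = j by
    conv_lhs => rw [← mv_spec j, ← app_mul, inv_mul_cancel]
    rfl] at h4
  exact h (mv_inj j i h4).symm

theorem Lab.four (L : Lab z Q χ ψ u) : Four z Q fun i => U ψ u i.castSucc where
  zz := L.hyp.zz
  z_ne := L.hyp.z_ne
  zmem := L.hyp.zmem
  mem i := (L.U_sat _).1
  sq i := (L.U_sat _).2.1
  commz i := L.hyp.comm_z (L.U_sat _).1
  anti i j h := by
    have hne := L.U_ne (fun e => h (Fin.castSucc_injective _ e) : i.castSucc ≠ j.castSucc)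
    exact L.hyp.sat_noncomm (L.U_sat _) (L.U_sat _) hne.1 hne.2

theorem Lab.anti (L : Lab z Q χ ψ u) {i j : Fin 5} (h : i ≠ j) :
    U ψ u i * U ψ u j = U ψ u j * U ψ u i * z :=
  L.hyp.sat_noncomm (L.U_sat i) (L.U_sat j) (L.U_ne h).1 (L.U_ne h).2

/-- The product of the five labelled involutions. -/
def prodU (ψ : A5 →* G) (u : G) : G := U ψ u 0 * (U ψ u 1 * (U ψ u 2 * (U ψ u 3 * U ψ u 4)))

theorem Lab.U_comm_z (L : Lab z Q χ ψ u) (i : Fin 5) : Commute (U ψ u i) z :=
  L.hyp.comm_z (L.U_sat i).1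

theorem Lab.prod_cases (L : Lab z Q χ ψ u) : prodU ψ u = 1 ∨ prodU ψ u = z := by
  have hP : prodU ψ u ∈ Q :=
    mul_mem (L.U_sat 0).1 (mul_mem (L.U_sat 1).1 (mul_mem (L.U_sat 2).1 (mul_mem (L.U_sat 3).1 (L.U_sat 4).1)))
  have hU : ∀ i : Fin 4, Commute (prodU ψ u) (U ψ u i.castSucc) := by
    intro i
    obtain ⟨q, hq, hqe⟩ := qv_surj L.four L.hyp.card hP
    obtain ⟨r, hr, hre⟩ := qv_surj L.four L.hyp.card (L.U_sat 4).1
    have hprod : qv z (fun i => U ψ u i.castSucc) 30 * qv z (fun i => U ψ u i.castSucc) r = prodU ψ u := by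
      rw [hre, (qv_gen z _).2.2.2.2.2.2, prodU]; simp only [mul_assoc]; rfl
    have hanti : ∀ j : Fin 4, qmC r (2 ^ ((j : Nat) + 1)) = qmC 1 (qmC (2 ^ ((j : Nat) + 1)) r) := by
      intro j
      have hj : qv z (fun i => U ψ u i.castSucc) (2 ^ ((j : Nat) + 1)) = U ψ u j.castSucc := by
        obtain ⟨-, -, a, b, c, d, -⟩ := qv_gen z (fun i => U ψ u i.castSucc)
        fin_cases j <;> assumption
      have hl : 2 ^ ((j : Nat) + 1) < 32 := by fin_cases j <;> decide
      refine qv_inj L.four (qmC_spec ⟨r, hr⟩ ⟨_, hl⟩).2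
        (qmC_spec ⟨1, by norm_num⟩ ⟨_, (qmC_spec ⟨_, hl⟩ ⟨r, hr⟩).2⟩).2 ?_
      rw [qv_mul L.four hr hl, qv_mul L.four (by norm_num) (qmC_spec ⟨_, hl⟩ ⟨r, hr⟩).2,
        qv_mul L.four hl hr, hre, hj, (qv_gen z _).2.1,
        ← ((L.U_comm_z _).mul_left (L.U_comm_z 4)).eq]
      exact L.anti (by fin_cases j <;> decide)
    have key : ∀ r : Fin 32, (∀ j : Fin 4, qmC r (2 ^ ((j : Nat) + 1)) = qmC 1 (qmC (2 ^ ((j : Nat) + 1)) r)) →
        qmC 30 r = 0 ∨ qmC 30 r = 1 := by decide +kernel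
    rw [← hprod, ← qv_mul L.four (by norm_num) hr]
    rcases key ⟨r, hr⟩ hanti with e | e <;> rw [e]
    · rw [(qv_gen z _).1]; exact Commute.one_left _
    · rw [(qv_gen z _).2.1]; exact (L.U_comm_z _).symm
  refine L.hyp.center_mem hP fun q hq => ?_
  obtain ⟨n, -, rfl⟩ := qv_surj L.four L.hyp.card hq
  have h : ∀ (b : Bool) {g : G}, Commute (prodU ψ u) g → Commute (prodU ψ u) (pb b g) := fun b g hg => by
    cases b
    · exact Commute.one_right _
    · exact hg
  exact (h _ (L.hyp.comm_z hP)).mul_right ((h _ (hU 0)).mul_right ((h _ (hU 1)).mul_right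
    ((h _ (hU 2)).mul_right (h _ (hU 3)))))

/-- A labelling in which the five involutions multiply to one. -/
structure Lab1 (z : G) (Q : Subgroup G) (χ : Subgroup.centralizer ({z} : Set G) →* A5) (ψ : A5 →* G)
    (u : G) : Prop where
  lab : Lab z Q χ ψ u
  prod : prodU ψ u = 1

theorem exists_lab1 (H : Hyp z Q χ) : ∃ ψ u, Lab1 z Q χ ψ u := by
  obtain ⟨ψ, u, L⟩ := exists_lab H
  rcases L.prod_cases with e | e
  · exact ⟨ψ, u, L, e⟩
  have hcz : ∀ (k : A5) (x : G), ψ k * (x * z) * (ψ k)⁻¹ = ψ k * x * (ψ k)⁻¹ * z := fun k x => by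
    calc ψ k * (x * z) * (ψ k)⁻¹ = ψ k * x * (z * (ψ k)⁻¹) := by group
      _ = ψ k * x * ((ψ k)⁻¹ * z) := by rw [(L.comm k).inv_left.eq]
      _ = _ := by group
  have hU : ∀ i, U ψ (u * z) i = U ψ u i * z := fun i => by
    have := hcz (mv i)⁻¹ u
    rw [map_inv, inv_inv] at this
    exact this
  refine ⟨ψ, u * z, ⟨H, L.comm, L.sect, H.sat_mul_z L.sat, fun k hk => by rw [hcz, L.stab k hk],
    fun k hk => L.only k ?_⟩, ?_⟩
  · rw [hcz] at hk
    rcases hk with h | h
    · exact Or.inl (mul_right_cancel h)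
    · exact Or.inr (mul_right_cancel h)
  · have cz := L.U_comm_z
    simp only [prodU, hU]
    calc U ψ u 0 * z * (U ψ u 1 * z * (U ψ u 2 * z * (U ψ u 3 * z * (U ψ u 4 * z))))
        = prodU ψ u * z * (z * z) * (z * z) := by
          simp only [prodU, mul_assoc]
          simp only [show ∀ (i : Fin 5) (Y : G), z * (U ψ u i * Y) = U ψ u i * (z * Y) from fun i Y => by
            rw [← mul_assoc, ← (cz i).eq, mul_assoc]]
      _ = 1 := by rw [e, H.zz, mul_one, mul_one]

/-! ### Evaluation of the tables -/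

/-- The element with a given number. -/
def eC (z : G) (ψ : A5 →* G) (u : G) (a : Nat) : G :=
  qv z (fun i => U ψ u i.castSucc) (a / 60) * ψ (permOf (a % 60))

/-- The number of the labelled involution of `i`. -/
def genQ (i : Fin 5) : Nat := [2, 4, 8, 16, 30].getD i 0

/-- The action, from the rules. -/
def qaSpec (l b : Nat) : Nat :=
  let p := fun i : Fin 5 => genQ (app (permOf l) i)
  let f := fun (s : Bool) (x : Nat) (q : Nat) => bif s then qmC q x else q
  f (b.testBit 4) (p 3) (f (b.testBit 3) (p 2) (f (b.testBit 2) (p 1) (f (b.testBit 1) (p 0) (enc (b.testBit 0) false false false false))))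

theorem qaC_spec : ∀ l : Fin 60, ∀ b : Fin 32, qaC l b = qaSpec l b ∧ qaC l b < 32 := by decide +kernel

theorem lmC_lt : ∀ a b : Fin 60, lmC a b < 60 := by decide +kernel

theorem Lab1.gen (M : Lab1 z Q χ ψ u) (i : Fin 5) :
    qv z (fun i => U ψ u i.castSucc) (genQ i) = U ψ u i ∧ genQ i < 32 := by
  obtain ⟨-, -, a, b, c, d, e⟩ := qv_gen z (fun i => U ψ u i.castSucc)
  fin_cases i
  · exact ⟨a, by decide⟩
  · exact ⟨b, by decide⟩
  · exact ⟨c, by decide⟩
  · exact ⟨d, by decide⟩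
  refine ⟨e.trans ?_, by decide⟩
  show U ψ u 0 * (U ψ u 1 * (U ψ u 2 * U ψ u 3)) = U ψ u 4
  have h := M.prod
  rw [prodU] at h
  have h2 : U ψ u 0 * (U ψ u 1 * (U ψ u 2 * U ψ u 3)) * U ψ u 4 = 1 := by
    simpa only [mul_assoc] using h
  rw [mul_eq_one_iff_eq_inv.mp h2, inv_eq_of_mul_eq_one_right (M.lab.U_sat 4).2.1]

theorem Lab1.act (M : Lab1 z Q χ ψ u) {l b : Nat} (hl : l < 60) (hb : b < 32) :
    ψ (permOf l) * qv z (fun i => U ψ u i.castSucc) b * (ψ (permOf l))⁻¹ =
      qv z (fun i => U ψ u i.castSucc) (qaC l b) := by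
  rw [(qaC_spec ⟨l, hl⟩ ⟨b, hb⟩).1]
  set V := fun i : Fin 4 => U ψ u i.castSucc with hV
  set p := fun i : Fin 5 => genQ (app (permOf l) i)
  set f := fun (s : Bool) (x : Nat) (q : Nat) => bif s then qmC q x else q with hf
  have hp : ∀ i : Fin 4, qv z V (p i.castSucc) = ψ (permOf l) * V i * (ψ (permOf l))⁻¹ ∧ p i.castSucc < 32 :=
    fun i => ⟨((M.gen _).1).trans (M.lab.equiv _ _).symm, (M.gen _).2⟩
  have step : ∀ (i : Fin 4) (s : Bool) {q : Nat}, q < 32 → f s (p i.castSucc) q < 32 ∧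
      qv z V (f s (p i.castSucc) q) = qv z V q * (ψ (permOf l) * pb s (V i) * (ψ (permOf l))⁻¹) := by
    intro i s q hq
    cases s
    · exact ⟨hq, by simp [hf, pb]⟩
    · refine ⟨(qmC_spec ⟨q, hq⟩ ⟨_, (hp i).2⟩).2, ?_⟩
      show qv z V (qmC q (p i.castSucc)) = _
      rw [qv_mul M.lab.four hq (hp i).2, (hp i).1]; rfl
  have h0 : qv z V (enc (b.testBit 0) false false false false) = ψ (permOf l) * pb (b.testBit 0) z * (ψ (permOf l))⁻¹ := by
    rw [qv_enc]
    cases b.testBit 0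
    · simp [qb, pb]
    · simp only [qb, pb, cond_true, cond_false, mul_one]
      rw [(M.lab.comm _).eq, mul_inv_cancel_right]
  show _ = qv z V (f _ (p (3 : Fin 4).castSucc) (f _ (p (2 : Fin 4).castSucc) (f _ (p (1 : Fin 4).castSucc)
    (f _ (p (0 : Fin 4).castSucc) _))))
  have s0 := step 0 (b.testBit 1) (enc_lt (b.testBit 0) false false false false)
  have s1 := step 1 (b.testBit 2) s0.1
  have s2 := step 2 (b.testBit 3) s1.1
  have s3 := step 3 (b.testBit 4) s2.1
  rw [s3.2, s2.2, s1.2, s0.2, h0]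
  simp only [qv, qb]
  group

theorem Lab1.mul (M : Lab1 z Q χ ψ u) (a b : Nat) (ha : a < 1920) (hb : b < 1920) :
    eC z ψ u (mulC a b) = eC z ψ u a * eC z ψ u b := by
  have hl := lmC_lt ⟨a % 60, by omega⟩ ⟨b % 60, by omega⟩
  have hm := permOf_mul ⟨a % 60, by omega⟩ ⟨b % 60, by omega⟩
  have hact := M.act (l := a % 60) (b := b / 60) (by omega) (by omega)
  have hq := (qaC_spec ⟨a % 60, by omega⟩ ⟨b / 60, by omega⟩).2
  dsimp only at hl hm hq
  have hmul := qv_mul M.lab.four (a := a / 60) (b := qaC (a % 60) (b / 60)) (by omega) hq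
  unfold eC
  rw [show mulC a b / 60 = qmC (a / 60) (qaC (a % 60) (b / 60)) by unfold mulC; omega,
    show mulC a b % 60 = lmC (a % 60) (b % 60) by unfold mulC; omega, hm, map_mul, hmul, ← hact]
  group

theorem Lab1.comm_e (M : Lab1 z Q χ ψ u) (a : Nat) : Commute (eC z ψ u a) z :=
  (M.lab.hyp.comm_z (qv_mem M.lab.four _)).mul_left (M.lab.comm _)

theorem Lab1.img_e (M : Lab1 z Q χ ψ u) (a : Nat) : img χ (M.comm_e a) = permOf (a % 60) := by
  have hq := M.lab.hyp.comm_z (qv_mem M.lab.four (a / 60))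
  rw [show img χ (M.comm_e a) = img χ hq * img χ (M.lab.comm (permOf (a % 60))) from
    M.lab.hyp.img_mul hq (M.lab.comm _), (M.lab.hyp.img_eq_one hq).mpr (qv_mem M.lab.four _), one_mul,
    M.lab.sect]

theorem permOf_inj : ∀ a b : Fin 60, permOf a = permOf b → a = b := by decide +kernel

theorem Lab1.inj (M : Lab1 z Q χ ψ u) {a b : Nat} (ha : a < 1920) (hb : b < 1920)
    (h : eC z ψ u a = eC z ψ u b) : a = b := by
  have himg : permOf (a % 60) = permOf (b % 60) := by
    rw [← M.img_e a, ← M.img_e b]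
    unfold img
    congr 1
    exact Subtype.ext h
  have hl : a % 60 = b % 60 :=
    congrArg Fin.val (permOf_inj ⟨a % 60, by omega⟩ ⟨b % 60, by omega⟩ himg)
  unfold eC at h
  rw [hl] at h
  have := qv_inj M.lab.four (by omega) (by omega) (mul_right_cancel h)
  omega

theorem Lab1.surj (M : Lab1 z Q χ ψ u) {g : G} (hg : Commute g z) : ∃ a, a < 1920 ∧ eC z ψ u a = g := by
  let f : Fin 1920 → Subgroup.centralizer ({z} : Set G) := fun a => ⟨eC z ψ u a, mem_C.mpr (M.comm_e a)⟩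
  have hf : Function.Bijective f := (Nat.bijective_iff_injective_and_card f).mpr
    ⟨fun a b h => Fin.ext (M.inj a.isLt b.isLt (congrArg Subtype.val h)), by rw [M.lab.hyp.card_C]; simp⟩
  obtain ⟨a, ha⟩ := hf.2 ⟨g, mem_C.mpr hg⟩
  exact ⟨a, a.isLt, congrArg Subtype.val ha⟩

theorem Lab1.e_gen (M : Lab1 z Q χ ψ u) :
    eC z ψ u oneC = 1 ∧ eC z ψ u zC = z ∧ eC z ψ u (uC.getD 4 0) = u := by
  have h1 : permOf (oneC % 60) = 1 ∧ permOf (zC % 60) = 1 ∧ permOf (uC.getD 4 0 % 60) = 1 ∧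
      oneC / 60 = 0 ∧ zC / 60 = 1 ∧ uC.getD 4 0 / 60 = genQ 4 := by decide +kernel
  unfold eC
  rw [h1.1, h1.2.1, h1.2.2.1, h1.2.2.2.1, h1.2.2.2.2.1, h1.2.2.2.2.2, map_one, (M.gen 4).1,
    M.lab.U_four, (qv_gen z _).1, (qv_gen z _).2.1]
  simp

theorem Lab1.mem_Q_iff (M : Lab1 z Q χ ψ u) {a : Nat} (ha : a < 1920) :
    eC z ψ u a ∈ Q ↔ a % 60 = oneC % 60 := by
  rw [← M.lab.hyp.img_eq_one (M.comm_e a), M.img_e]
  constructor
  · intro h
    have := permOf_inj ⟨a % 60, by omega⟩ ⟨oneC % 60, by decide +kernel⟩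
      (h.trans (show permOf (oneC % 60) = 1 by decide +kernel).symm)
    exact congrArg Fin.val this
  · intro h; rw [h]; decide +kernel

end H36.J3U
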