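import Cfsg.Agent.H36.J3U.NormData

/-!
Further facts in the table group used for the generated subgroup.
-/

set_option autoImplicit false
set_option maxRecDepth 100000

namespace H36.J3U

theorem invol_classes : (List.range 1920).all (fun x =>
    !(mulC x x == 0 && !(x == 0)) ||
      (List.range 1920).any (fun a => [60, 1800, 13].contains (cjC a x))) = true := by
  decide +kernel

theorem sixteen_in_q : sixteen.all (fun a => !(a % 60 == 0) || [0, 60, 1800, 1860].contains a) = true := by
  decide +kernel

theorem dom_five : (domList.map Prod.fst).all (fun d =>
    !(mulC d (mulC d (mulC d (mulC d d))) == 0) || d == 0) = true := by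
  decide +kernel

end H36.J3U
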