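import Cfsg.Agent.H36.J3U.Split
import Cfsg.Agent.H36.J3U.A6Gen
import Cfsg.Agent.H36.J3U.GenData

/-!
The subgroup generated by the centraliser of `z` and `κ` contains the centralisers of `c` and `κ`, and
has a single class of involutions.
-/

set_option autoImplicit false
set_option maxRecDepth 100000
set_option synthInstance.maxSize 4000
set_option synthInstance.maxHeartbeats 200000

namespace H36.J3U

variable {G : Type*} [Group G] {z : G} {e : Nat → G} {k : G}

local notation "A6" => alternatingGroup (Fin 6)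

/-- The subgroup generated by the centraliser and `κ`. -/
def Mg (e : Nat → G) (k : G) : Subgroup G := Subgroup.closure (e '' {a | a < 1920} ∪ {k})

theorem e_mem_Mg {a : Nat} (ha : a < 1920) : e a ∈ Mg e k :=
  Subgroup.subset_closure (Or.inl ⟨a, ha, rfl⟩)

theorem k_mem_Mg : k ∈ Mg e k := Subgroup.subset_closure (Or.inr rfl)

theorem cent_le_Mg (M : Mdl z e) {g : G} (h : Commute g z) : g ∈ Mg e k := by
  obtain ⟨a, ha, rfl⟩ := M.surj g h
  exact e_mem_Mg ha

section

variable [Finite G] (M : Mdl z e) (K : Kappa z e k) (hone : OneClass G)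
include M K hone

theorem pi_kernel_part {π : Kc e →* A6} (hπ : Function.Surjective π)
    (hker : ∀ x : Kc e, π x = 1 ↔ x ∈ Zc e) :
    ∃ L : Subgroup (Kc e), (∀ x ∈ L, π x = 1 → x = 1) ∧ (∀ y : A6, ∃ x ∈ L, π x = y) ∧
      ∀ t x : Kc e, t * x * t⁻¹ = x⁻¹ → x ∈ L := by
  obtain ⟨A, T, hAc, hAodd, hTc⟩ := exists_transfer M K hone π hπ hker
  have P := pts M K
  have hkill : ∀ t x : Kc e, t * x * t⁻¹ = x⁻¹ → T x = 1 := by
    intro t x h
    have h1 := congrArg T h
    rw [map_mul, map_mul, map_inv, map_inv] at h1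
    have hc : Commute (T t) (T x) := Subtype.ext (hAc _ (T t).2 _ (T x).2).eq
    rw [hc.eq, mul_inv_cancel_right] at h1
    have h2 : T x ^ 2 = 1 := by rw [pow_two]; nth_rewrite 1 [h1]; exact inv_mul_cancel _
    have h3 : orderOf (T x) ∣ Nat.gcd 2 (Nat.card A) :=
      Nat.dvd_gcd (orderOf_dvd_of_pow_eq_one h2) (orderOf_dvd_natCard _)
    rw [Nat.coprime_two_left.mpr hAodd] at h3
    exact orderOf_eq_one_iff.mp (Nat.dvd_one.mp h3)
  refine ⟨T.ker, fun x hx hx' => ?_, ?_, fun t x h => MonoidHom.mem_ker.mpr (hkill t x h)⟩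
  · obtain ⟨n, rfl⟩ := Subgroup.mem_zpowers_iff.mp ((hker x).mp hx')
    have h := congrArg (fun t : A => (t : Kc e)) (MonoidHom.mem_ker.mp hx)
    simp only [map_zpow, Subgroup.coe_zpow, hTc, Subgroup.coe_one] at h
    exact h
  · haveI : IsSimpleGroup A6 := alternatingGroup.isSimpleGroup (by simp)
    haveI : (T.ker.map π).Normal := Subgroup.Normal.map inferInstance _ hπ
    rcases Subgroup.Normal.eq_bot_or_eq_top (inferInstance : (T.ker.map π).Normal) with h | h
    · exfalso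
      let zK : Kc e := ⟨z, mem_Kc.mpr P.mz⟩
      have hzz : zK * zK = 1 := Subtype.ext P.cfg.zz
      have hz : zK ∈ T.ker := MonoidHom.mem_ker.mpr (hkill 1 zK (by
        rw [one_mul, inv_one, mul_one]; exact eq_inv_of_mul_eq_one_left hzz))
      have h1 : π zK = 1 := Subgroup.mem_bot.mp (h ▸ Subgroup.mem_map_of_mem π hz)
      obtain ⟨n, hn, hne⟩ := Zc_cases M ((hker _).mp h1)
      have hne' : e n = e 60 := hne.trans M.ez.symm
      have hlt : ∀ n ∈ [0, 15, 24], n < 1920 ∧ n ≠ 60 := by decide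
      exact (hlt n hn).2 (M.inj _ _ (hlt n hn).1 (by norm_num) hne')
    · intro y
      obtain ⟨x, hx, rfl⟩ := (h ▸ Subgroup.mem_top y : y ∈ T.ker.map π)
      exact ⟨x, hx, rfl⟩

theorem Kc_le_Mg : Kc e ≤ Mg e k := by
  obtain ⟨π, hπ, hker⟩ := exists_pi M K hone
  have P := pts M K
  set R : Subgroup (Kc e) := (Mg e k).subgroupOf (Kc e)
  suffices hR : R.map π = ⊤ by
    intro g hg
    obtain ⟨x, hx, hxe⟩ := (hR ▸ Subgroup.mem_top (π ⟨g, hg⟩) : π ⟨g, hg⟩ ∈ R.map π)
    have hm : x⁻¹ * ⟨g, hg⟩ ∈ Zc e := (hker _).mp (by rw [map_mul, map_inv, hxe, inv_mul_cancel])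
    obtain ⟨n, hn, hne⟩ := Zc_cases M hm
    have hlt : ∀ n ∈ [0, 15, 24], n < 1920 := by decide
    have hg' : g = (x : G) * e n := by rw [hne]; simp
    rw [hg']
    exact mul_mem hx (e_mem_Mg (hlt n hn))
  have hmem : ∀ (g : G) (hg : Commute g (e 15)), g ∈ Mg e k → π ⟨g, mem_Kc.mpr hg⟩ ∈ R.map π :=
    fun g hg h => Subgroup.mem_map_of_mem π h
  obtain ⟨L, hL, -, hinv⟩ := pi_kernel_part M K hone hπ hker
  refine a6_eq_top _ ?_
  let aK : Kc e := ⟨k * e 15, mem_Kc.mpr P.ma⟩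
  let bK : Kc e := ⟨e 12 * (k * e 15) * e 12, mem_Kc.mpr P.mb⟩
  have haS : π aK ∈ R.map π := hmem _ P.ma (mul_mem k_mem_Mg (e_mem_Mg (by norm_num)))
  have hbS : π bK ∈ R.map π :=
    hmem _ P.mb (mul_mem (mul_mem (e_mem_Mg (by norm_num)) (mul_mem k_mem_Mg (e_mem_Mg (by norm_num))))
      (e_mem_Mg (by norm_num)))
  have hcfg : Cfg (π ⟨z, mem_Kc.mpr P.mz⟩) (π ⟨e 1800, mem_Kc.mpr P.mu⟩)
      (π ⟨e 960, mem_Kc.mpr P.mr⟩) (π aK) (π bK) := by
    constructor
    case z1 =>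
      intro h
      obtain ⟨n, hn, hne⟩ := Zc_cases M ((hker _).mp h)
      have hne' : e n = e 60 := hne.trans M.ez.symm
      have hlt : ∀ n ∈ [0, 15, 24], n < 1920 ∧ n ≠ 60 := by decide
      exact (hlt n hn).2 (M.inj _ _ (hlt n hn).1 (by norm_num) hne')
    all_goals
      simp only [← map_inv, ← map_mul, ← map_one π]
      refine congrArg π (Subtype.ext ?_)
    exacts [P.cfg.zz, P.cfg.uu, P.cfg.rr, P.cfg.zu, P.cfg.zr, P.cfg.ur, P.cfg.a3, P.cfg.b3, P.cfg.az,
      P.cfg.au, P.cfg.ra, P.cfg.bz, P.cfg.br, P.cfg.ub]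
  have ha1 : π aK ≠ 1 := fun h => by
    have h2 := hcfg.az
    rw [h, one_mul, inv_one, mul_one] at h2
    have h3 := hcfg.au
    rw [h, one_mul, inv_one, mul_one] at h3
    exact hcfg.z1 (mul_eq_left.mp h3.symm)
  have d3 : 3 ∣ Nat.card (R.map π) :=
    (orderOf_eq_prime (p := 3) (x := π aK) (by rw [pow_succ, pow_two]; exact hcfg.a3) ha1) ▸
      Subgroup.orderOf_dvd_natCard _ haS
  obtain ⟨h5, -, hC⟩ := hcfg.a6
  have hab : π aK * π bK ≠ 1 := fun h => hC 1 (by
    rw [one_mul, inv_one, mul_one]; exact eq_inv_of_mul_eq_one_left h)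
  haveI : Fact (Nat.Prime 5) := ⟨by norm_num⟩
  have d5 : 5 ∣ Nat.card (R.map π) :=
    (orderOf_eq_prime (p := 5) h5 hab) ▸ Subgroup.orderOf_dvd_natCard _ (mul_mem haS hbS)
  obtain ⟨hlt, hmul, hinj, -, -, -⟩ := d8f_facts
  let f : DihedralGroup 4 →* Kc e := MonoidHom.mk' (fun x => ⟨e (d8f x), mem_Kc.mpr
    (M.comm (hlt x).1 (by norm_num) (hlt x).2)⟩) (fun x y => Subtype.ext (by
      show e (d8f (x * y)) = e (d8f x) * e (d8f y)
      rw [hmul, M.mul _ _ (hlt x).1 (hlt y).1]))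
  have hfS : ∀ x, (π.comp f) x ∈ R.map π := fun x => Subgroup.mem_map_of_mem π (e_mem_Mg (hlt x).1)
  have hfinj : Function.Injective ((π.comp f).codRestrict _ hfS) := (injective_iff_map_eq_one _).mpr fun x hx => by
    obtain ⟨n, hn, hne⟩ := Zc_cases M ((hker _).mp (congrArg Subtype.val hx))
    have hlt3 : ∀ n ∈ [0, 15, 24], n < 1920 := by decide
    exact hinj x (M.inj _ _ (hlt3 n hn) (hlt x).1 hne ▸ hn)
  have d8 : 8 ∣ Nat.card (R.map π) := by
    have h := Subgroup.card_subgroup_dvd_card ((π.comp f).codRestrict _ hfS).range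
    rw [← Nat.card_congr (MonoidHom.ofInjective hfinj).toEquiv] at h
    simpa [Nat.card_eq_fintype_card, DihedralGroup.card] using h
  have h120 := Nat.Coprime.mul_dvd_of_dvd_of_dvd (by norm_num)
    (Nat.Coprime.mul_dvd_of_dvd_of_dvd (by norm_num) d3 d5) d8
  exact le_trans (by norm_num) (Nat.le_of_dvd Nat.card_pos h120)

theorem cent_k_le_Mg {g : G} (hg : Commute g k) : g ∈ Mg e k := by
  obtain ⟨π, hπ, hker⟩ := exists_pi M K hone
  obtain ⟨L, hL, hLsurj, hinv⟩ := pi_kernel_part M K hone hπ hker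
  have P := pts M K
  obtain ⟨a, k0, hk0, hak⟩ : ∃ a k0, (k0 = k ∨ k0 = k⁻¹) ∧ a * k0 * a⁻¹ = e 15 := by
    obtain ⟨a, h | h⟩ := kappa_conj M K hone
    exacts [⟨a, k, Or.inl rfl, h⟩, ⟨a, k⁻¹, Or.inr rfl, h⟩]
  have hk0M : k0 ∈ Mg e k := by
    rcases hk0 with rfl | rfl
    exacts [k_mem_Mg, inv_mem k_mem_Mg]
  have hto : ∀ {g : G}, Commute g k → Commute (a * g * a⁻¹) (e 15) := by
    intro g hg
    rw [← hak]
    have : Commute g k0 := by
      rcases hk0 with rfl | rfl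
      exacts [hg, hg.inv_right]
    exact this.map (MulAut.conj a).toMonoidHom
  set R : Subgroup (Kc e) := ((Mg e k).map (MulAut.conj a).toMonoidHom).subgroupOf (Kc e)
  have hRmem : ∀ {g : G} (hgk : Commute g k), g ∈ Mg e k →
      π ⟨a * g * a⁻¹, mem_Kc.mpr (hto hgk)⟩ ∈ R.map π :=
    fun {g} hgk hM => Subgroup.mem_map_of_mem π (Subgroup.mem_map_of_mem (MulAut.conj a).toMonoidHom hM)
  suffices hR : R.map π = ⊤ by
    obtain ⟨x, hx, hxe⟩ :=
      (hR ▸ Subgroup.mem_top _ : π ⟨a * g * a⁻¹, mem_Kc.mpr (hto hg)⟩ ∈ R.map π)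
    have hm : x⁻¹ * ⟨a * g * a⁻¹, mem_Kc.mpr (hto hg)⟩ ∈ Zc e :=
      (hker _).mp (by rw [map_mul, map_inv, hxe, inv_mul_cancel])
    obtain ⟨j, hj⟩ := Subgroup.mem_zpowers_iff.mp hm
    obtain ⟨w, hw, hwe⟩ := hx
    have hw' : a * w * a⁻¹ = (x : G) := hwe
    have hj' : e 15 ^ j = (x : G)⁻¹ * (a * g * a⁻¹) := congrArg Subtype.val hj
    have hge : g = w * k0 ^ j := by
      have : a * (w * k0 ^ j) * a⁻¹ = a * g * a⁻¹ := by
        rw [show a * (w * k0 ^ j) * a⁻¹ = a * w * a⁻¹ * (a * k0 ^ j * a⁻¹) by group, ← conj_zpow, hak, hj', hw']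
        group
      exact (mul_left_cancel (mul_right_cancel this)).symm
    rw [hge]
    exact mul_mem hw (zpow_mem hk0M j)
  -- the three elements
  have hc := K.kap.rot.dc.symm
  have hv : Commute (e 1183) k := (mul_inv_eq_iff_eq_mul.mp K.kap.kv : Commute k (e 1183)).symm
  have hc3 := c_cube M
  let aK : Kc e := ⟨k * e 15, mem_Kc.mpr P.ma⟩
  have ha3 : π aK * π aK * π aK = 1 := by
    rw [← map_mul, ← map_mul, ← map_one π]; exact congrArg π (Subtype.ext P.cfg.a3)
  have hnz : ∀ {g : G} (hg : Commute g (e 15)), g ≠ 1 → g ≠ e 15 → g ≠ e 24 → π ⟨g, mem_Kc.mpr hg⟩ ≠ 1 := by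
    intro g hg h1 h2 h3 h
    obtain ⟨n, hn, hne⟩ := Zc_cases M ((hker _).mp h)
    simp only [List.mem_cons, List.not_mem_nil, or_false] at hn
    rcases hn with rfl | rfl | rfl
    exacts [h1 (hne.symm.trans M.one), h2 hne.symm, h3 hne.symm]
  have h24 : e 24 = (e 15)⁻¹ := by rw [← M.inv (by norm_num), show invC 15 = 24 by decide +kernel]
  have hkne : ∀ n, n < 1920 → k ≠ e n := fun n hn h => by
    have hz := K.kap.rot.dz
    rw [h, (M.comm_z hn).eq, mul_inv_cancel_right, ← M.ez] at hz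
    have := M.inj _ _ (by norm_num) (by norm_num) hz
    omega
  have haK : π aK ≠ 1 := hnz P.ma
    (fun h => hkne 24 (by norm_num) (by rw [h24]; exact eq_inv_of_mul_eq_one_left h))
    (fun h => hkne 0 (by norm_num) (by rw [M.one]; exact mul_eq_right.mp h))
    (fun h => hkne 15 (by norm_num) (by
      have hk : k = e 24 * (e 15)⁻¹ := by rw [← h]; group
      rw [hk, h24]
      calc (e 15)⁻¹ * (e 15)⁻¹ = (e 15 * e 15 * e 15)⁻¹ * e 15 := by group
        _ = e 15 := by rw [hc3, inv_one, one_mul]))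
  obtain ⟨y0, hy3, hya, hy1, hyA, hyAA⟩ := a6_three_cent _ ha3 haK
  obtain ⟨h, hhL, hhy⟩ := hLsurj y0
  have hy3' : h * h * h = 1 := hL _ (mul_mem (mul_mem hhL hhL) hhL) (by rw [map_mul, map_mul, hhy, hy3])
  have hr : e 960 * (k * e 15) * (e 960)⁻¹ = (k * e 15)⁻¹ := by
    rw [inv_eq_of_mul_eq_one_right P.cfg.rr, P.cfg.ra]
  have haL : aK ∈ L := hinv ⟨e 960, mem_Kc.mpr P.mr⟩ aK (Subtype.ext hr)
  have hha : Commute h aK := mul_inv_eq_one.mp (hL (h * aK * (aK * h)⁻¹)
    (mul_mem (mul_mem hhL haL) (inv_mem (mul_mem haL hhL)))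
    (by rw [map_mul, map_inv, map_mul, map_mul, hhy, hya, mul_inv_cancel]))
  have hhk : Commute (h : G) k := by
    have h1 : Commute (h : G) (k * e 15) := congrArg Subtype.val hha
    have h2 := h1.mul_right (mem_Kc.mp h.2).inv_right
    rwa [mul_inv_cancel_right] at h2
  have hhM : (h : G) ∈ Mg e k := Kc_le_Mg M K hone h.2
  have heq : ∀ {p q : G}, a * p * a⁻¹ = a * q * a⁻¹ → p = q := fun h => mul_left_cancel (mul_right_cancel h)
  have hsame : ∀ {g g' : G} (hg : Commute g k) (hg' : Commute g' k),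
      π ⟨a * g * a⁻¹, mem_Kc.mpr (hto hg)⟩ = π ⟨a * g' * a⁻¹, mem_Kc.mpr (hto hg')⟩ →
        ∃ j ∈ [1, k, k⁻¹], g = g' * j := by
    intro g g' hg hg' h
    have hm : (⟨a * g' * a⁻¹, mem_Kc.mpr (hto hg')⟩ : Kc e)⁻¹ * ⟨a * g * a⁻¹, mem_Kc.mpr (hto hg)⟩ ∈ Zc e :=
      (hker _).mp (by rw [map_mul, map_inv, h, inv_mul_cancel])
    obtain ⟨n, hn, hne⟩ := Zc_cases M hm
    have hne' : e n = a * (g'⁻¹ * g) * a⁻¹ := hne.trans (by
      show (a * g' * a⁻¹)⁻¹ * (a * g * a⁻¹) = _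
      group)
    simp only [List.mem_cons, List.not_mem_nil, or_false] at hn
    rcases hn with rfl | rfl | rfl
    · refine ⟨1, by simp, ?_⟩
      rw [M.one, eq_comm, conj_eq_one_iff, inv_mul_eq_one] at hne'
      rw [mul_one]; exact hne'.symm
    · have : g'⁻¹ * g = k0 := heq (hne'.symm.trans hak.symm)
      refine ⟨k0, by rcases hk0 with rfl | rfl <;> simp, by rw [← this]; group⟩
    · have : g'⁻¹ * g = k0⁻¹ := heq (hne'.symm.trans (by rw [h24, ← hak]; group))
      refine ⟨k0⁻¹, by rcases hk0 with rfl | rfl <;> simp, by rw [← this]; group⟩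
  have h1k : Commute (1 : G) k := Commute.one_left k
  have hone' : π ⟨a * 1 * a⁻¹, mem_Kc.mpr (hto h1k)⟩ = 1 := by
    rw [← map_one π]; exact congrArg π (Subtype.ext (by show a * 1 * a⁻¹ = 1; group))
  have hcc : Commute (e 15 * e 15) k := hc.mul_left hc
  have hkc : Commute k (e 15) := hc.symm
  have hc24 : e 15 * e 15 = (e 15)⁻¹ := eq_inv_of_mul_eq_one_left hc3
  have hk3 := K.kap.cube M
  have hkk : k * k = k⁻¹ := eq_inv_of_mul_eq_one_left hk3
  have mulK : ∀ {g g' : G} {p : a * g * a⁻¹ ∈ Kc e} {q : a * g' * a⁻¹ ∈ Kc e},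
      π ⟨_, p⟩ * π ⟨_, q⟩ = π ⟨a * (g * g') * a⁻¹, by
        have := mul_mem p q
        rwa [show a * g * a⁻¹ * (a * g' * a⁻¹) = a * (g * g') * a⁻¹ by group] at this⟩ := by
    intro g g' p q
    rw [← map_mul]; refine congrArg π (Subtype.ext ?_)
    show a * g * a⁻¹ * (a * g' * a⁻¹) = a * (g * g') * a⁻¹
    group
  have congK : ∀ {g g' : G} {p : a * g * a⁻¹ ∈ Kc e} {q : a * g' * a⁻¹ ∈ Kc e}, g = g' →
      π ⟨_, p⟩ = π ⟨_, q⟩ := by
    intro g g' p q h
    exact congrArg π (Subtype.ext (by show a * g * a⁻¹ = a * g' * a⁻¹; rw [h]))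
  have invK : ∀ {g : G} {p : a * g * a⁻¹ ∈ Kc e}, (π ⟨_, p⟩)⁻¹ = π ⟨a * g⁻¹ * a⁻¹, by
        have := inv_mem p
        rwa [show (a * g * a⁻¹)⁻¹ = a * g⁻¹ * a⁻¹ by group] at this⟩ := by
    intro g p
    rw [← map_inv]; refine congrArg π (Subtype.ext ?_)
    show (a * g * a⁻¹)⁻¹ = a * g⁻¹ * a⁻¹
    group
  -- no element of the centraliser of `z` lies in a nontrivial coset of `⟨κ⟩`
  have hje : ∀ j ∈ [1, k, k⁻¹], ∀ p, p < 1920 → e p = j → j = 1 := by
    intro j hj p hp h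
    simp only [List.mem_cons, List.not_mem_nil, or_false] at hj
    rcases hj with hj | hj | hj <;> rw [hj] at h ⊢
    · exact absurd h.symm (hkne p hp)
    · exfalso
      refine hkne (invC p) (invC_lt hp).1 ?_
      rw [M.inv hp, h, inv_inv]
  have hsame_e : ∀ {p q : Nat} (hp : p < 1920) (hq : q < 1920) (h1 : Commute (e p) k) (h2 : Commute (e q) k),
      π ⟨a * e p * a⁻¹, mem_Kc.mpr (hto h1)⟩ = π ⟨a * e q * a⁻¹, mem_Kc.mpr (hto h2)⟩ → p = q := by
    intro p q hp hq h1 h2 h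
    obtain ⟨j, hj, hje'⟩ := hsame h1 h2 h
    have hj1 := hje j hj (mulC (invC q) p) (mulC_lt (invC_lt hq).1 hp) (by
      rw [M.mul _ _ (invC_lt hq).1 hp, M.inv hq, hje', inv_mul_cancel_left])
    rw [hj1, mul_one] at hje'
    exact M.inj _ _ hp hq hje'
  have f : mulC 15 (mulC 15 15) = 0 ∧ mulC 1183 1183 = 0 ∧ cjC 15 1183 = 1290 ∧
      mulC 1183 1290 = mulC 1290 1183 ∧ cjC 15 1290 = mulC 1183 1290 := by decide +kernel
  have h1290 : Commute (e 1290) k := by
    rw [← f.2.2.1, (M.cj (show 15 < 1920 by norm_num) (show 1183 < 1920 by norm_num)).2]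
    exact (hc.mul_left hv).mul_left hc.inv_left
  have X3 : π ⟨a * e 15 * a⁻¹, mem_Kc.mpr (hto hc)⟩ * π ⟨a * e 15 * a⁻¹, mem_Kc.mpr (hto hc)⟩ *
      π ⟨a * e 15 * a⁻¹, mem_Kc.mpr (hto hc)⟩ = 1 := by
    rw [mulK, mulK, ← hone']
    exact congK hc3
  have X1 : π ⟨a * e 15 * a⁻¹, mem_Kc.mpr (hto hc)⟩ ≠ 1 := fun h => by
    have h0 : Commute (e 0) k := by rw [M.one]; exact h1k
    have := hsame_e (p := 15) (q := 0) (by norm_num) (by norm_num) hc h0
      (h.trans (hone'.symm.trans (congK M.one.symm)))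
    omega
  have hconjX : π ⟨a * e 15 * a⁻¹, mem_Kc.mpr (hto hc)⟩ * π ⟨a * e 1183 * a⁻¹, mem_Kc.mpr (hto hv)⟩ *
      (π ⟨a * e 15 * a⁻¹, mem_Kc.mpr (hto hc)⟩)⁻¹ = π ⟨a * e 1290 * a⁻¹, mem_Kc.mpr (hto h1290)⟩ := by
    rw [invK, mulK, mulK]
    refine congK ?_
    rw [← f.2.2.1, (M.cj (show 15 < 1920 by norm_num) (show 1183 < 1920 by norm_num)).2]
  refine a6_large (S := R.map π) (hRmem hc (e_mem_Mg (by norm_num))) (hRmem hv (e_mem_Mg (by norm_num)))
    (hRmem hhk hhM) X3 X1 ?_ ?_ ?_ ?_ ?_ ?_ ?_ ?_ ?_ ?_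
  · rw [mulK, ← hone']
    refine congK ?_
    rw [← M.mul _ _ (by norm_num) (by norm_num), f.2.1, M.one]
  · intro h
    have h0 : Commute (e 0) k := by rw [M.one]; exact h1k
    have := hsame_e (p := 1183) (q := 0) (by norm_num) (by norm_num) hv h0
      (h.trans (hone'.symm.trans (congK M.one.symm)))
    omega
  · intro h
    rw [hconjX] at h
    have := hsame_e (p := 1290) (q := 1183) (by norm_num) (by norm_num) h1290 hv h
    omega
  · rw [hconjX, mulK, mulK]
    refine congK ?_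
    rw [← M.mul _ _ (by norm_num) (by norm_num), f.2.2.2.1, M.mul _ _ (by norm_num) (by norm_num)]
  · rw [hconjX, invK, mulK, mulK, mulK]
    refine congK ?_
    rw [← (M.cj (show 15 < 1920 by norm_num) (show 1290 < 1920 by norm_num)).2, f.2.2.2.2,
      M.mul _ _ (by norm_num) (by norm_num)]
  · rw [mulK, mulK, ← hone']
    exact congK (congrArg Subtype.val hy3' : (h : G) * (h : G) * (h : G) = 1)
  · rw [mulK, mulK]
    exact congK (mem_Kc.mp h.2).eq.symm
  · intro hh
    obtain ⟨j, hj, hje'⟩ := hsame hhk h1k (hh.trans hone'.symm)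
    rw [one_mul] at hje'
    simp only [List.mem_cons, List.not_mem_nil, or_false] at hj
    rcases hj with hj | hj | hj <;> rw [hj] at hje'
    · exact hy1 (by rw [← hhy, show h = 1 from Subtype.ext hje', map_one])
    · refine hyA ?_
      rw [← hhy]
      refine (mul_inv_eq_one.mp ?_)
      rw [← map_inv, ← map_mul, hker]
      convert inv_mem (Subgroup.mem_zpowers (cK e)) using 1
      exact Subtype.ext (by show (h : G) * (k * e 15)⁻¹ = (e 15)⁻¹; rw [hje', mul_inv_rev, ← mul_assoc, hkc.inv_right.eq, mul_assoc, mul_inv_cancel, mul_one])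
    · refine hyAA ?_
      rw [← hhy, ← map_mul]
      refine (mul_inv_eq_one.mp ?_)
      rw [← map_inv, ← map_mul, hker]
      convert Subgroup.mem_zpowers (cK e) using 1
      refine Subtype.ext ?_
      show (h : G) * (k * e 15 * (k * e 15))⁻¹ = e 15
      rw [hje']
      calc k⁻¹ * (k * e 15 * (k * e 15))⁻¹ = k⁻¹ * ((k * k) * (e 15 * e 15))⁻¹ := by
            rw [show k * e 15 * (k * e 15) = k * (e 15 * k) * e 15 by group, ← hkc.eq]; group
        _ = k⁻¹ * (e 15 * k) := by rw [hkk, hc24, mul_inv_rev, inv_inv, inv_inv]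
        _ = e 15 := by rw [← hkc.eq, inv_mul_cancel_left]
  · intro hh
    obtain ⟨j, hj, hje'⟩ := hsame hhk hc hh
    simp only [List.mem_cons, List.not_mem_nil, or_false] at hj
    rcases hj with hj | hj | hj <;> rw [hj] at hje'
    · exact hy1 (by
        rw [← hhy, hker]
        convert Subgroup.mem_zpowers (cK e) using 1
        exact Subtype.ext (by show (h : G) = e 15; rw [hje', mul_one]))
    · exact hyA (by rw [← hhy, show h = aK from Subtype.ext (hje'.trans hkc.eq.symm)])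
    · refine hyAA ?_
      rw [← hhy, ← map_mul]
      refine (mul_inv_eq_one.mp ?_)
      rw [← map_inv, ← map_mul, hker]
      convert inv_mem (Subgroup.mem_zpowers (cK e)) using 1
      refine Subtype.ext ?_
      show (h : G) * (k * e 15 * (k * e 15))⁻¹ = (e 15)⁻¹
      rw [hje']
      calc e 15 * k⁻¹ * (k * e 15 * (k * e 15))⁻¹ = e 15 * k⁻¹ * ((k * k) * (e 15 * e 15))⁻¹ := by
            rw [show k * e 15 * (k * e 15) = k * (e 15 * k) * e 15 by group, ← hkc.eq]; group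
        _ = e 15 * k⁻¹ * (e 15 * k) := by rw [hkk, hc24, mul_inv_rev, inv_inv, inv_inv]
        _ = e 15 * e 15 := by rw [← hkc.eq, mul_assoc, inv_mul_cancel_left]
        _ = (e 15)⁻¹ := hc24
  · intro hh
    rw [mulK] at hh
    obtain ⟨j, hj, hje'⟩ := hsame hhk hcc hh
    simp only [List.mem_cons, List.not_mem_nil, or_false] at hj
    rcases hj with hj | hj | hj <;> rw [hj] at hje'
    · exact hy1 (by
        rw [← hhy, hker]
        convert inv_mem (Subgroup.mem_zpowers (cK e)) using 1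
        exact Subtype.ext (by show (h : G) = (e 15)⁻¹; rw [hje', mul_one, hc24]))
    · refine hyA ?_
      rw [← hhy]
      refine (mul_inv_eq_one.mp ?_)
      rw [← map_inv, ← map_mul, hker]
      convert Subgroup.mem_zpowers (cK e) using 1
      refine Subtype.ext ?_
      show (h : G) * (k * e 15)⁻¹ = e 15
      rw [hje', hkc.eq]; group
    · refine hyAA ?_
      rw [← hhy, ← map_mul]
      refine congrArg π (Subtype.ext ?_)
      show (h : G) = k * e 15 * (k * e 15)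
      rw [hje', show k * e 15 * (k * e 15) = k * (e 15 * k) * e 15 by group, ← hkc.eq, ← hkk]
      calc e 15 * e 15 * (k * k) = k * k * (e 15 * e 15) := ((hcc.mul_right hcc)).eq
        _ = _ := by group

theorem exists_fusion : ∃ f ∈ Mg e k, ∃ a, a < 1920 ∧ f * z * f⁻¹ = e a ∧ a % 60 ≠ 0 := by
  haveI : Fact (Nat.Prime 5) := ⟨by norm_num⟩
  obtain ⟨⟨f, hf⟩, hfo⟩ := exists_prime_orderOf_dvd_card' (G := NK (k := k) M) 5
    (by rw [card_NK M K hone]; norm_num)
  rw [← Subgroup.orderOf_coe] at hfo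
  have hfo' : orderOf f = 5 := hfo
  have hf5 : f ^ 5 = 1 := by rw [← hfo']; exact pow_orderOf_eq_one f
  have hf1 : f ≠ 1 := fun h => by rw [h, orderOf_one] at hfo'; omega
  have hk3 := K.kap.cube M
  have hkne : ¬ Commute k z := fun h => by
    have hz := K.kap.rot.dz
    rw [h.eq, mul_inv_cancel_right, ← M.ez] at hz
    have := M.inj _ _ (by norm_num) (by norm_num) hz
    omega
  have hfk : Commute f k := by
    rcases hf.2 with h | h
    · exact mul_inv_eq_iff_eq_mul.mp h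
    exfalso
    have h2 : f ^ 5 * k * (f ^ 5)⁻¹ = k⁻¹ := by
      have e2 : ∀ x : G, f * x⁻¹ * f⁻¹ = (f * x * f⁻¹)⁻¹ := fun x => by group
      calc f ^ 5 * k * (f ^ 5)⁻¹ = f * (f * (f * (f * (f * k * f⁻¹) * f⁻¹) * f⁻¹) * f⁻¹) * f⁻¹ := by
            simp only [pow_succ, pow_zero, one_mul, mul_inv_rev, mul_assoc]
        _ = k⁻¹ := by simp only [h, e2, inv_inv]
    rw [hf5, one_mul, inv_one, mul_one] at h2
    refine hkne ?_
    have : k * k = 1 := by nth_rewrite 1 [h2]; simp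
    rw [this, one_mul] at hk3
    rw [hk3]; exact Commute.one_left z
  refine ⟨f, cent_k_le_Mg M K hone hfk, ?_⟩
  obtain ⟨a, ha, hae⟩ := hf.1.1 z ⟨60, by decide, M.ez⟩
  refine ⟨a, lt_sixteen ha, hae.symm, fun h0 => ?_⟩
  have hq := List.all_eq_true.mp sixteen_in_q a ha
  simp only [h0, beq_self_eq_true, Bool.not_true, Bool.false_or, List.contains_iff_mem, List.mem_cons,
    List.not_mem_nil, or_false] at hq
  -- an element moving `z` inside the four-group only
  have key : ∀ g : G, g ∈ N16 M → Commute g k → Commute g z → g ^ 5 = 1 → g = 1 := by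
    intro g hgN hgk hgz hg5
    obtain ⟨d, hd, hd', rfl⟩ := N16_inter M K hgN hgz
    have := List.all_eq_true.mp dom_five d (mem_dom hd hd')
    have h2 := mulC_lt hd hd
    have h3 := mulC_lt hd h2
    have h4 := mulC_lt hd h3
    have he : mulC d (mulC d (mulC d (mulC d d))) = 0 := M.inj _ _ (mulC_lt hd h4) (by norm_num) (by
      rw [M.mul _ _ hd h4, M.mul _ _ hd h3, M.mul _ _ hd h2, M.mul _ _ hd hd, M.one, ← hg5]
      simp only [pow_succ, pow_zero, one_mul, mul_assoc])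
    simp only [he, beq_self_eq_true, Bool.not_true, Bool.false_or, beq_iff_eq] at this
    rw [this, M.one]
  have hr := K.kap.rot
  have hkN := kap_mem_N16 M K
  have hcase : ∀ s : G, (s = k ∨ s = k⁻¹) → f * z * f⁻¹ = s⁻¹ * z * s → False := by
    intro s hs he
    have hsk : Commute s k := by rcases hs with rfl | rfl; exacts [Commute.refl _, (Commute.refl k).inv_left]
    have hsN : s ∈ N16 M := by rcases hs with rfl | rfl; exacts [hkN, inv_mem hkN]
    have hsf : Commute s f := by rcases hs with rfl | rfl; exacts [hfk.symm, hfk.symm.inv_left]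
    have hzc : Commute (s * f) z := mul_inv_eq_iff_eq_mul.mp (by
      calc s * f * z * (s * f)⁻¹ = s * (f * z * f⁻¹) * s⁻¹ := by group
        _ = z := by rw [he]; group)
    have h5 : Commute (s ^ 5) z := by
      have h := hzc.pow_left 5
      rwa [hsf.mul_pow, hf5, mul_one] at h
    refine hkne ?_
    have hs3 : s ^ 3 = 1 := by
      rcases hs with rfl | rfl
      · rw [pow_succ, pow_two, hk3]
      · rw [inv_pow, pow_succ, pow_two, hk3, inv_one]
    rw [pow_succ, pow_succ, hs3, one_mul] at h5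
    rcases hs with rfl | rfl
    · have : s * s = s⁻¹ := eq_inv_of_mul_eq_one_left hk3
      rw [this] at h5
      exact Commute.inv_left_iff.mp h5
    · have : k⁻¹ * k⁻¹ = k := by
        calc k⁻¹ * k⁻¹ = (k * k * k)⁻¹ * k := by group
          _ = k := by rw [hk3, inv_one, one_mul]
      rwa [this] at h5
  rcases hq with rfl | rfl | rfl | rfl
  · rw [M.one, eq_comm, conj_eq_one_iff] at hae
    exact z_ne M K hae
  · rw [M.ez] at hae
    exact hf1 (key f hf.1 hfk (mul_inv_eq_iff_eq_mul.mp hae.symm) hf5)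
  · exact hcase k⁻¹ (Or.inr rfl) (by rw [← hae, inv_inv, hr.dz])
  · refine hcase k (Or.inl rfl) (hae.symm.trans ?_)
    rw [← hr.du, ← hr.dz]
    have : k * k = k⁻¹ := eq_inv_of_mul_eq_one_left hk3
    calc k * (k * z * k⁻¹) * k⁻¹ = k * k * z * (k * k)⁻¹ := by group
      _ = _ := by rw [this, inv_inv]

theorem oneClass_Mg {x : G} (hx : x ∈ Mg e k) (hx2 : x * x = 1) (hx1 : x ≠ 1) :
    ∃ h ∈ Mg e k, h * z * h⁻¹ = x := by
  obtain ⟨f, hf, a0, ha0, hfe, ha0q⟩ := exists_fusion M K hone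
  have hzM : z ∈ Mg e k := cent_le_Mg M (Commute.refl z)
  have hzz := M.uz.2.1
  -- involutions of the centraliser
  have hC : ∀ w : G, Commute w z → w * w = 1 → w ≠ 1 → ∃ h ∈ Mg e k, h * z * h⁻¹ = w := by
    intro w hw hw2 hw1
    obtain ⟨b, hb, rfl⟩ := M.surj w hw
    have hbb : mulC b b = 0 := M.inj _ _ (mulC_lt hb hb) (by norm_num) (by rw [M.mul _ _ hb hb, hw2, M.one])
    have hb0 : b ≠ 0 := fun h => hw1 (by rw [h, M.one])
    have h := List.all_eq_true.mp invol_classes b (List.mem_range.mpr hb)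
    simp only [hbb, beq_self_eq_true, Bool.true_and, beq_eq_false_iff_ne.mpr hb0, Bool.not_false,
      Bool.not_true, Bool.false_or, List.any_eq_true, List.mem_range, List.contains_iff_mem] at h
    obtain ⟨a, ha, hab⟩ := h
    have hbase : ∀ v ∈ [60, 1800, 13], ∃ h ∈ Mg e k, h * z * h⁻¹ = e v := by
      intro v hv
      simp only [List.mem_cons, List.not_mem_nil, or_false] at hv
      rcases hv with rfl | rfl | rfl
      · exact ⟨1, one_mem _, by simp [M.ez]⟩
      · exact ⟨k, k_mem_Mg, K.kap.rot.dz⟩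
      · have h2 : mulC a0 a0 = 0 := M.inj _ _ (mulC_lt ha0 ha0) (by norm_num) (by
          rw [M.mul _ _ ha0 ha0, ← hfe, M.one]
          calc f * z * f⁻¹ * (f * z * f⁻¹) = f * (z * z) * f⁻¹ := by group
            _ = 1 := by rw [hzz]; group)
        have h := List.all_eq_true.mp invol_outside a0 (List.mem_range.mpr ha0)
        simp only [h2, beq_self_eq_true, Bool.true_and, beq_eq_false_iff_ne.mpr ha0q, Bool.not_false,
          Bool.not_true, Bool.false_or, List.any_eq_true, List.mem_range, beq_iff_eq] at h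
        obtain ⟨c, hc, hce⟩ := h
        refine ⟨e c * f, mul_mem (e_mem_Mg hc) hf, ?_⟩
        rw [← hce, (M.cj hc ha0).2, ← hfe]; group
    obtain ⟨h, hh, hhe⟩ := hbase _ hab
    refine ⟨(e a)⁻¹ * h, mul_mem (inv_mem (e_mem_Mg ha)) hh, ?_⟩
    calc (e a)⁻¹ * h * z * ((e a)⁻¹ * h)⁻¹ = (e a)⁻¹ * (h * z * h⁻¹) * e a := by group
      _ = (e a)⁻¹ * (e a * e b * (e a)⁻¹) * e a := by rw [hhe, (M.cj ha hb).2]
      _ = _ := by group
  -- an element commuting with the two involutions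
  have hxi : x⁻¹ = x := inv_eq_of_mul_eq_one_right hx2
  have hzi : z⁻¹ = z := inv_eq_of_mul_eq_one_right hzz
  have hpos : 0 < orderOf (x * z) := orderOf_pos _
  rcases Nat.even_or_odd' (orderOf (x * z)) with ⟨m, hm | hm⟩
  · set w := (x * z) ^ m with hw
    have hw2 : w * w = 1 := by rw [hw, ← pow_add, ← two_mul, ← hm, pow_orderOf_eq_one]
    have hw1 : w ≠ 1 := pow_ne_one_of_lt_orderOf (by omega) (by omega)
    have hwi : w⁻¹ = w := inv_eq_of_mul_eq_one_right hw2
    have hflip : ∀ (s t : G), s⁻¹ = s → t⁻¹ = t → ∀ n : ℕ, s * (s * t) ^ n * s = ((s * t) ^ n)⁻¹ := by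
      intro s t hs ht n
      calc s * (s * t) ^ n * s = s * (s * t) ^ n * s⁻¹ := by rw [hs]
        _ = (s * (s * t) * s⁻¹) ^ n := by rw [conj_pow]
        _ = ((s * t)⁻¹) ^ n := by
          congr 1
          have : s * s = 1 := by nth_rewrite 1 [← hs]; exact inv_mul_cancel s
          rw [mul_inv_rev, hs, ht, ← mul_assoc, this, one_mul]
        _ = _ := inv_pow _ _
    have hxw : Commute x w := by
      have := hflip x z hxi hzi m
      rw [← hw, hwi] at this
      exact mul_inv_eq_iff_eq_mul.mp (by rw [hxi]; exact this)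
    have hzw : Commute z w := by
      have h1 : z * w * z⁻¹ = w := by
        calc z * w * z⁻¹ = (z * x * (z * z⁻¹)) ^ m := by rw [hw, ← conj_pow]; congr 1; group
          _ = ((x * z)⁻¹) ^ m := by rw [mul_inv_cancel, mul_one, mul_inv_rev, hxi, hzi]
          _ = w := by rw [inv_pow, ← hw, hwi]
      exact mul_inv_eq_iff_eq_mul.mp h1
    obtain ⟨h, hh, hhe⟩ := hC w hzw.symm hw2 hw1
    have hx' : Commute (h⁻¹ * x * h) z := by
      have := hxw.map (MulAut.conj h⁻¹).toMonoidHom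
      rw [← hhe] at this
      simpa [mul_assoc] using this
    obtain ⟨h2, hh2, hh2e⟩ := hC (h⁻¹ * x * h) hx'
      (by rw [show h⁻¹ * x * h * (h⁻¹ * x * h) = h⁻¹ * (x * x) * h by group, hx2]; group)
      (fun he => hx1 (by
        calc x = h * (h⁻¹ * x * h) * h⁻¹ := by group
          _ = 1 := by rw [he]; group))
    refine ⟨h * h2, mul_mem hh hh2, ?_⟩
    calc h * h2 * z * (h * h2)⁻¹ = h * (h2 * z * h2⁻¹) * h⁻¹ := by group
      _ = x := by rw [hh2e]; group
  · have hflip : ∀ n : ℕ, z * ((x * z) ^ n)⁻¹ = (x * z) ^ n * z := by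
      intro n
      induction n with
      | zero => simp
      | succ n ih =>
        rw [pow_succ, mul_inv_rev, mul_inv_rev, hxi, hzi]
        calc z * (z * x * ((x * z) ^ n)⁻¹) = z * z * (x * ((x * z) ^ n)⁻¹) := by simp only [mul_assoc]
          _ = x * ((x * z) ^ n)⁻¹ := by rw [hzz, one_mul]
          _ = x * z * (z * ((x * z) ^ n)⁻¹) := by rw [← mul_assoc (x * z), mul_assoc x z z, hzz, mul_one]
          _ = (x * z) ^ n * (x * z) * z := by rw [ih, ← mul_assoc, (Commute.self_pow (x * z) n).eq]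
    refine ⟨(x * z) ^ (m + 1), pow_mem (mul_mem hx hzM) _, ?_⟩
    rw [mul_assoc, hflip, ← mul_assoc, ← pow_add, show m + 1 + (m + 1) = 2 * m + 1 + 1 by omega, pow_succ,
      ← hm, pow_orderOf_eq_one, one_mul, mul_assoc, hzz, mul_one]

end

end H36.J3U
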