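import Cfsg.Agent.H36.J3U.Eval
import Cfsg.Agent.H36.J3U.Gen
import Cfsg.Agent.H36.J2U.WeakClosure
import Cfsg.Agent.H36.J2U.Simple
import Cfsg.Agent.H1.J3.Reduce
import Cfsg.Agent.S2135
import Cfsg.Agent.H94.J3.Perm

/-!
Simple groups with the hypothesis have a numbered centraliser; the group `J₃` of the Prelude among them.
-/

set_option autoImplicit false
set_option maxRecDepth 100000
set_option synthInstance.maxSize 4000
set_option synthInstance.maxHeartbeats 200000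

namespace H36.J3U

open H36.HJ

local notation "A5" => alternatingGroup (Fin 5)

theorem oneClass_of {G : Type*} [Group G]
    (hone : ∀ x y : G, orderOf x = 2 → orderOf y = 2 → IsConj x y) : OneClass G := fun x y hx hx1 hy hy1 => by
  haveI : Fact (Nat.Prime 2) := ⟨Nat.prime_two⟩
  exact hone x y (orderOf_eq_prime (by rw [pow_two, hx]) hx1) (orderOf_eq_prime (by rw [pow_two, hy]) hy1)

theorem exists_mdl {G : Type*} [Group G] [Finite G] [IsSimpleGroup G] (t : G) (ht : orderOf t = 2)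
    (Q : Subgroup (Subgroup.centralizer ({t} : Set G))) [Q.Normal] (hQ : Cfsg.IsExtraspecial 2 Q)
    (hcard : Nat.card Q = 32)
    (hminus : ∀ E : Subgroup Q, Cfsg.IsElementaryAbelian 2 E → Nat.card E ≤ 2 ^ 2)
    (h2c : Subgroup.centralizer (Q : Set (Subgroup.centralizer ({t} : Set G))) ≤ Q)
    (e : (Subgroup.centralizer ({t} : Set G)) ⧸ Q ≃* A5) :
    ∃ f : Nat → G, Mdl t f := by
  classical
  let χ := (e : _ →* A5).comp (QuotientGroup.mk' Q)
  have hker : ∀ g, χ g = 1 ↔ g ∈ Q := fun g => by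
    show e (QuotientGroup.mk' Q g) = 1 ↔ g ∈ Q
    rw [map_eq_one_iff _ e.injective]
    exact QuotientGroup.eq_one_iff g
  set Q' := Q.map (Subgroup.centralizer ({t} : Set G)).subtype
  have hmem : ∀ g : Subgroup.centralizer ({t} : Set G), (g : G) ∈ Q' ↔ g ∈ Q := fun g =>
    Subgroup.mem_map_iff_mem (Subgroup.subtype_injective _)
  have eQ := Q.equivMapOfInjective _ (Subgroup.subtype_injective (Subgroup.centralizer ({t} : Set G)))
  have htm : t ∈ Q' := by
    refine (hmem ⟨t, Subgroup.mem_centralizer_singleton_iff.mpr rfl⟩).mpr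
      (h2c (Subgroup.mem_centralizer_iff.mpr fun q _ => ?_))
    exact Subtype.ext (Subgroup.mem_centralizer_singleton_iff.mp q.2)
  have hcard' : Nat.card Q' = 32 := by rw [← Nat.card_congr eQ.toEquiv, hcard]
  have hm : H36.J2U.Minus t Q' χ := by
    refine ⟨ht, Subgroup.map_subtype_le _, e.surjective.comp (QuotientGroup.mk'_surjective Q),
      fun g => (hker g).trans (hmem g).symm, H36.HJ.isExtraspecial_congr eQ hQ, hcard', htm, fun E hE => ?_⟩
    have h1 := hminus (E.map (eQ.symm : Q' →* Q)) ⟨⟨⟨?_⟩⟩, ?_⟩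
    · rwa [← Nat.card_congr (E.equivMapOfInjective _ eQ.symm.injective).toEquiv] at h1
    · rintro ⟨_, a, ha, rfl⟩ ⟨_, b, hb, rfl⟩
      refine Subtype.ext ?_
      show (eQ.symm a) * eQ.symm b = eQ.symm b * eQ.symm a
      rw [← map_mul, ← map_mul]
      exact congrArg _ (congrArg Subtype.val (hE.1.1.1 ⟨a, ha⟩ ⟨b, hb⟩))
    · rintro _ ⟨a, ha, rfl⟩
      rw [← map_pow, hE.2 a ha, map_one]
  obtain ⟨g, hgQ, hne⟩ := hm.nwc
  have H : Hyp t Q' χ := ⟨ht, hm.le, hm.surj, hm.ker, hm.extra, hcard', htm,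
    fun c hc hq => (hmem ⟨c, Subgroup.mem_centralizer_singleton_iff.mpr hc⟩).mpr
      (h2c (Subgroup.mem_centralizer_iff.mpr fun q hq' =>
        Subtype.ext ((hq q ((hmem q).mpr hq')).eq.symm))), g, hgQ, hne⟩
  obtain ⟨ψ, u, L⟩ := exists_lab1 H
  obtain ⟨h, P⟩ := H.exists_pair L.lab.sat
  refine ⟨eC t ψ u, L.mul, fun a b ha hb hab => L.inj ha hb hab, fun g hg => L.surj hg, L.e_gen.2.1, h, ?_⟩
  have h1800 : eC t ψ u 1800 = u := L.e_gen.2.2
  rw [h1800]
  exact ⟨P.hz, P.hu⟩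

theorem two_central_of_oneClass {G : Type*} [Group G] [Finite G] {t : G} (ht : orderOf t = 2)
    (hone : ∀ x y : G, orderOf x = 2 → orderOf y = 2 → IsConj x y) : Cfsg.IsTwoCentralInvolution t := by
  haveI : Fact (Nat.Prime 2) := ⟨Nat.prime_two⟩
  obtain ⟨P⟩ : Nonempty (Sylow 2 G) := inferInstance
  have h2G : 2 ∣ Nat.card G := ht ▸ orderOf_dvd_natCard t
  haveI : Nontrivial (P : Subgroup G) := by
    rw [← Finite.one_lt_card_iff_nontrivial]
    have := P.dvd_card_of_dvd_card h2G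
    exact lt_of_lt_of_le one_lt_two (Nat.le_of_dvd Nat.card_pos this)
  haveI := P.2.center_nontrivial
  have hZp : IsPGroup 2 (Subgroup.center (P : Subgroup G)) := P.2.to_subgroup _
  obtain ⟨n, hn⟩ := hZp.exists_card_eq
  have hn1 : 1 < Nat.card (Subgroup.center (P : Subgroup G)) := Finite.one_lt_card
  have h2Z : 2 ∣ Nat.card (Subgroup.center (P : Subgroup G)) := by
    rw [hn] at hn1 ⊢
    exact dvd_pow_self 2 (fun h => by rw [h] at hn1; simp at hn1)
  obtain ⟨c, hc⟩ := exists_prime_orderOf_dvd_card' (G := Subgroup.center (P : Subgroup G)) 2 h2Z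
  rw [← Subgroup.orderOf_coe, ← Subgroup.orderOf_coe] at hc
  obtain ⟨x, hx⟩ := isConj_iff.mp (hone ((c : (P : Subgroup G)) : G) t hc ht)
  refine ⟨ht, x • P, ?_, ?_⟩
  · show t ∈ ((x • P : Sylow 2 G) : Subgroup G)
    rw [Sylow.coe_subgroup_smul, ← hx]
    exact Subgroup.smul_mem_pointwise_smul _ (MulAut.conj x) _ (c : (P : Subgroup G)).2
  · intro y hy
    have hy' : y ∈ ((x • P : Sylow 2 G) : Subgroup G) := hy
    rw [Sylow.coe_subgroup_smul] at hy'
    obtain ⟨p, hp, rfl⟩ := hy'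
    have hcp : (p : G) * ((c : (P : Subgroup G)) : G) = ((c : (P : Subgroup G)) : G) * p :=
      congrArg Subtype.val (Subgroup.mem_center_iff.mp c.2 ⟨p, hp⟩)
    rw [← hx]
    show x * p * x⁻¹ * (x * ((c : (P : Subgroup G)) : G) * x⁻¹) =
      x * ((c : (P : Subgroup G)) : G) * x⁻¹ * (x * p * x⁻¹)
    calc x * p * x⁻¹ * (x * ((c : (P : Subgroup G)) : G) * x⁻¹)
        = x * (p * ((c : (P : Subgroup G)) : G)) * x⁻¹ := by group
      _ = _ := by rw [hcp]; group

theorem j3_mdl {F : Type} [Field F] [Fintype F] (hF : Fintype.card F = 4) (ω : F) (hω : ω ^ 2 + ω + 1 = 0) :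
    Finite (Cfsg.Spor.J3 F ω) ∧ IsSimpleGroup (Cfsg.Spor.J3 F ω) ∧ Nat.card (Cfsg.Spor.J3 F ω) = 50232960 ∧
      OneClass (Cfsg.Spor.J3 F ω) ∧ ∃ (t : Cfsg.Spor.J3 F ω) (f : Nat → Cfsg.Spor.J3 F ω), Mdl t f := by
  obtain ⟨-, -, hs, hc⟩ := H94.J3.threeJ3_facts (ω := ω) hF hω
  haveI : Finite (Cfsg.Spor.J3 F ω) := Nat.finite_of_card_ne_zero (by rw [hc]; norm_num)
  haveI := hs
  obtain ⟨hone, t, ht, Q, hQn, hQ, hQ32, -, -, ⟨e⟩⟩ := Cfsg.Agent.S2135.result hF ω hω
  obtain ⟨hminus, h2c⟩ := H1.J3.reduce t (two_central_of_oneClass ht hone) Q hQ hQ32 e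
  exact ⟨inferInstance, hs, hc, oneClass_of hone, t, exists_mdl t ht Q hQ hQ32 hminus h2c e⟩

end H36.J3U
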