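import Cfsg.Agent.H36.J3U.KappaData
import Mathlib

/-!
A group with the table group as an involution centraliser contains an element `κ` of order three
satisfying the first relators.
-/

set_option autoImplicit false
set_option maxRecDepth 100000

namespace H36.J3U

variable {G : Type*} [Group G]

/-- The centraliser of the involution `z` is numbered by the table group. -/
structure Mdl (z : G) (e : Nat → G) : Prop where
  mul : ∀ a b, a < 1920 → b < 1920 → e (mulC a b) = e a * e b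
  inj : ∀ a b, a < 1920 → b < 1920 → e a = e b → a = b
  surj : ∀ g : G, Commute g z → ∃ a, a < 1920 ∧ e a = g
  ez : e 60 = z
  swap : ∃ h : G, h * z * h⁻¹ = e 1800 ∧ h * e 1800 * h⁻¹ = z

variable {z : G} {e : Nat → G}

theorem central_z : (List.range 1920).all (fun a => mulC a 60 == mulC 60 a) = true := by decide +kernel

namespace Mdl

variable (M : Mdl z e)
include M

theorem one : e 0 = 1 := by
  have h := M.mul 0 0 (by norm_num) (by norm_num)
  rw [show mulC 0 0 = 0 from table_facts.2.1] at h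
  exact mul_eq_left.mp h.symm

theorem inv {a : Nat} (ha : a < 1920) : e (invC a) = (e a)⁻¹ := by
  refine eq_inv_of_mul_eq_one_right ?_
  rw [← M.mul a _ ha (invC_lt ha).1, (invC_lt ha).2, show oneC = 0 from rfl, M.one]

theorem comm {a b : Nat} (ha : a < 1920) (hb : b < 1920) (h : mulC a b = mulC b a) :
    Commute (e a) (e b) := by
  show e a * e b = e b * e a
  rw [← M.mul a b ha hb, ← M.mul b a hb ha, h]

theorem comm_z {a : Nat} (ha : a < 1920) : Commute (e a) z := by
  rw [← M.ez]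
  exact M.comm ha (by norm_num) (by simpa using List.all_eq_true.mp central_z a (List.mem_range.mpr ha))

theorem cj {a b : Nat} (ha : a < 1920) (hb : b < 1920) :
    cjC a b < 1920 ∧ e (cjC a b) = e a * e b * (e a)⁻¹ := by
  refine ⟨mulC_lt (mulC_lt ha hb) (invC_lt ha).1, ?_⟩
  rw [cjC, M.mul _ _ (mulC_lt ha hb) (invC_lt ha).1, M.mul a b ha hb, M.inv ha]

theorem of_comm_pair {g : G} (hz : Commute g z) (hu : Commute g (e 1800)) :
    ∃ d, d < 1920 ∧ phiC d < 1920 ∧ e d = g := by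
  obtain ⟨d, hd, rfl⟩ := M.surj g hz
  refine ⟨d, hd, ?_, rfl⟩
  have h := List.all_eq_true.mp dom_iff d (List.mem_range.mpr hd)
  have he : mulC d 1800 = mulC 1800 d := M.inj _ _ (mulC_lt hd (by norm_num)) (mulC_lt (by norm_num) hd)
    (by rw [M.mul _ _ hd (by norm_num), M.mul _ _ (by norm_num) hd, hu.eq])
  simpa [he] using h

theorem comm_u {d : Nat} (hd : d < 1920) (h : phiC d < 1920) : Commute (e d) (e 1800) := by
  have h' := List.all_eq_true.mp dom_iff d (List.mem_range.mpr hd)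
  exact M.comm hd (by norm_num) (by simpa [h] using h')

theorem uz : e 1860 = e 1800 * z ∧ z * z = 1 ∧ e 1800 * e 1800 = 1 ∧ e 120 * e 1800 * (e 120)⁻¹ = e 1860 ∧
    Commute (e 1800) z ∧ e 120 * z * (e 120)⁻¹ = z := by
  have f : mulC 1800 60 = 1860 ∧ mulC 60 60 = 0 ∧ mulC 1800 1800 = 0 ∧ cjC 120 1800 = 1860 := by
    decide +kernel
  refine ⟨?_, ?_, ?_, ?_, M.comm_z (by norm_num), ?_⟩
  · rw [← f.1, M.mul _ _ (by norm_num) (by norm_num), M.ez]
  · rw [← M.ez, ← M.mul _ _ (by norm_num) (by norm_num), f.2.1, M.one]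
  · rw [← M.mul _ _ (by norm_num) (by norm_num), f.2.2.1, M.one]
  · rw [← (M.cj (by norm_num) (by norm_num)).2, f.2.2.2]
  · rw [(M.comm_z (by norm_num : 120 < 1920)).eq, mul_inv_cancel_right]

end Mdl

theorem mem_dom {d : Nat} (hd : d < 1920) (h : phiC d < 1920) : d ∈ domList.map Prod.fst := by
  have := List.all_eq_true.mp dom_cover d (List.mem_range.mpr hd)
  simpa [h] using this

theorem six_facts {x : Nat} (hx : x ∈ six) :
    x < 1920 ∧ phiC x < 1920 ∧ mulC x x = 0 ∧ x ≠ 0 ∧ cjC 15 x ≠ x ∧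
      mulC x (cjC 15 x) = mulC (cjC 15 x) x ∧ cjC 15 (cjC 15 x) = mulC x (cjC 15 x) ∧ cjC 15 x ∈ six := by
  have := List.all_eq_true.mp six_spec x hx
  simp only [Bool.and_eq_true, decide_eq_true_eq, beq_iff_eq, Bool.not_eq_true',
    beq_eq_false_iff_ne, List.contains_iff_mem] at this
  obtain ⟨⟨⟨⟨⟨⟨⟨h1, h2⟩, h3⟩, h4⟩, h5⟩, h6⟩, h7⟩, h8⟩ := this
  exact ⟨h1, h2, h3, h4, h5, h6, h7, h8⟩

/-- An element rotating the four-group and centralising `c`. -/
structure Rot (z : G) (e : Nat → G) (d : G) : Prop where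
  dz : d * z * d⁻¹ = e 1800
  du : d * e 1800 * d⁻¹ = e 1860
  duz : d * e 1860 * d⁻¹ = z
  dc : Commute d (e 15)

namespace Rot

variable {d : G} (R : Rot z e d) (M : Mdl z e)
include R M

theorem comm_img {g : G} (hz : Commute g z) (hu : Commute g (e 1800)) :
    Commute (d * g * d⁻¹) z ∧ Commute (d * g * d⁻¹) (e 1800) := by
  have h1 : Commute g (e 1860) := by rw [M.uz.1]; exact hu.mul_right hz
  constructor
  · have := h1.map (MulAut.conj d).toMonoidHom
    simpa [R.duz] using this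
  · have := hz.map (MulAut.conj d).toMonoidHom
    simpa [R.dz] using this

theorem six_img {x : Nat} (hx : x ∈ six) : ∃ y ∈ six, e y = d * e x * d⁻¹ := by
  obtain ⟨h1, h2, h3, h4, h5, h6, h7, -⟩ := six_facts hx
  obtain ⟨ha, hb⟩ := R.comm_img M (M.comm_z h1) (M.comm_u h1 h2)
  obtain ⟨y, hy, hy', hye⟩ := M.of_comm_pair ha hb
  refine ⟨y, ?_, hye⟩
  obtain ⟨hxc, hxce⟩ := M.cj (show 15 < 1920 by norm_num) h1
  obtain ⟨hyc, hyce⟩ := M.cj (show 15 < 1920 by norm_num) hy
  have hconj : e (cjC 15 y) = d * e (cjC 15 x) * d⁻¹ := by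
    rw [hyce, hxce, hye]
    calc e 15 * (d * e x * d⁻¹) * (e 15)⁻¹ = e 15 * d * e x * (e 15 * d)⁻¹ := by group
      _ = d * e 15 * e x * (d * e 15)⁻¹ := by rw [R.dc.eq]
      _ = _ := by group
  have e3 : mulC y y = 0 := M.inj _ _ (mulC_lt hy hy) (by norm_num) (by
    rw [M.mul _ _ hy hy, hye, M.one]
    calc d * e x * d⁻¹ * (d * e x * d⁻¹) = d * (e x * e x) * d⁻¹ := by group
      _ = 1 := by rw [← M.mul _ _ h1 h1, h3, M.one]; simp)
  have e4 : y ≠ 0 := fun h => h4 (M.inj _ _ h1 (by norm_num) (by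
    rw [M.one]; rw [h, M.one] at hye; exact conj_eq_one_iff.mp hye.symm))
  have e5 : cjC 15 y ≠ y := fun h => h5 (M.inj _ _ hxc h1 (by
    have := congrArg e h
    rw [hconj, hye] at this
    exact mul_left_cancel (mul_right_cancel this)))
  have e6 : mulC y (cjC 15 y) = mulC (cjC 15 y) y := M.inj _ _ (mulC_lt hy hyc) (mulC_lt hyc hy) (by
    rw [M.mul _ _ hy hyc, M.mul _ _ hyc hy, hye, hconj]
    calc d * e x * d⁻¹ * (d * e (cjC 15 x) * d⁻¹) = d * (e x * e (cjC 15 x)) * d⁻¹ := by group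
      _ = d * (e (cjC 15 x) * e x) * d⁻¹ := by rw [← M.mul _ _ h1 hxc, h6, M.mul _ _ hxc h1]
      _ = _ := by group)
  have e7 : cjC 15 (cjC 15 y) = mulC y (cjC 15 y) := M.inj _ _ (M.cj (by norm_num) hyc).1 (mulC_lt hy hyc) (by
    rw [(M.cj (by norm_num) hyc).2, M.mul _ _ hy hyc, hye, hconj]
    calc e 15 * (d * e (cjC 15 x) * d⁻¹) * (e 15)⁻¹ = e 15 * d * e (cjC 15 x) * (e 15 * d)⁻¹ := by group
      _ = d * e 15 * e (cjC 15 x) * (d * e 15)⁻¹ := by rw [R.dc.eq]
      _ = d * (e 15 * e (cjC 15 x) * (e 15)⁻¹) * d⁻¹ := by group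
      _ = d * (e x * e (cjC 15 x)) * d⁻¹ := by
        rw [← (M.cj (show 15 < 1920 by norm_num) hxc).2, h7, M.mul _ _ h1 hxc]
      _ = _ := by group)
  have := List.all_eq_true.mp dom_four y (mem_dom hy hy')
  simpa [e3, e4, e5, e6, e7] using this

theorem cube_twelve : ∃ y, y ∈ twelve ∧ e y = d * d * d := by
  have hz : d * (d * (d * z * d⁻¹) * d⁻¹) * d⁻¹ = z := by rw [R.dz, R.du, R.duz]
  have hu : d * (d * (d * e 1800 * d⁻¹) * d⁻¹) * d⁻¹ = e 1800 := by rw [R.du, R.duz, R.dz]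
  obtain ⟨y, hy, hy', hye⟩ := M.of_comm_pair (g := d * d * d)
    (mul_inv_eq_iff_eq_mul.mp ((show d * d * d * z * (d * d * d)⁻¹ = d * (d * (d * z * d⁻¹) * d⁻¹) * d⁻¹ by group).trans hz))
    (mul_inv_eq_iff_eq_mul.mp ((show d * d * d * e 1800 * (d * d * d)⁻¹ = d * (d * (d * e 1800 * d⁻¹) * d⁻¹) * d⁻¹ by group).trans hu))
  refine ⟨y, ?_, hye⟩
  have hc : cjC y 15 = 15 := M.inj _ _ (M.cj hy (by norm_num)).1 (by norm_num) (by
    rw [(M.cj hy (by norm_num)).2, hye]
    exact mul_inv_eq_iff_eq_mul.mpr ((R.dc.mul_left R.dc).mul_left R.dc))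
  have := List.all_eq_true.mp dom_twelve y (mem_dom hy hy')
  simpa [hc] using this

theorem images : ∃ a b, a ∈ [13, 43, 30] ∧ b ∈ [1183, 1290, 1513] ∧
    e a = d * e 13 * d⁻¹ ∧ e b = d * e 1183 * d⁻¹ := by
  obtain ⟨a, ha, hae⟩ := R.six_img M (x := 13) (by decide)
  obtain ⟨b, hb, hbe⟩ := R.six_img M (x := 1183) (by decide)
  obtain ⟨ha1, -, -, -, -, -, -, ha'⟩ := six_facts ha
  obtain ⟨ha'1, -, -, -, -, -, -, ha''⟩ := six_facts ha'
  obtain ⟨hb1, -, -, -, -, -, -, hb'⟩ := six_facts hb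
  obtain ⟨hb'1, -, -, -, -, -, -, hb''⟩ := six_facts hb'
  obtain ⟨ha''1, -⟩ := six_facts ha''
  obtain ⟨hb''1, -⟩ := six_facts hb''
  have hc : ∀ x, x < 1920 → ∀ g, e x = d * g * d⁻¹ → e (cjC 15 x) = d * (e 15 * g * (e 15)⁻¹) * d⁻¹ := by
    intro x hx g hg
    rw [(M.cj (by norm_num) hx).2, hg]
    calc e 15 * (d * g * d⁻¹) * (e 15)⁻¹ = e 15 * d * g * (e 15 * d)⁻¹ := by group
      _ = d * e 15 * g * (d * e 15)⁻¹ := by rw [R.dc.eq]
      _ = _ := by group
  obtain ⟨o1, o2, o3, o4, o5, o6⟩ := six_orbit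
  have hcl : ∀ x y, x < 1920 → y < 1920 → e (cjC x y) = e x * e y * (e x)⁻¹ := fun x y hx hy => (M.cj hx hy).2
  have hmap : ∀ x ∈ six, e (sixMap a b x) = d * e x * d⁻¹ := by
    intro x hx
    simp only [six, List.mem_cons, List.not_mem_nil, or_false] at hx
    rcases hx with rfl | rfl | rfl | rfl | rfl | rfl <;>
      simp only [sixMap, reduceIte, Nat.reduceEqDiff]
    · exact hae
    · rw [hc a ha1 _ hae, ← hcl 15 13 (by norm_num) (by norm_num), o1]
    · rw [hc _ ha'1 _ (hc a ha1 _ hae), ← hcl 15 13 (by norm_num) (by norm_num), o1,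
        ← hcl 15 43 (by norm_num) (by norm_num), o2]
    · exact hbe
    · rw [hc b hb1 _ hbe, ← hcl 15 1183 (by norm_num) (by norm_num), o4]
    · rw [hc _ hb'1 _ (hc b hb1 _ hbe), ← hcl 15 1183 (by norm_num) (by norm_num), o4,
        ← hcl 15 1290 (by norm_num) (by norm_num), o5]
  have hmem : ∀ x ∈ six, sixMap a b x ∈ six := by
    intro x hx
    simp only [six, List.mem_cons, List.not_mem_nil, or_false] at hx
    rcases hx with rfl | rfl | rfl | rfl | rfl | rfl <;>
      simp only [sixMap, reduceIte, Nat.reduceEqDiff] <;> assumption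
  obtain ⟨y, hy, hye⟩ := R.cube_twelve M
  have hy1 : y < 1920 := by
    have : ∀ y ∈ twelve, y < 1920 := by decide
    exact this y hy
  have hf : sixMap a b (sixMap a b a) = cjC y 13 := by
    have h1 := hmem _ ha
    have h2 := hmem _ h1
    refine M.inj _ _ (six_facts h2).1 (M.cj hy1 (by norm_num)).1 ?_
    rw [hmap _ h1, hmap _ ha, hae, (M.cj hy1 (by norm_num)).2, hye]
    group
  have hnot : ∀ x, x ∈ [13, 43, 30] → x ≠ 1183 := by decide
  have hbn : ¬ b ∈ [a, cjC 15 a, cjC 15 (cjC 15 a)] := by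
    intro hb0
    simp only [List.mem_cons, List.not_mem_nil, or_false] at hb0
    have key : ∀ x ∈ [13, 43, 30], ∀ y, e y = d * e x * d⁻¹ → b ≠ y := by
      intro x hx y hyx hby
      have hx1 : x < 1920 := by
        have : ∀ x ∈ [13, 43, 30], x < 1920 := by decide
        exact this x hx
      refine hnot x hx (M.inj _ _ hx1 (by norm_num) ?_)
      rw [← hby, hbe] at hyx
      exact (mul_left_cancel (mul_right_cancel hyx)).symm
    rcases hb0 with h | h | h
    · exact key 13 (by decide) a hae h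
    · refine key 43 (by decide) _ ?_ h
      rw [hc a ha1 _ hae, ← hcl 15 13 (by norm_num) (by norm_num), o1]
    · refine key 30 (by decide) _ ?_ h
      rw [hc _ ha'1 _ (hc a ha1 _ hae), ← hcl 15 13 (by norm_num) (by norm_num), o1,
        ← hcl 15 43 (by norm_num) (by norm_num), o2]
  have := List.all_eq_true.mp (List.all_eq_true.mp (List.all_eq_true.mp six_fix a ha) b hb) y hy
  simp only [hf, beq_self_eq_true, Bool.true_and, Bool.or_eq_true, Bool.and_eq_true,
    Bool.not_eq_true', List.contains_iff_mem] at this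
  rcases this with h | ⟨h1, h2⟩
  · exfalso; simp [hbn] at h
  · exact ⟨a, b, h1, h2, hae, hbe⟩

end Rot

/-- An element rotating the four-group and acting on its centraliser as prescribed by the table. -/
structure Kap (z : G) (e : Nat → G) (k : G) : Prop where
  rot : Rot z e k
  kw : k * e 13 * k⁻¹ = e 43
  kv : k * e 1183 * k⁻¹ = e 1183

theorem exists_rot (M : Mdl z e) : ∃ d, Rot z e d := by
  obtain ⟨h, hz, hu⟩ := M.swap
  obtain ⟨huz, hzz, huu, h120, hcu, h120z⟩ := M.uz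
  have huz' : h * e 1860 * h⁻¹ = e 1860 := by
    calc h * e 1860 * h⁻¹ = (h * e 1800 * h⁻¹) * (h * z * h⁻¹) := by rw [huz]; group
      _ = e 1860 := by rw [hu, hz, huz, hcu.eq]
  set d := h * e 120 with hd
  have hdz : d * z * d⁻¹ = e 1800 := by
    calc d * z * d⁻¹ = h * (e 120 * z * (e 120)⁻¹) * h⁻¹ := by rw [hd]; group
      _ = _ := by rw [h120z, hz]
  have hdu : d * e 1800 * d⁻¹ = e 1860 := by
    calc d * e 1800 * d⁻¹ = h * (e 120 * e 1800 * (e 120)⁻¹) * h⁻¹ := by rw [hd]; group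
      _ = _ := by rw [h120, huz']
  have hduz : d * e 1860 * d⁻¹ = z := by
    calc d * e 1860 * d⁻¹ = (d * e 1800 * d⁻¹) * (d * z * d⁻¹) := by rw [huz]; group
      _ = e 1800 * z * e 1800 := by rw [hdu, hdz, huz]
      _ = z := by rw [hcu.eq, mul_assoc, huu, mul_one]
  have hcz : Commute (e 15) z := M.comm_z (by norm_num)
  have hcu' : Commute (e 15) (e 1800) := M.comm_u (by norm_num) (by decide +kernel)
  have h1 : Commute (d * e 15 * d⁻¹) z := by
    have h1 : Commute (e 15) (e 1860) := by rw [huz]; exact hcu'.mul_right hcz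
    have := h1.map (MulAut.conj d).toMonoidHom
    simpa [hduz] using this
  have h2 : Commute (d * e 15 * d⁻¹) (e 1800) := by
    have := hcz.map (MulAut.conj d).toMonoidHom
    simpa [hdz] using this
  obtain ⟨x, hx, hx', hxe⟩ := M.of_comm_pair h1 h2
  have f : mulC 15 (mulC 15 15) = 0 ∧ mulC 15 15 = 24 := by decide +kernel
  have hc3 : e 15 * (e 15 * e 15) = 1 := by
    rw [← M.mul _ _ (by norm_num) (by norm_num), ← M.mul _ _ (by norm_num) (mulC_lt (by norm_num) (by norm_num)),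
      f.1, M.one]
  have x3 : mulC x (mulC x x) = 0 := M.inj _ _ (mulC_lt hx (mulC_lt hx hx)) (by norm_num) (by
    rw [M.mul _ _ hx (mulC_lt hx hx), M.mul _ _ hx hx, hxe, M.one]
    calc d * e 15 * d⁻¹ * (d * e 15 * d⁻¹ * (d * e 15 * d⁻¹)) = d * (e 15 * (e 15 * e 15)) * d⁻¹ := by group
      _ = 1 := by rw [hc3]; simp)
  have x0 : x ≠ 0 := fun h0 => by
    rw [h0, M.one] at hxe
    have := M.inj 15 0 (by norm_num) (by norm_num) (by rw [M.one]; exact conj_eq_one_iff.mp hxe.symm)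
    omega
  have hth := List.all_eq_true.mp dom_three x (mem_dom hx hx')
  simp only [x3, beq_self_eq_true, Bool.true_and, Bool.or_eq_true, Bool.not_not,
    List.any_eq_true, beq_iff_eq, x0, false_or] at hth
  obtain ⟨a, ha, hax⟩ := hth
  obtain ⟨ha1, ha2⟩ : a < 1920 ∧ phiC a < 1920 := by
    have : (domList.map Prod.fst).all (fun a => decide (a < 1920) && decide (phiC a < 1920)) = true := by
      decide +kernel
    simpa using List.all_eq_true.mp this a ha
  set d' := e a * d with hd'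
  have haz : ∀ g : G, Commute (e a) g → d' * z * d'⁻¹ = e a * (d * z * d⁻¹) * (e a)⁻¹ := fun g _ => by
    rw [hd']; group
  have hau : Commute (e a) (e 1800) := M.comm_u ha1 ha2
  have hauz : Commute (e a) (e 1860) := by rw [huz]; exact hau.mul_right (M.comm_z ha1)
  have rz : d' * z * d'⁻¹ = e 1800 := by
    calc d' * z * d'⁻¹ = e a * (d * z * d⁻¹) * (e a)⁻¹ := by rw [hd']; group
      _ = _ := by rw [hdz, hau.eq, mul_inv_cancel_right]
  have ru : d' * e 1800 * d'⁻¹ = e 1860 := by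
    calc d' * e 1800 * d'⁻¹ = e a * (d * e 1800 * d⁻¹) * (e a)⁻¹ := by rw [hd']; group
      _ = _ := by rw [hdu, hauz.eq, mul_inv_cancel_right]
  have ruz : d' * e 1860 * d'⁻¹ = z := by
    calc d' * e 1860 * d'⁻¹ = e a * (d * e 1860 * d⁻¹) * (e a)⁻¹ := by rw [hd']; group
      _ = _ := by rw [hduz, (M.comm_z ha1).eq, mul_inv_cancel_right]
  have hcase : d' * e 15 * d'⁻¹ = e (cjC a x) := by
    rw [(M.cj ha1 hx).2, hxe, hd']; group
  rcases hax with h15 | h24
  · exact ⟨d', rz, ru, ruz, mul_inv_eq_iff_eq_mul.mp (by rw [hcase, h15])⟩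
  · exfalso
    rw [h24] at hcase
    have h24c : d' * e 24 * d'⁻¹ = e 15 := by
      calc d' * e 24 * d'⁻¹ = (d' * e 15 * d'⁻¹) * (d' * e 15 * d'⁻¹) := by
            rw [← f.2, M.mul _ _ (by norm_num) (by norm_num)]; group
        _ = e 15 := by
          rw [hcase, ← M.mul _ _ (by norm_num) (by norm_num), show mulC 24 24 = 15 by decide +kernel]
    have h3 : d' * d' * d' * e 15 * (d' * d' * d')⁻¹ = e 24 := by
      calc _ = d' * (d' * (d' * e 15 * d'⁻¹) * d'⁻¹) * d'⁻¹ := by group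
        _ = _ := by rw [hcase, h24c, hcase]
    obtain ⟨y, hy, hy', hye⟩ := M.of_comm_pair (g := d' * d' * d')
      (mul_inv_eq_iff_eq_mul.mp (by
        calc d' * d' * d' * z * (d' * d' * d')⁻¹ = d' * (d' * (d' * z * d'⁻¹) * d'⁻¹) * d'⁻¹ := by group
          _ = z := by rw [rz, ru, ruz]))
      (mul_inv_eq_iff_eq_mul.mp (by
        calc d' * d' * d' * e 1800 * (d' * d' * d')⁻¹ = d' * (d' * (d' * e 1800 * d'⁻¹) * d'⁻¹) * d'⁻¹ := by group
          _ = e 1800 := by rw [ru, ruz, rz]))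
    rw [← hye, ← (M.cj hy (by norm_num)).2] at h3
    have hb := M.inj _ _ (M.cj hy (by norm_num)).1 (by norm_num) h3
    have := List.all_eq_true.mp dom_not_inv y (mem_dom hy hy')
    simp [hb] at this

theorem exists_kap (M : Mdl z e) : ∃ k, Kap z e k := by
  obtain ⟨d, R⟩ := exists_rot M
  obtain ⟨a, b, ha, hb, hae, hbe⟩ := R.images M
  -- adjust by a power of `c` to fix `v`
  obtain ⟨k, Rk, hkv, a', ha', hka⟩ : ∃ k, Rot z e k ∧ k * e 1183 * k⁻¹ = e 1183 ∧
      ∃ a' ∈ [13, 43, 30], k * e 13 * k⁻¹ = e a' := by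
    have mk : ∀ n ∈ [0, 15, 24], cjC n b = 1183 → ∃ k, Rot z e k ∧ k * e 1183 * k⁻¹ = e 1183 ∧
        ∃ a' ∈ [13, 43, 30], k * e 13 * k⁻¹ = e a' := by
      intro n hn hnb
      have hn1 : n < 1920 := by
        have : ∀ n ∈ [0, 15, 24], n < 1920 := by decide
        exact this n hn
      have hnd : phiC n < 1920 := by
        have : ∀ n ∈ [0, 15, 24], phiC n < 1920 := by decide +kernel
        exact this n hn
      have hb1 : b < 1920 := by
        have : ∀ n ∈ [1183, 1290, 1513], n < 1920 := by decide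
        exact this b hb
      have ha1 : a < 1920 := by
        have : ∀ n ∈ [13, 43, 30], n < 1920 := by decide
        exact this a ha
      have hnc : Commute (e n) (e 15) := by
        refine M.comm hn1 (by norm_num) ?_
        have : ∀ n ∈ [0, 15, 24], mulC n 15 = mulC 15 n := by decide +kernel
        exact this n hn
      have hnu : Commute (e n) (e 1800) := M.comm_u hn1 hnd
      have hnuz : Commute (e n) (e 1860) := by rw [M.uz.1]; exact hnu.mul_right (M.comm_z hn1)
      refine ⟨e n * d, ⟨?_, ?_, ?_, hnc.mul_left R.dc⟩, ?_, cjC n a, ?_, ?_⟩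
      · calc e n * d * z * (e n * d)⁻¹ = e n * (d * z * d⁻¹) * (e n)⁻¹ := by group
          _ = _ := by rw [R.dz, hnu.eq, mul_inv_cancel_right]
      · calc e n * d * e 1800 * (e n * d)⁻¹ = e n * (d * e 1800 * d⁻¹) * (e n)⁻¹ := by group
          _ = _ := by rw [R.du, hnuz.eq, mul_inv_cancel_right]
      · calc e n * d * e 1860 * (e n * d)⁻¹ = e n * (d * e 1860 * d⁻¹) * (e n)⁻¹ := by group
          _ = _ := by rw [R.duz, (M.comm_z hn1).eq, mul_inv_cancel_right]
      · calc e n * d * e 1183 * (e n * d)⁻¹ = e n * (d * e 1183 * d⁻¹) * (e n)⁻¹ := by group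
          _ = _ := by rw [← hbe, ← (M.cj hn1 hb1).2, hnb]
      · have : ∀ n ∈ [0, 15, 24], ∀ a ∈ [13, 43, 30], cjC n a ∈ [13, 43, 30] := by decide +kernel
        exact this n hn a ha
      · rw [(M.cj hn1 ha1).2, hae]; group
    have hsel : ∀ b ∈ [1183, 1290, 1513], ∃ n ∈ [0, 15, 24], cjC n b = 1183 := by decide +kernel
    obtain ⟨n, hn, hnb⟩ := hsel b hb
    exact mk n hn hnb
  refine ⟨k, Rk, ?_, hkv⟩
  have hkz : k * e 1860 * k⁻¹ = e 60 := by rw [M.ez]; exact Rk.duz
  have ha'1 : a' < 1920 := by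
    have : ∀ n ∈ [13, 43, 30], n < 1920 := by decide
    exact this a' ha'
  have hm : ∀ x, x < 1920 → mulC (mulC x 1183) (mulC x 1183) < 1920 := fun x hx =>
    mulC_lt (mulC_lt hx (by norm_num)) (mulC_lt hx (by norm_num))
  have hcomm : mulC (mulC 13 1183) (mulC 13 1183) = 1860 := by decide +kernel
  have himg : e (mulC (mulC a' 1183) (mulC a' 1183)) = e 60 := by
    rw [← hkz, ← hcomm, M.mul _ _ (mulC_lt ha'1 (by norm_num)) (mulC_lt ha'1 (by norm_num)),
      M.mul _ _ ha'1 (by norm_num), M.mul _ _ (mulC_lt (by norm_num) (by norm_num)) (mulC_lt (by norm_num) (by norm_num)),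
      M.mul _ _ (by norm_num) (by norm_num)]
    rw [← hka]
    conv_lhs => rw [← hkv]
    group
  have h := M.inj _ _ (hm a' ha'1) (by norm_num) himg
  have : ∀ x ∈ [13, 43, 30], mulC (mulC x 1183) (mulC x 1183) = 60 → x = 43 := by decide +kernel
  rw [this a' ha' h] at hka
  exact hka

end H36.J3U
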