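import Cfsg.Agent.H36.J3U.Sound

/-!
The element of order three rotating the four-group `{1, z, u, uz}` and centralising `c`.
-/

set_option autoImplicit false
set_option maxRecDepth 100000

namespace H36.J3U

/-- Conjugation in the table group. -/
def cjC (a b : Nat) : Nat := mulC (mulC a b) (invC a)

/-- The centraliser of the four-group, as products of `cC, wC, vC`: element, predecessor, factor. -/
def domList : List (Nat × Nat × Nat) :=
  [(0, 0, 0), (15, 0, 15), (13, 0, 13), (1183, 0, 1183), (24, 1, 15), (28, 1, 13), (1297, 1, 1183), (6, 2, 15), (810, 2, 1183), (1168, 3, 15), (1170, 3, 13), (4, 4, 13), (1539, 4, 1183), (19, 5, 15), (606, 5, 1183), (1264, 6, 15), (1266, 6, 13), (39, 7, 15), (37, 7, 13), (688, 7, 1183), (817, 8, 15), (823, 8, 13), (1159, 9, 15), (1155, 9, 13), (1506, 9, 1183), (1177, 10, 15), (1873, 10, 1183), (30, 11, 15), (439, 11, 1183), (1513, 12, 15), (1519, 12, 13), (43, 13, 15), (364, 13, 1183), (639, 14, 15), (637, 14, 13), (1290, 15, 15), (1284, 15, 13), (1299, 16, 15), (1888, 16, 1183), (1464, 17, 1183), (1215, 18, 1183), (679,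 19, 15), (675, 19, 13), (784, 20, 15), (786, 20, 13), (1455, 20, 1183), (808, 21, 15), (1860, 21, 1183), (1179, 22, 13), (1164, 23, 15), (457, 23, 1183), (1537, 24, 13), (1144, 25, 15), (1146, 25, 13), (375, 25, 1183), (1866, 26, 15), (733, 27, 1183), (463, 28, 15), (459, 28, 13), (1500, 29, 13), (1543, 30, 15), (1864, 30, 1183), (1080, 31, 1183), (390, 32, 15), (384, 32, 13), (613, 33, 15), (619, 33, 13), (1104, 33, 1183), (604, 34, 15), (1875, 34, 1183), (1303, 35, 13), (1260, 36, 15), (819, 36, 1183), (1273, 37, 15), (1279, 37, 13), (744, 37, 1183), (1879, 38, 15), (1440, 39, 15), (1444, 39, 13), (1224, 40, 15), (1228, 40, 13), (703, 41, 15), (699, 41, 13), (684, 42, 15), (1897, 42, 1183), (804, 43, 13), (388, 44, 1183), (1468, 45, 13), (799, 46, 15), (795, 46, 13), (426, 46, 1183), (1153, 48, 15), (624, 48, 1183), (1140, 49, 15), (424, 50, 15), (1504, 51, 15), (1219, 52, 1183), (1899, 55, 15), (726, 56, 15), (720, 56, 13), (448, 57, 15), (450, 57, 13), (1200, 57, 1183), (433, 58, 15), (1884, 58, 1183), (1515, 59, 15), (643, 59, 1183), (1528, 60, 15),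 (1530, 60, 13), (660, 60, 1183), (1890, 61, 15), (1095, 62, 15), (1093, 62, 13), (397, 63, 15), (403, 63, 13), (360, 64, 15), (600, 65, 13), (724, 66, 1183), (1084, 67, 13), (630, 68, 15), (1288, 70, 15), (420, 70, 1183), (1275, 71, 15), (793, 72, 15), (1470, 73, 1183), (1903, 76, 15), (1453, 77, 13), (1204, 79, 13), (759, 79, 1183), (690, 81, 13), (673, 82, 15), (664, 83, 13), (1119, 83, 1183), (780, 85, 15), (1239, 85, 1183), (379, 86, 15), (1459, 87, 15), (1830, 91, 1183), (103, 93, 1183), (444, 94, 13), (79, 94, 1183), (1524, 95, 13), (1819, 95, 1183), (1243, 96, 15), (757, 98, 13), (735, 99, 15), (435, 100, 13), (1213, 102, 13), (628, 106, 15), (1086, 107, 1183), (1108, 111, 13), (366, 113, 13), (373, 115, 13), (615, 116, 15), (1483, 116, 1183), (750, 117, 15), (1110, 118, 15), (1806, 120, 1183), (97, 122, 1183), (90, 123, 1183), (1477, 124, 15), (1446, 126, 15), (1230, 126, 1183), (1099, 127, 1183), (739, 128, 13), (697, 129, 15), (666, 130, 15), (1843, 133, 1183), (399, 135, 13), (64, 135, 1183), (1479, 136, 13), (1804, 136, 1183), (1837, 137, 15),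 (88, 138, 15), (1839, 139, 1183), (99, 140, 13), (748, 145, 13), (1117, 146, 1183), (1206, 147, 15), (66, 148, 1183), (763, 155, 13), (73, 155, 1183), (1123, 156, 13), (1813, 156, 1183), (1237, 162, 15), (1815, 165, 1183), (1828, 167, 15), (1824, 168, 1183), (84, 169, 13), (75, 173, 13), (1800, 180, 1183), (60, 181, 13)]

/-- The six involutions of the two four-groups. -/
def six : List Nat := [13, 43, 30, 1183, 1290, 1513]

/-- The centraliser of `c` in the centraliser of the four-group. -/
def twelve : List Nat := [0, 15, 24, 60, 75, 84, 1800, 1815, 1824, 1860, 1875, 1884]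

theorem dom_iff : (List.range 1920).all (fun d =>
    (mulC d 1800 == mulC 1800 d) == decide (phiC d < 1920)) = true := by decide +kernel

theorem dom_cover : (List.range 1920).all (fun d =>
    !decide (phiC d < 1920) || (domList.map Prod.fst).contains d) = true := by decide +kernel

theorem dom_tree : (List.range 192).all (fun i =>
    let t := domList.getD i (0, 0, 0)
    if i = 0 then t.1 == 0 && phiC t.1 == 0 else
      let p := (domList.getD t.2.1 (0, 0, 0)).1
      decide (t.2.1 < i) && (t.2.2 == 15 || t.2.2 == 13 || t.2.2 == 1183) &&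
        t.1 == mulC p t.2.2 && phiC t.1 == mulC (phiC p) (phiC t.2.2) &&
        decide (p < 1920) && decide (phiC p < 1920)) = true := by decide +kernel

theorem dom_length : domList.length = 192 := by decide +kernel

theorem dom_three : (domList.map Prod.fst).all (fun x =>
    !(mulC x (mulC x x) == 0 && !(x == 0)) ||
      (domList.map Prod.fst).any (fun a => cjC a x == 15 || cjC a x == 24)) = true := by decide +kernel

theorem dom_not_inv : (domList.map Prod.fst).all (fun d => !(cjC d 15 == 24)) = true := by decide +kernel

theorem dom_four : (domList.map Prod.fst).all (fun x =>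
    let y := cjC 15 x
    !(mulC x x == 0 && !(x == 0) && !(y == x) && mulC x y == mulC y x && cjC 15 y == mulC x y) ||
      six.contains x) = true := by decide +kernel

theorem six_spec : six.all (fun x =>
    let y := cjC 15 x
    decide (x < 1920) && decide (phiC x < 1920) && mulC x x == 0 && !(x == 0) && !(y == x) &&
      mulC x y == mulC y x && cjC 15 y == mulC x y && six.contains y) = true := by decide +kernel

theorem dom_twelve : (domList.map Prod.fst).all (fun d =>
    !(cjC d 15 == 15) || twelve.contains d) = true := by decide +kernel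

theorem dom_center : (domList.map Prod.fst).all (fun d =>
    !(mulC d 15 == mulC 15 d && mulC d 13 == mulC 13 d && mulC d 1183 == mulC 1183 d) ||
      [0, 60, 1800, 1860].contains d) = true := by decide +kernel

/-- The map on the six involutions determined by the images of `w` and `v`. -/
def sixMap (a b x : Nat) : Nat :=
  if x = 13 then a else if x = 43 then cjC 15 a else if x = 30 then cjC 15 (cjC 15 a)
  else if x = 1183 then b else if x = 1290 then cjC 15 b else cjC 15 (cjC 15 b)

theorem six_fix : six.all (fun a => six.all (fun b => twelve.all (fun y =>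
    !(sixMap a b (sixMap a b a) == cjC y 13 &&
      !([a, cjC 15 a, cjC 15 (cjC 15 a)].contains b)) ||
    ([13, 43, 30].contains a && [1183, 1290, 1513].contains b)))) = true := by decide +kernel

theorem six_orbit : cjC 15 13 = 43 ∧ cjC 15 43 = 30 ∧ cjC 15 30 = 13 ∧ cjC 15 1183 = 1290 ∧
    cjC 15 1290 = 1513 ∧ cjC 15 1513 = 1183 := by decide +kernel

end H36.J3U
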