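import Cfsg.Agent.H36.J3U.Kappa

/-!
The element `κ`: its action on the centraliser of the four-group, its order, and the relator with the
involution exchanging the two four-groups.
-/

set_option autoImplicit false
set_option maxRecDepth 100000

namespace H36.J3U

variable {G : Type*} [Group G] {z : G} {e : Nat → G} {k : G}

theorem dom_gen_facts : phiC 15 = 15 ∧ phiC 13 = 43 ∧ phiC 1183 = 1183 ∧ phiC 0 = 0 := by
  decide +kernel

namespace Kap

variable (K : Kap z e k) (M : Mdl z e)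
include K M

theorem phi_list : ∀ i, i < 192 →
    (domList.getD i (0, 0, 0)).1 < 1920 ∧
      k * e (domList.getD i (0, 0, 0)).1 = e (phiC (domList.getD i (0, 0, 0)).1) * k := by
  intro i
  induction i using Nat.strong_induction_on with
  | _ i ih =>
    intro hi
    have h := List.all_eq_true.mp dom_tree i (List.mem_range.mpr hi)
    dsimp only at h
    split at h
    · simp only [Bool.and_eq_true, beq_iff_eq] at h
      rw [h.1]
      refine ⟨by norm_num, ?_⟩
      rw [dom_gen_facts.2.2.2, M.one, one_mul, mul_one]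
    · simp only [Bool.and_eq_true, Bool.or_eq_true, beq_iff_eq, decide_eq_true_eq] at h
      obtain ⟨⟨⟨⟨⟨hj, hg⟩, ht⟩, hp⟩, hp1⟩, hp2⟩ := h
      obtain ⟨-, hprev⟩ := ih _ hj (by omega)
      generalize (domList.getD (domList.getD i (0, 0, 0)).2.1 (0, 0, 0)).1 = p at *
      generalize (domList.getD i (0, 0, 0)).2.2 = g at *
      have hgk : g < 1920 ∧ phiC g < 1920 ∧ k * e g = e (phiC g) * k := by
        rcases hg with (rfl | rfl) | rfl
        · refine ⟨by norm_num, by rw [dom_gen_facts.1]; norm_num, ?_⟩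
          rw [dom_gen_facts.1]; exact K.rot.dc.eq
        · refine ⟨by norm_num, by rw [dom_gen_facts.2.1]; norm_num, ?_⟩
          rw [dom_gen_facts.2.1]; exact mul_inv_eq_iff_eq_mul.mp K.kw
        · refine ⟨by norm_num, by rw [dom_gen_facts.2.2.1]; norm_num, ?_⟩
          rw [dom_gen_facts.2.2.1]; exact mul_inv_eq_iff_eq_mul.mp K.kv
      obtain ⟨hg1, hg2, hg3⟩ := hgk
      rw [hp, ht]
      refine ⟨mulC_lt hp1 hg1, ?_⟩
      rw [M.mul _ _ hp1 hg1, M.mul _ _ hp2 hg2, ← mul_assoc, hprev, mul_assoc, hg3, ← mul_assoc]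

theorem phi {d : Nat} (hd : d < 1920) (h : phiC d < 1920) : k * e d = e (phiC d) * k := by
  obtain ⟨t, ht, hte⟩ := List.mem_iff_getElem.mp (mem_dom hd h)
  rw [List.length_map, dom_length] at ht
  have := (K.phi_list M t ht).2
  rw [List.getD_eq_getElem _ _ (by rw [dom_length]; exact ht)] at this
  simp only [List.getElem_map] at hte
  rwa [hte] at this

theorem cube : k * k * k = 1 := by
  have hrot : ∀ g : G, k * k * k * g * (k * k * k)⁻¹ = k * (k * (k * g * k⁻¹) * k⁻¹) * k⁻¹ := fun g => by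
    group
  have hz : k * k * k * z * (k * k * k)⁻¹ = z := by rw [hrot, K.rot.dz, K.rot.du, K.rot.duz]
  have hu : k * k * k * e 1800 * (k * k * k)⁻¹ = e 1800 := by rw [hrot, K.rot.du, K.rot.duz, K.rot.dz]
  obtain ⟨y, hy, hy', hye⟩ := M.of_comm_pair (mul_inv_eq_iff_eq_mul.mp hz) (mul_inv_eq_iff_eq_mul.mp hu)
  obtain ⟨o1, o2, o3, -⟩ := six_orbit
  have hcj : ∀ x, x < 1920 → ∀ x', k * e x * k⁻¹ = e x' → x' < 1920 →
      k * e (cjC 15 x) * k⁻¹ = e (cjC 15 x') := by
    intro x hx x' he hx'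
    rw [(M.cj (by norm_num) hx).2, (M.cj (by norm_num) hx').2, ← he]
    calc k * (e 15 * e x * (e 15)⁻¹) * k⁻¹ = k * e 15 * e x * (k * e 15)⁻¹ := by group
      _ = e 15 * k * e x * (e 15 * k)⁻¹ := by rw [K.rot.dc.eq]
      _ = _ := by group
  have h43 : k * e 43 * k⁻¹ = e 30 := by
    have := hcj 13 (by norm_num) 43 K.kw (by norm_num); rwa [o1, o2] at this
  have h30 : k * e 30 * k⁻¹ = e 13 := by
    have := hcj 43 (by norm_num) 30 h43 (by norm_num); rwa [o2, o3] at this
  have hw : k * k * k * e 13 * (k * k * k)⁻¹ = e 13 := by rw [hrot, K.kw, h43, h30]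
  have hv : k * k * k * e 1183 * (k * k * k)⁻¹ = e 1183 := by rw [hrot, K.kv, K.kv, K.kv]
  have hc : Commute (k * k * k) (e 15) := (K.rot.dc.mul_left K.rot.dc).mul_left K.rot.dc
  have back : ∀ g, g < 1920 → Commute (e y) (e g) → mulC y g = mulC g y := fun g hg hh =>
    M.inj _ _ (mulC_lt hy hg) (mulC_lt hg hy) (by rw [M.mul _ _ hy hg, M.mul _ _ hg hy, hh.eq])
  have := List.all_eq_true.mp dom_center y (mem_dom hy hy')
  simp only [back 15 (by norm_num) (hye ▸ hc), back 13 (by norm_num) (hye ▸ mul_inv_eq_iff_eq_mul.mp hw),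
    back 1183 (by norm_num) (hye ▸ mul_inv_eq_iff_eq_mul.mp hv), beq_self_eq_true, Bool.and_self,
    Bool.not_true, Bool.false_or, List.contains_iff_mem, List.mem_cons, List.not_mem_nil, or_false] at this
  have hkk : k * (k * k * k) * k⁻¹ = k * k * k := by group
  obtain ⟨huz, -, -, -, hcu, -⟩ := M.uz
  rcases this with rfl | rfl | rfl | rfl
  · rw [← hye, M.one]
  · rw [← hye, M.ez, K.rot.dz] at hkk
    have := M.inj 1800 60 (by norm_num) (by norm_num) (hkk.trans M.ez.symm)
    omega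
  · rw [← hye, K.rot.du] at hkk
    have := M.inj 1860 1800 (by norm_num) (by norm_num) hkk
    omega
  · rw [← hye, K.rot.duz, ← M.ez] at hkk
    have := M.inj 60 1860 (by norm_num) (by norm_num) hkk
    omega

end Kap

/-- The element `κ` with the relator exchanging the two four-groups. -/
structure Kappa (z : G) (e : Nat → G) (k : G) : Prop where
  kap : Kap z e k
  relA : e 960 * k * e 960 = k⁻¹ * e 15

theorem u3_facts : cjC 960 13 = 1513 ∧ cjC 960 1183 = 43 ∧ cjC 960 15 = 15 ∧ mulC 960 960 = 0 ∧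
    cjC 960 1800 = 1860 ∧ cjC 960 60 = 60 ∧ cjC 960 1860 = 1800 := by decide +kernel

theorem exists_kappa (M : Mdl z e) : ∃ k, Kappa z e k := by
  obtain ⟨k, K⟩ := exists_kap M
  obtain ⟨huz, hzz, huu, -, hcu, -⟩ := M.uz
  obtain ⟨f13, f1183, f15, fsq, fu, fz, fuz⟩ := u3_facts
  set t := e 960 with ht
  have htt : t * t = 1 := by rw [ht, ← M.mul _ _ (by norm_num) (by norm_num), fsq, M.one]
  have hti : t⁻¹ = t := inv_eq_of_mul_eq_one_right htt
  have hct : ∀ a b, a < 1920 → cjC 960 a = b → t * e a * t⁻¹ = e b := fun a b ha h => by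
    rw [← h, (M.cj (by norm_num) ha).2]
  have hcpow : ∀ g, Commute g (e 15) → g * e 15 * g⁻¹ = e 15 := fun g hg => by rw [hg.eq, mul_inv_cancel_right]
  have htc : Commute t (e 15) := mul_inv_eq_iff_eq_mul.mp (hct 15 15 (by norm_num) f15)
  set y := k * t * k * t * (e 15)⁻¹ with hy
  have hyc : ∀ g, y * g * y⁻¹ = k * (t * (k * (t * ((e 15)⁻¹ * g * e 15) * t⁻¹) * k⁻¹) * t⁻¹) * k⁻¹ := fun g => by
    rw [hy]; group
  have hzc : (e 15)⁻¹ * z * e 15 = z := by
    rw [(M.comm_z (show 15 < 1920 by norm_num)).inv_left.eq, mul_assoc, inv_mul_cancel, mul_one]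
  have huc : (e 15)⁻¹ * e 1800 * e 15 = e 1800 := by
    rw [(M.comm_u (show 15 < 1920 by norm_num) (by decide +kernel)).inv_left.eq, mul_assoc, inv_mul_cancel,
      mul_one]
  have h1 : y * z * y⁻¹ = z := by
    rw [hyc, hzc, ← M.ez, hct 60 60 (by norm_num) fz, M.ez, K.rot.dz, hct _ _ (by norm_num) fu, K.rot.duz]
  have h2 : y * e 1800 * y⁻¹ = e 1800 := by
    rw [hyc, huc, hct _ _ (by norm_num) fu, K.rot.duz, ← M.ez, hct _ _ (by norm_num) fz, M.ez, K.rot.dz]
  obtain ⟨o1, o2, o3, o4, o5, o6⟩ := six_orbit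
  have hk30 : k * e 30 * k⁻¹ = e 13 := by
    have hcj : ∀ x, x < 1920 → ∀ x', k * e x * k⁻¹ = e x' → x' < 1920 →
        k * e (cjC 15 x) * k⁻¹ = e (cjC 15 x') := by
      intro x hx x' he hx'
      rw [(M.cj (by norm_num) hx).2, (M.cj (by norm_num) hx').2, ← he]
      calc k * (e 15 * e x * (e 15)⁻¹) * k⁻¹ = k * e 15 * e x * (k * e 15)⁻¹ := by group
        _ = e 15 * k * e x * (e 15 * k)⁻¹ := by rw [K.rot.dc.eq]
        _ = _ := by group
    have h43 := hcj 13 (by norm_num) 43 K.kw (by norm_num)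
    rw [o1, o2] at h43
    have := hcj 43 (by norm_num) 30 h43 (by norm_num)
    rwa [o2, o3] at this
  have hinvc : ∀ x x', x < 1920 → cjC 15 x' = x → x' < 1920 → (e 15)⁻¹ * e x * e 15 = e x' :=
    fun x x' _ h hx' => by rw [← h, (M.cj (by norm_num) hx').2]; group
  have fA : cjC 960 30 < 1920 ∧ phiC (cjC 960 30) < 1920 ∧ cjC 960 (phiC (cjC 960 30)) < 1920 ∧
      phiC (cjC 960 (phiC (cjC 960 30))) = 13 := by decide +kernel
  have fB : cjC 960 1513 < 1920 ∧ phiC (cjC 960 1513) < 1920 ∧ cjC 960 (phiC (cjC 960 1513)) < 1920 ∧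
      phiC (cjC 960 (phiC (cjC 960 1513))) = 1183 := by decide +kernel
  have hk : ∀ x, x < 1920 → phiC x < 1920 → k * e x * k⁻¹ = e (phiC x) := fun x hx hx' => by
    rw [K.phi M hx hx', mul_inv_cancel_right]
  have hyw : Commute y (e 13) := by
    refine mul_inv_eq_iff_eq_mul.mp ?_
    rw [hyc, hinvc 13 30 (by norm_num) o3 (by norm_num), hct 30 _ (by norm_num) rfl,
      hk _ fA.1 fA.2.1, hct _ _ fA.2.1 rfl, hk _ fA.2.2.1 (by rw [fA.2.2.2]; norm_num), fA.2.2.2]
  have hyv : Commute y (e 1183) := by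
    refine mul_inv_eq_iff_eq_mul.mp ?_
    rw [hyc, hinvc 1183 1513 (by norm_num) o6 (by norm_num), hct 1513 _ (by norm_num) rfl,
      hk _ fB.1 fB.2.1, hct _ _ fB.2.1 rfl, hk _ fB.2.2.1 (by rw [fB.2.2.2]; norm_num), fB.2.2.2]
  have hyc15 : Commute y (e 15) :=
    (((K.rot.dc.mul_left htc).mul_left K.rot.dc).mul_left htc).mul_left (Commute.refl _).inv_left
  obtain ⟨n, hn, hn', hne⟩ :=
    M.of_comm_pair (mul_inv_eq_iff_eq_mul.mp h1) (mul_inv_eq_iff_eq_mul.mp h2)
  have back : ∀ g, g < 1920 → Commute (e n) (e g) → mulC n g = mulC g n := fun g hg hh =>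
    M.inj _ _ (mulC_lt hn hg) (mulC_lt hg hn) (by rw [M.mul _ _ hn hg, M.mul _ _ hg hn, hh.eq])
  have hmem := List.all_eq_true.mp dom_center n (mem_dom hn hn')
  simp only [back 15 (by norm_num) (hne ▸ hyc15), back 13 (by norm_num) (hne ▸ hyw),
    back 1183 (by norm_num) (hne ▸ hyv), beq_self_eq_true, Bool.and_self, Bool.not_true, Bool.false_or,
    List.contains_iff_mem, List.mem_cons, List.not_mem_nil, or_false] at hmem
  have hkt : k * t * k * t = e n * e 15 := by rw [hne, hy]; group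
  -- the possible values of the defect
  have hcase : e n = 1 ∨ e n = e 1860 := by
    have hflip : t * (k * t * k * t) * t = k⁻¹ * (k * t * k * t) * k := by
      calc t * (k * t * k * t) * t = t * k * t * k * (t * t) := by group
        _ = t * k * t * k := by rw [htt, mul_one]
        _ = _ := by group
    rw [hkt] at hflip
    have h15k : k⁻¹ * e 15 * k = e 15 := by rw [K.rot.dc.inv_left.eq, mul_assoc, inv_mul_cancel, mul_one]
    have h15t : t * e 15 * t = e 15 := by rw [htc.eq, mul_assoc, htt, mul_one]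
    have hsplit : ∀ g, t * (g * e 15) * t = (t * g * t⁻¹) * (t * e 15 * t) := fun g => by group
    have hsplit' : ∀ g, k⁻¹ * (g * e 15) * k = (k⁻¹ * g * k) * (k⁻¹ * e 15 * k) := fun g => by group
    rw [hsplit, hsplit', h15t, h15k] at hflip
    have heq := mul_right_cancel hflip
    rcases hmem with rfl | rfl | rfl | rfl
    · exact Or.inl M.one
    · exfalso
      have h2 : k⁻¹ * e 60 * k = e 1860 := by rw [M.ez, ← K.rot.duz]; group
      rw [hct 60 _ (by norm_num) fz, h2] at heq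
      have := M.inj _ _ (by norm_num) (by norm_num) heq
      omega
    · exfalso
      have h2 : k⁻¹ * e 1800 * k = e 60 := by rw [← K.rot.dz, M.ez]; group
      rw [hct 1800 _ (by norm_num) fu, h2] at heq
      have := M.inj _ _ (by norm_num) (by norm_num) heq
      omega
    · exact Or.inr rfl
  rcases hcase with h0 | h0
  · refine ⟨k, K, ?_⟩
    rw [h0, one_mul] at hkt
    show t * k * t = _
    rw [← hkt]; group
  · rw [h0] at hkt
    refine ⟨k * z, ⟨⟨?_, ?_, ?_, K.rot.dc.mul_left ((M.comm_z (by norm_num)).symm)⟩, ?_, ?_⟩, ?_⟩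
    · rw [← K.rot.dz]; group
    · calc k * z * e 1800 * (k * z)⁻¹ = k * (z * e 1800 * z⁻¹) * k⁻¹ := by group
        _ = _ := by rw [← hcu.eq, mul_inv_cancel_right, K.rot.du]
    · calc k * z * e 1860 * (k * z)⁻¹ = k * (z * e 1860 * z⁻¹) * k⁻¹ := by group
        _ = _ := by rw [← (M.comm_z (show 1860 < 1920 by norm_num)).eq, mul_inv_cancel_right, K.rot.duz]
    · calc k * z * e 13 * (k * z)⁻¹ = k * (z * e 13 * z⁻¹) * k⁻¹ := by group
        _ = _ := by rw [← (M.comm_z (show 13 < 1920 by norm_num)).eq, mul_inv_cancel_right, K.kw]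
    · calc k * z * e 1183 * (k * z)⁻¹ = k * (z * e 1183 * z⁻¹) * k⁻¹ := by group
        _ = _ := by rw [← (M.comm_z (show 1183 < 1920 by norm_num)).eq, mul_inv_cancel_right, K.kv]
    · have hz15 : Commute z (e 15) := (M.comm_z (by norm_num)).symm
      have hzt : Commute z t := (M.comm_z (by norm_num)).symm
      have hu15 : Commute (e 1800) (e 15) := (M.comm_u (by norm_num) (by decide +kernel)).symm
      have e1 : t * k * t = k⁻¹ * e 1860 * e 15 := by
        calc t * k * t = k⁻¹ * (k * t * k * t) := by group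
          _ = _ := by rw [hkt, mul_assoc]
      have hki : z * k⁻¹ = k⁻¹ * e 1800 := by rw [← K.rot.dz]; group
      have hzi : (k * z)⁻¹ = z * k⁻¹ := by rw [mul_inv_rev, inv_eq_of_mul_eq_one_right hzz]
      calc t * (k * z) * t = t * k * t * z := by
            rw [mul_assoc t (k * z) t, mul_assoc k z t, hzt.eq]; group
        _ = k⁻¹ * e 1860 * (e 15 * z) := by rw [e1]; group
        _ = k⁻¹ * (e 1800 * (z * z)) * e 15 := by rw [← hz15.eq, huz]; group
        _ = (k * z)⁻¹ * e 15 := by rw [hzz, mul_one, hzi, hki]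

end H36.J3U
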