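import Cfsg.Agent.H36.J2U.Cert

/-!
The presentation `a³ = b² = (ab)⁵ = 1` of `A₅`: a coset enumeration certificate.
-/

set_option autoImplicit false
set_option maxRecDepth 100000

namespace H36.J3U

/-- Certificate: 60 cosets of the trivial subgroup. -/
def certTri : J2U.Cert where
  eps := 3
  inv := [1, 0, 2, 3]
  rels := [[0, 0, 0], [2, 2], [0, 2, 0, 2, 0, 2, 0, 2, 0, 2], [], [0, 1], [1, 0], [2, 2]]
  sub := []
  gens := [0, 1, 2]
  depth := 8
  facts := (.node
(.node
(.node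
(.node
(.node
(.node
(.node
(.node
(.leaf 0x7e004000)
(.leaf 0x7e008400))
(.node
(.leaf 0x4000810000008001)
(.leaf 0x7e00c800)))
(.node
(.node
(.leaf 0x7e010801)
(.leaf 0x7e014802))
(.node
(.leaf 0x7e018003)
(.leaf 0x7e01c403))))
(.node
(.node
(.node
(.leaf 0x1c00681000001c006)
(.leaf 0x7e020004))
(.node
(.leaf 0x7e024404)
(.leaf 0x28009810000024008)))
(.node
(.node
(.leaf 0x7e028005)
(.leaf 0x7e02c405))
(.node
(.leaf 0x3400c81000002c00a)
(.leaf 0x7e030806)))))
(.node
(.node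
(.node
(.node
(.leaf 0x7e034807)
(.leaf 0x7e038808))
(.node
(.leaf 0x7e03c809)
(.leaf 0x7e04080a)))
(.node
(.node
(.leaf 0x7e04480b)
(.leaf 0x7e04800c))
(.node
(.leaf 0x7e04c40c)
(.leaf 0x5801581000004c012))))
(.node
(.node
(.node
(.leaf 0x7e05000d)
(.leaf 0x7e05440d))
(.node
(.leaf 0x64018810000054014)
(.leaf 0x7e05800e)))
(.node
(.node
(.leaf 0x190040007000c0008012009804601b848082054816)
(.leaf 0x7e05c40e))
(.node
(.leaf 0x7401b81000005c016)
(.leaf 0x7e06000f))))))
(.node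
(.node
(.node
(.node
(.node
(.leaf 0x7e06440f)
(.leaf 0x8001f810000064018))
(.node
(.leaf 0x7e068010)
(.leaf 0x20004800a0010002801600c804e02284808206481a)))
(.node
(.node
(.leaf 0x7e06c410)
(.leaf 0x9002281000006c01a))
(.node
(.leaf 0x7e070011)
(.leaf 0x7e074411))))
(.node
(.node
(.node
(.leaf 0x27005000d0014001000e006803e015848082074812)
(.leaf 0x9c02681000007401c))
(.node
(.leaf 0x7e078813)
(.leaf 0x7e07c814)))
(.node
(.node
(.leaf 0x7e080817)
(.leaf 0x7e084818))
(.node
(.leaf 0x7e08881b)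
(.leaf 0x7e08c81c)))))
(.node
(.node
(.node
(.node
(.leaf 0x7e09001e)
(.leaf 0x7e09441e))
(.node
(.leaf 0xc4030810000094024)
(.leaf 0x7e09801f)))
(.node
(.node
(.leaf 0x3100a8016003c008804201880ae033848082094826)
(.leaf 0x7e09c41f))
(.node
(.leaf 0xd403381000009c026)
(.leaf 0x7e0a0020))))
(.node
(.node
(.node
(.leaf 0x7e0a4420)
(.leaf 0xe00378100000a4028))
(.node
(.leaf 0x7e0a8021)
(.leaf 0x3800b001d004400b804a01f80b603a8480820a482a)))
(.node
(.node
(.leaf 0x7e0ac421)
(.leaf 0xf003a8100000ac02a))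
(.node
(.leaf 0x7e0b0022)
(.leaf 0x7e0b4422)))))))
(.node
(.node
(.node
(.node
(.node
(.node
(.leaf 0xfc03e8100000b402c)
(.leaf 0x7e0b8023))
(.node
(.leaf 0x3f00b8024004c00e805202680be0418480820b482e)
(.leaf 0x7e0bc423)))
(.node
(.node
(.leaf 0x10c0418100000bc02e)
(.leaf 0x7e0c0824))
(.node
(.leaf 0x7e0c4827)
(.leaf 0x7e0c8828))))
(.node
(.node
(.node
(.leaf 0x4600d402b006a01c007a02c80de0478480020c4032)
(.leaf 0x7e0cc82b))
(.node
(.leaf 0x7e0d082c)
(.leaf 0x4900f002d0086023009602e80fa04a8480020cc034)))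
(.node
(.node
(.leaf 0x7e0d482f)
(.leaf 0x4c010c02f00a6028005e02a80c20458480020d4030))
(.node
(.leaf 0x7e0d8430)
(.leaf 0x13804d8100000d8035)))))
(.node
(.node
(.node
(.node
(.leaf 0x7e0dc031)
(.leaf 0x1220508100000c8037))
(.node
(.leaf 0x7e0e0033)
(.leaf 0x12e0528100000d0038)))
(.node
(.node
(.leaf 0x7e0e4836)
(.leaf 0x7e0e8837))
(.node
(.leaf 0x54013804500ca03400da04681420558480020e403a)
(.leaf 0x7e0ec838))))
(.node
(.node
(.node
(.leaf 0x55014604700e603b00f6049814a0578480020e803b)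
(.leaf 0x57014e04a0102042011204c813e0548480020ec039))
(.node
(.leaf 0x808084000401)
(.leaf 0x1808004000002)))
(.node
(.node
(.leaf 0x2808084004402)
(.leaf 0x3808001000803))
(.node
(.leaf 0x4808001004804)
(.leaf 0x5808001008805))))))
(.node
(.node
(.node
(.node
(.node
(.leaf 0x680808400c406)
(.leaf 0x780800400c007))
(.node
(.leaf 0x8808084018407)
(.leaf 0x9808084010408)))
(.node
(.node
(.leaf 0xa808004010009)
(.leaf 0xb808084020409))
(.node
(.leaf 0xc80808401440a)
(.leaf 0xd80800401400b))))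
(.node
(.node
(.node
(.leaf 0xe80808402840b)
(.leaf 0xf80800101880c))
(.node
(.leaf 0x1080800101c80d)
(.leaf 0x1180800102080e)))
(.node
(.node
(.leaf 0x1280800102480f)
(.leaf 0x13808001028810))
(.node
(.leaf 0x1480800102c811)
(.leaf 0x15808084030412)))))
(.node
(.node
(.node
(.node
(.leaf 0x16808004030013)
(.leaf 0x17808084048413))
(.node
(.leaf 0x18808084034414)
(.leaf 0x19808004034015)))
(.node
(.node
(.leaf 0x1a808084050415)
(.leaf 0x1c808001058815))
(.node
(.leaf 0x1b808084038416)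
(.leaf 0x1d808004038017))))
(.node
(.node
(.node
(.leaf 0x1e808084058417)
(.leaf 0x1f80808403c418))
(.node
(.leaf 0x2080800403c019)
(.leaf 0x21808084060419)))
(.node
(.node
(.leaf 0x23808001068819)
(.leaf 0x2280808404041a))
(.node
(.leaf 0x2480800404001b)
(.leaf 0x2580808406841b))))))))
(.node
(.node
(.node
(.node
(.node
(.node
(.node
(.leaf 0x2680808404441c)
(.leaf 0x2780800404401d))
(.node
(.leaf 0x2980808407041d)
(.leaf 0x2880800104881d)))
(.node
(.node
(.leaf 0x2a80800104c81e)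
(.leaf 0x2b80800105081f))
(.node
(.leaf 0x2c80800105c820)
(.leaf 0x2d808001060821))))
(.node
(.node
(.node
(.leaf 0x2e80800106c822)
(.leaf 0x2f808001070823))
(.node
(.leaf 0x30808084078424)
(.leaf 0x31808004078025)))
(.node
(.node
(.leaf 0x32808084090425)
(.leaf 0x34808001098825))
(.node
(.leaf 0x3380808407c426)
(.leaf 0x3580800407c027)))))
(.node
(.node
(.node
(.node
(.leaf 0x36808084098427)
(.leaf 0x37808084080428))
(.node
(.leaf 0x38808004080029)
(.leaf 0x398080840a0429)))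
(.node
(.node
(.leaf 0x3b8080010a8829)
(.leaf 0x3a80808408442a))
(.node
(.leaf 0x3c80800408402b)
(.leaf 0x3d8080840a842b))))
(.node
(.node
(.node
(.leaf 0x3e80808408842c)
(.leaf 0x3f80800408802d))
(.node
(.leaf 0x408080840b042d)
(.leaf 0x428080010b882d)))
(.node
(.node
(.leaf 0x4180808408c42e)
(.leaf 0x4380800408c02f))
(.node
(.leaf 0x448080840b842f)
(.leaf 0x45808001090830))))))
(.node
(.node
(.node
(.node
(.node
(.leaf 0x488080840c8431)
(.leaf 0x4680800109c831))
(.node
(.leaf 0x518080840dc432)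
(.leaf 0x478080010a0832)))
(.node
(.node
(.leaf 0x4b8080840d0433)
(.leaf 0x498080010ac833))
(.node
(.leaf 0x538080840e0434)
(.leaf 0x4a8080010b0834))))
(.node
(.node
(.node
(.leaf 0x4d8080840c0435)
(.leaf 0x4c8080010bc835))
(.node
(.leaf 0x4e8080040c0036)
(.leaf 0x4f8080840d4436)))
(.node
(.node
(.leaf 0x508080840c4437)
(.leaf 0x528080840cc438))
(.node
(.leaf 0x568080840e8439)
(.leaf 0x548080010d8839)))))
(.node
(.node
(.node
(.node
(.leaf 0x588080840ec43a)
(.leaf 0x558080010dc83a))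
(.node
(.leaf 0x598080840e443b)
(.leaf 0x578080010e083b)))
(.node
(.node
(.leaf 0x0)
(.leaf 0x0))
(.node
(.leaf 0x0)
(.leaf 0x0))))
(.node
(.node
(.node
(.leaf 0x0)
(.leaf 0x0))
(.node
(.leaf 0x0)
(.leaf 0x0)))
(.node
(.node
(.leaf 0x0)
(.leaf 0x0))
(.node
(.leaf 0x0)
(.leaf 0x0)))))))
(.node
(.node
(.node
(.node
(.node
(.node
(.leaf 0x0)
(.leaf 0x0))
(.node
(.leaf 0x0)
(.leaf 0x0)))
(.node
(.node
(.leaf 0x0)
(.leaf 0x0))
(.node
(.leaf 0x0)
(.leaf 0x0))))
(.node
(.node
(.node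
(.leaf 0x0)
(.leaf 0x0))
(.node
(.leaf 0x0)
(.leaf 0x0)))
(.node
(.node
(.leaf 0x0)
(.leaf 0x0))
(.node
(.leaf 0x0)
(.leaf 0x0)))))
(.node
(.node
(.node
(.node
(.leaf 0x0)
(.leaf 0x0))
(.node
(.leaf 0x0)
(.leaf 0x0)))
(.node
(.node
(.leaf 0x0)
(.leaf 0x0))
(.node
(.leaf 0x0)
(.leaf 0x0))))
(.node
(.node
(.node
(.leaf 0x0)
(.leaf 0x0))
(.node
(.leaf 0x0)
(.leaf 0x0)))
(.node
(.node
(.leaf 0x0)
(.leaf 0x0))
(.node
(.leaf 0x0)
(.leaf 0x0))))))
(.node
(.node
(.node
(.node
(.node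
(.leaf 0x0)
(.leaf 0x0))
(.node
(.leaf 0x0)
(.leaf 0x0)))
(.node
(.node
(.leaf 0x0)
(.leaf 0x0))
(.node
(.leaf 0x0)
(.leaf 0x0))))
(.node
(.node
(.node
(.leaf 0x0)
(.leaf 0x0))
(.node
(.leaf 0x0)
(.leaf 0x0)))
(.node
(.node
(.leaf 0x0)
(.leaf 0x0))
(.node
(.leaf 0x0)
(.leaf 0x0)))))
(.node
(.node
(.node
(.node
(.leaf 0x0)
(.leaf 0x0))
(.node
(.leaf 0x0)
(.leaf 0x0)))
(.node
(.node
(.leaf 0x0)
(.leaf 0x0))
(.node
(.leaf 0x0)
(.leaf 0x0))))
(.node
(.node
(.node
(.leaf 0x0)
(.leaf 0x0))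
(.node
(.leaf 0x0)
(.leaf 0x0)))
(.node
(.node
(.leaf 0x0)
(.leaf 0x0))
(.node
(.leaf 0x0)
(.leaf 0x0)))))))))
  num := 180
  ncos := 60
  live := [0, 1, 2, 3, 4, 5, 6, 7, 8, 9, 10, 11, 12, 13, 14, 15, 16, 17, 18, 19, 20, 21, 22, 23, 24, 25, 26, 27, 28, 29, 30, 31, 32, 33, 34, 35, 36, 37, 38, 39, 40, 41, 42, 43, 44, 45, 46, 47, 48, 49, 50, 51, 52, 53, 54, 55, 56, 57, 58, 59]
  close := 0x2cc0b201600b102c005602bc0ae016405702b405301540ac014405402ac0aa02a40a8013c0a7029804b02940a401480a3028804802840a0014009f013804d013009e02740420270044026c09a026404a02600400124097025803b025403d0250093024804702440390118090023c0340238036023408c022c04502280320224043010408800fc03e021c03c00e808600e0037021403500cc08400c4030020c082020402f020002900b807f01f802301f402501f007b01e802d01e402100b007801dc01c01d801e01d407401cc02b01c801a00a807101c002801bc01701b8027009806d009002201b0020007c06b007401b01a8019006006900580150050068019c013019800e00480650190011018c00b0040062018400f0180008017c00d003005e002800901740070018005017005b001005a00080030004000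

def certTriPar (j : Nat) : Nat := (0x15c0550150052014004e013004a01240470118045010c04100fc03e00f003a00e003700d403300c403000bc02e00b402c00ac02a009c0260090022008001f007401b0064018005801500500130048011004000f003400c0028009001c0060014004000c0010000000 >>> (14 * j)) &&& 16383

theorem certTri_facts : (List.range certTri.num).all (certTri.checkFact certTriPar) = true := by decide +kernel

theorem certTri_closed : certTri.checkClose = true := by decide +kernel

variable {K : Type*} [Group K]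

/-- Evaluation of the letters `a, a⁻¹, b`. -/
def triEv (a b : K) : Nat → K
  | 0 => a
  | 1 => a⁻¹
  | 2 => b
  | _ => 1

theorem card_triangle [Finite K] {a b : K} (ha : a * a * a = 1) (hb : b * b = 1)
    (hab : (a * b) ^ 5 = 1) : Nat.card (Subgroup.closure ({a, b} : Set K)) ≤ 60 := by
  have hbi : b⁻¹ = b := inv_eq_of_mul_eq_one_right hb
  have V : certTri.Valid (triEv a b) (⊥ : Subgroup K) := {
    eps := rfl
    inv := fun g => by
      rcases g with _ | _ | _ | _ | g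
      all_goals simp [J2U.Cert.flip, certTri, triEv, hbi]
    rels := by
      intro w hw
      simp only [certTri, List.mem_cons, List.not_mem_nil, or_false] at hw
      simp only [pow_succ, pow_zero, one_mul, mul_assoc] at hab ha
      rcases hw with rfl | rfl | rfl | rfl | rfl | rfl | rfl
      all_goals simp [triEv, mul_assoc, ha, hb, hab]
    sub := fun g hg => absurd hg (by simp [certTri]) }
  have h := J2U.Cert.card_le V certTri_facts certTri_closed
  rw [show Nat.card (⊥ : Subgroup K) = 1 from Nat.card_unique, one_mul, show certTri.live.length = 60 from rfl] at h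
  refine le_trans (Nat.card_le_card_of_injective _ (Subgroup.inclusion_injective
    ((Subgroup.closure_le _).mpr ?_))) h
  rintro x (rfl | rfl)
  · exact Subgroup.subset_closure ⟨0, by simp [certTri], rfl⟩
  · exact Subgroup.subset_closure ⟨2, by simp [certTri], rfl⟩

end H36.J3U
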