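import Cfsg.Agent.H36.J3U.Sound
import Cfsg.Agent.H36.J3U.Triangle
import Cfsg.Agent.H36.J2U.Perms
import Cfsg.Agent.H36.HJ.Invol

/-!
An involution centraliser `2^(1+4).A₅` satisfying `HJ.Hyp` is the group given by the tables.
-/

set_option autoImplicit false
set_option synthInstance.maxSize 4000
set_option synthInstance.maxHeartbeats 200000

namespace H36.J3U

open H36.HJ
open H36.J2U (app app_mul app_inv mv mv_spec)

local notation "A5" => alternatingGroup (Fin 5)

/-! ### The permutation part -/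

/-- `(012)`. -/
def Al : A5 := ⟨Equiv.swap 0 1 * Equiv.swap 1 2, by rw [Equiv.Perm.mem_alternatingGroup]; decide⟩
/-- `(13)(24)`. -/
def Be : A5 := ⟨Equiv.swap 1 3 * Equiv.swap 2 4, by rw [Equiv.Perm.mem_alternatingGroup]; decide⟩

/-- Words in `Al, Be`, a bit a letter below a leading one. -/
def permWords : List Nat :=
  [1, 84, 164, 6738, 420, 425, 169, 74, 3, 202, 212, 2642, 3237, 105, 850, 2, 21, 41, 148, 338, 6, 53,
    404, 1189, 4, 42, 82, 3369, 210, 1700, 676, 37, 12, 101, 106, 1321, 52, 1188, 1618, 297, 13, 677,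
    26, 594, 809, 5, 10, 20, 100, 165, 9, 330, 25, 18, 50, 660, 36, 1684, 421, 842]

/-- The value of a word. -/
def wordVal : Nat → Nat → A5
  | 0, _ => 1
  | n + 1, w => if w ≤ 1 then 1 else (if w % 2 = 1 then Be else Al) * wordVal n (w / 2)

/-- The permutation with a given number. -/
def permOf (l : Nat) : A5 := wordVal 16 (permWords.getD l 1)

/-- The number of a permutation. -/
def permIdx (k : A5) : Nat := ((List.range 60).find? fun l => permOf l == k).getD 0

theorem permOf_table : ∀ l : Fin 60, ∀ i : Fin 5,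
    ((app (permOf l) i : Fin 5) : Nat) = entry (permTab.getD l 0) 3 i := by decide +kernel

theorem permIdx_spec : ∀ k : A5, permOf (permIdx k) = k ∧ permIdx k < 60 := by decide +kernel

theorem permOf_mul : ∀ a b : Fin 60, permOf (lmC a b) = permOf a * permOf b := by decide +kernel

theorem al_be : Al * Al * Al = 1 ∧ Be * Be = 1 ∧ (Al * Be) ^ 5 = 1 ∧ Be ≠ 1 ∧ Al * Be ≠ 1 := by
  decide +kernel

theorem a5_five_fix : ∀ k : A5, k ^ 5 = 1 → k ≠ 1 → ∀ i, app k i ≠ i := by decide +kernel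

theorem a5_four_criterion : ∀ v w : A5, v * v = 1 → v ≠ 1 → w * w = 1 → w ≠ 1 → v ≠ w → v * w = w * v →
    ∃ i : Fin 5, app v i = i ∧ app w i = i ∧ ∀ h : A5, app h i ≠ i →
      (h ^ 5 = 1 ∧ h ≠ 1) ∨ ((h * v) ^ 5 = 1 ∧ h * v ≠ 1) ∨ ((h * w) ^ 5 = 1 ∧ h * w ≠ 1) ∨
        ((h * (v * w)) ^ 5 = 1 ∧ h * (v * w) ≠ 1) := by
  decide +kernel

theorem stab_card : ∀ i : Fin 5, (Finset.univ.filter fun k : A5 => app k i = i).card = 12 := by
  decide +kernel

theorem stab4_three : ∀ k : A5, app k 4 = 4 → ∃ a b : A5, app a 4 = 4 ∧ app b 4 = 4 ∧ a ^ 3 = 1 ∧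
    b ^ 3 = 1 ∧ k = a * b := by
  decide +kernel

variable {G : Type*} [Group G] [Finite G]
variable {z : G} {Q : Subgroup G} {χ : Subgroup.centralizer ({z} : Set G) →* A5}

theorem five_fix (H : Hyp z Q χ) {f w : G} (hfz : Commute f z) (hf5 : f ^ 5 = 1) (hf1 : f ≠ 1)
    (hw : w ∈ Q) (hc : Commute f w) : w = 1 ∨ w = z := by
  classical
  haveI : Fact (Nat.Prime 5) := ⟨by norm_num⟩
  obtain ⟨f0, h0z, h05, h01, hfix⟩ := H.exists_five
  set x : Subgroup.centralizer ({z} : Set G) := ⟨f, mem_C.mpr hfz⟩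
  set y : Subgroup.centralizer ({z} : Set G) := ⟨f0, mem_C.mpr h0z⟩
  have hx : orderOf x = 5 := orderOf_eq_prime (Subtype.ext hf5) fun h => hf1 (congrArg Subtype.val h)
  have hy : orderOf y = 5 := orderOf_eq_prime (Subtype.ext h05) fun h => h01 (congrArg Subtype.val h)
  have hpow : ∀ {a : Subgroup.centralizer ({z} : Set G)}, orderOf a = 5 →
      ∃ P : Sylow 5 (Subgroup.centralizer ({z} : Set G)), (P : Subgroup _) = Subgroup.zpowers a := by
    intro a ha
    obtain ⟨P, hP⟩ := (IsPGroup.of_card (p := 5) (n := 1)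
      (by rw [Nat.card_zpowers, ha, pow_one] : Nat.card (Subgroup.zpowers a) = 5 ^ 1)).exists_le_sylow
    obtain ⟨n, hn⟩ := P.2.exists_card_eq
    have hdvd := Subgroup.card_subgroup_dvd_card (P : Subgroup (Subgroup.centralizer ({z} : Set G)))
    rw [hn, H.card_C] at hdvd
    have hn1 : n ≤ 1 := by
      by_contra hlt
      exact absurd (dvd_trans (pow_dvd_pow 5 (by omega : 2 ≤ n)) hdvd) (by norm_num)
    refine ⟨P, (Subgroup.eq_of_le_of_card_ge hP ?_).symm⟩
    rw [Nat.card_zpowers, ha, hn]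
    calc (5 : ℕ) ^ n ≤ 5 ^ 1 := Nat.pow_le_pow_right (by norm_num) hn1
      _ = 5 := pow_one 5
  obtain ⟨P, hP⟩ := hpow hx
  obtain ⟨R, hR⟩ := hpow hy
  obtain ⟨g, hg⟩ := MulAction.exists_smul_eq (Subgroup.centralizer ({z} : Set G)) P R
  have hxy : g * x * g⁻¹ ∈ Subgroup.zpowers y := by
    rw [← hR, ← hg, Sylow.coe_subgroup_smul, hP]
    exact Subgroup.smul_mem_pointwise_smul x _ _ (Subgroup.mem_zpowers x)
  have hgz : Commute (g : G) z := mem_C.mp g.2
  have hw' := H.conj_memQ hgz hw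
  have hy' : y ∈ Subgroup.zpowers (g * x * g⁻¹) := by
    have hz' : Subgroup.zpowers (g * x * g⁻¹) = Subgroup.zpowers y :=
      Subgroup.eq_of_le_of_card_ge (Subgroup.zpowers_le.mpr hxy) (by
        rw [Nat.card_zpowers, Nat.card_zpowers, hy,
          show orderOf (g * x * g⁻¹) = orderOf x from
            orderOf_injective (MulAut.conj g).toMonoidHom (MulAut.conj g).injective x, hx])
    rw [hz']; exact Subgroup.mem_zpowers y
  obtain ⟨i, hi⟩ := Subgroup.mem_zpowers_iff.mp hy'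
  have hc' : Commute ((g * x * g⁻¹ : Subgroup.centralizer ({z} : Set G)) : G) ((g : G) * w * (g : G)⁻¹) := by
    show Commute ((g : G) * f * (g : G)⁻¹) ((g : G) * w * (g : G)⁻¹)
    exact hc.map (MulAut.conj (g : G)).toMonoidHom
  have hc0 : Commute f0 ((g : G) * w * (g : G)⁻¹) := by
    have h2 := hc'.zpow_left i
    rwa [← SubgroupClass.coe_zpow, hi] at h2
  rcases hfix _ hw' hc0 with h | h
  · left; simpa using h
  · right
    have h' : (g : G) * w = z * (g : G) := mul_inv_eq_iff_eq_mul.mp h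
    rw [← hgz.eq] at h'
    exact mul_left_cancel h'

theorem exists_hom (H : Hyp z Q χ) : ∃ ψ : A5 →* G, ∃ hψ : ∀ k, Commute (ψ k) z,
    ∀ k, img χ (hψ k) = k := by
  classical
  obtain ⟨⟨x, hx⟩, hxa⟩ := H.surj Al
  have hxz : Commute x z := mem_C.mp hx
  have h3 : x * x * x ∈ Q := by
    refine (H.img_eq_one ((hxz.mul_left hxz).mul_left hxz)).mp ?_
    rw [H.img_mul (hxz.mul_left hxz) hxz, H.img_mul hxz hxz,
      show img χ hxz = Al from hxa, al_be.1]
  have h12 : (x ^ 4) * (x ^ 4) * (x ^ 4) = 1 := by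
    have h4 : (x * x * x) ^ 4 = 1 := by
      rcases H.sq_cases h3 with e | e
      · rw [show (4 : ℕ) = 2 * 2 from rfl, pow_mul, pow_two (x * x * x), e, one_pow]
      · rw [show (4 : ℕ) = 2 * 2 from rfl, pow_mul, pow_two (x * x * x), e, pow_two, H.zz]
    rw [← h4]; simp only [pow_succ, pow_zero, one_mul, mul_assoc]
  set a := x ^ 4
  have haz : Commute a z := hxz.pow_left 4
  have hai : img χ haz = Al := by
    show χ ⟨x ^ 4, _⟩ = Al
    rw [show (⟨x ^ 4, mem_C.mpr haz⟩ : Subgroup.centralizer ({z} : Set G)) = ⟨x, hx⟩ ^ 4 from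
      Subtype.ext rfl, map_pow, hxa]
    decide +kernel
  obtain ⟨u, h, x', c, K⟩ := H.exists_ctx
  have hyz := K.comm_z H
  have hyi : img χ hyz * img χ hyz = 1 := by
    rw [← H.img_mul hyz hyz]; exact (H.img_eq_one _).mpr (by rw [K.sq H]; exact one_mem Q)
  have hyn : img χ hyz ≠ 1 := fun e => K.not_mem H ((H.img_eq_one _).mp e)
  obtain ⟨cc, hcc⟩ := a5_invol_conj Be al_be.2.1 al_be.2.2.2.1 (img χ hyz) hyi hyn
  obtain ⟨⟨k, hk⟩, rfl⟩ := H.surj cc
  have hkz : Commute k z := mem_C.mp hk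
  set y := k * (x' * c) * k⁻¹
  have hy : Commute y z := (hkz.mul_left hyz).mul_left hkz.inv_left
  have hybe : img χ hy = Be := by rw [H.img_conj hkz hyz]; exact hcc
  have hy2 : y * y = 1 := by
    show k * (x' * c) * k⁻¹ * (k * (x' * c) * k⁻¹) = 1
    rw [show k * (x' * c) * k⁻¹ * (k * (x' * c) * k⁻¹) = k * (x' * c * (x' * c)) * k⁻¹ by group, K.sq H]
    group
  have hab : Commute (a * y) z := haz.mul_left hy
  have hw : (a * y) ^ 5 ∈ Q := by
    refine (H.img_eq_one (hab.pow_left 5)).mp ?_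
    show χ ⟨(a * y) ^ 5, _⟩ = 1
    rw [show (⟨(a * y) ^ 5, mem_C.mpr (hab.pow_left 5)⟩ : Subgroup.centralizer ({z} : Set G)) =
      ⟨a * y, mem_C.mpr hab⟩ ^ 5 from Subtype.ext rfl, map_pow,
      show χ ⟨a * y, mem_C.mpr hab⟩ = Al * Be by rw [← hai, ← hybe, ← H.img_mul haz hy]; rfl]
    exact al_be.2.2.1
  set w := (a * y) ^ 5 with hwdef
  have hw20 : ((a * y) ^ 4) ^ 5 = 1 := by
    rw [← pow_mul, show 4 * 5 = 5 * 4 from rfl, pow_mul]
    rcases H.sq_cases hw with e | e
    · rw [show (4 : ℕ) = 2 * 2 from rfl, pow_mul, pow_two ((a * y) ^ 5), e, one_pow]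
    · rw [show (4 : ℕ) = 2 * 2 from rfl, pow_mul, pow_two ((a * y) ^ 5), e, pow_two, H.zz]
  have hf1 : (a * y) ^ 4 ≠ 1 := by
    intro e
    have h1 : img χ (hab.pow_left 4) = 1 := (H.img_eq_one _).mpr (by rw [e]; exact one_mem Q)
    have h2 : img χ (hab.pow_left 4) = (Al * Be) ^ 4 := by
      show χ ⟨(a * y) ^ 4, _⟩ = _
      rw [show (⟨(a * y) ^ 4, mem_C.mpr (hab.pow_left 4)⟩ : Subgroup.centralizer ({z} : Set G)) =
        ⟨a * y, mem_C.mpr hab⟩ ^ 4 from Subtype.ext rfl, map_pow]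
      rw [← hai, ← hybe, ← H.img_mul haz hy]; rfl
    rw [h1] at h2
    exact absurd h2.symm (by decide +kernel)
  have hw1 := five_fix H (hab.pow_left 4) hw20 hf1 hw ((Commute.refl (a * y)).pow_pow 4 5)
  obtain ⟨b, hbz, hb2, hbi, hab5⟩ : ∃ b, ∃ hbz : Commute b z, b * b = 1 ∧ img χ hbz = Be ∧
      (a * b) ^ 5 = 1 := by
    rcases hw1 with e | e
    · exact ⟨y, hy, hy2, hybe, e⟩
    · refine ⟨y * z, hy.mul_left (Commute.refl z), ?_, ?_, ?_⟩
      · rw [mul_assoc, ← mul_assoc z, ← hy.eq, mul_assoc y z z, H.zz, mul_one, hy2]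
      · rw [H.img_mul hy (Commute.refl z), hybe, (H.img_eq_one _).mpr H.zmem, mul_one]
      · rw [← mul_assoc, (show Commute (a * y) z from hab).mul_pow, ← hwdef, e,
          show (5 : ℕ) = 2 * 2 + 1 from rfl, pow_add, pow_mul, pow_two z, H.zz, one_pow, one_mul,
          pow_one, H.zz]
  let S : Subgroup (A5 × G) := Subgroup.closure {(Al, a), (Be, b)}
  have hS : Nat.card S ≤ 60 := card_triangle
    (Prod.ext al_be.1 h12) (Prod.ext al_be.2.1 hb2) (Prod.ext (by simpa using al_be.2.2.1) (by simpa using hab5))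
  let p : S →* A5 := (MonoidHom.fst A5 G).comp S.subtype
  have hp : Function.Surjective p := by
    have hgen : ∀ n w, wordVal n w ∈ p.range := by
      intro n
      induction n with
      | zero => intro w; exact one_mem _
      | succ n ih =>
        intro w
        rw [wordVal]
        split
        · exact one_mem _
        · refine mul_mem ?_ (ih _)
          split
          · exact ⟨⟨(Be, b), Subgroup.subset_closure (by simp)⟩, rfl⟩
          · exact ⟨⟨(Al, a), Subgroup.subset_closure (by simp)⟩, rfl⟩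
    intro k
    obtain ⟨v, hv⟩ := hgen 16 (permWords.getD (permIdx k) 1)
    exact ⟨v, hv.trans (permIdx_spec k).1⟩
  have hb : Function.Bijective p := hp.bijective_of_nat_card_le (by
    rw [nat_card_alternatingGroup, Nat.card_fin]; norm_num [Nat.factorial]; exact hS)
  let E : S ≃* A5 := MulEquiv.ofBijective p hb
  let ψ : A5 →* G := ((MonoidHom.snd A5 G).comp S.subtype).comp E.symm.toMonoidHom
  have key : ∀ t : A5 × G, t ∈ S → ∃ ht : Commute t.2 z, img χ ht = t.1 := by
    intro t ht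
    induction ht using Subgroup.closure_induction with
    | mem t ht =>
      simp only [Set.mem_insert_iff, Set.mem_singleton_iff] at ht
      rcases ht with rfl | rfl
      exacts [⟨haz, hai⟩, ⟨hbz, hbi⟩]
    | one => exact ⟨Commute.one_left z, (H.img_eq_one _).mpr (one_mem Q)⟩
    | mul s t _ _ hs ht =>
      obtain ⟨h1, e1⟩ := hs
      obtain ⟨h2, e2⟩ := ht
      exact ⟨h1.mul_left h2, by
        rw [show img χ (h1.mul_left h2 : Commute (s.2 * t.2) z) = img χ h1 * img χ h2 from H.img_mul h1 h2,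
          e1, e2]; rfl⟩
    | inv s _ hs =>
      obtain ⟨h1, e1⟩ := hs
      refine ⟨h1.inv_left, eq_inv_of_mul_eq_one_left ?_⟩
      rw [← e1, ← H.img_mul h1.inv_left h1]
      exact (H.img_eq_one _).mpr (by show s.2⁻¹ * s.2 ∈ Q; rw [inv_mul_cancel]; exact one_mem Q)
  have hψ : ∀ k, ∃ hk : Commute (ψ k) z, img χ hk = k := fun k => by
    obtain ⟨ht, e⟩ := key _ (E.symm k).2
    exact ⟨ht, e.trans (E.apply_symm_apply k)⟩
  exact ⟨ψ, fun k => (hψ k).1, fun k => (hψ k).2⟩

/-- A labelled complement and the labelled involutions of `Q`. -/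
structure Lab (z : G) (Q : Subgroup G) (χ : Subgroup.centralizer ({z} : Set G) →* A5) (ψ : A5 →* G)
    (u : G) : Prop where
  hyp : Hyp z Q χ
  comm : ∀ k, Commute (ψ k) z
  sect : ∀ k, img χ (comm k) = k
  sat : Hyp.Sat z Q u
  stab : ∀ k, app k 4 = 4 → ψ k * u * (ψ k)⁻¹ = u
  only : ∀ k, ψ k * u * (ψ k)⁻¹ = u ∨ ψ k * u * (ψ k)⁻¹ = u * z → app k 4 = 4

/-- The five conjugates of `u`. -/
def U (ψ : A5 →* G) (u : G) (i : Fin 5) : G := (ψ (mv i))⁻¹ * u * ψ (mv i)

theorem pair_stab (H : Hyp z Q χ) (ψ : A5 →* G) (hψ : ∀ k, Commute (ψ k) z)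
    (hsec : ∀ k, img χ (hψ k) = k) {u : G} (hu : Hyp.Sat z Q u) :
    ∃ i : Fin 5, ∀ k, ψ k * u * (ψ k)⁻¹ = u ∨ ψ k * u * (ψ k)⁻¹ = u * z ↔ app k i = i := by
  classical
  haveI := Fintype.ofFinite G
  have hcz : ∀ k : A5, ψ k * (u * z) * (ψ k)⁻¹ = ψ k * u * (ψ k)⁻¹ * z := fun k => by
    rw [← mul_assoc, mul_assoc (ψ k * u), ← (hψ k).inv_left.eq, ← mul_assoc]
  let S : Subgroup A5 :=
    { carrier := {k | ψ k * u * (ψ k)⁻¹ = u ∨ ψ k * u * (ψ k)⁻¹ = u * z}
      one_mem' := Or.inl (by simp)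
      mul_mem' := fun {k l} hk hl => by
        have e : ψ (k * l) * u * (ψ (k * l))⁻¹ = ψ k * (ψ l * u * (ψ l)⁻¹) * (ψ k)⁻¹ := by
          rw [map_mul]; group
        rcases hl with hl | hl <;> rcases hk with hk | hk <;> simp only [Set.mem_setOf_eq, e, hl]
        · exact Or.inl hk
        · exact Or.inr hk
        · exact Or.inr (by rw [hcz, hk])
        · exact Or.inl (by rw [hcz, hk, mul_assoc, H.zz, mul_one])
      inv_mem' := fun {k} hk => by
        have e : ψ k⁻¹ * u * (ψ k⁻¹)⁻¹ = (ψ k)⁻¹ * u * ψ k := by rw [map_inv, inv_inv]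
        rcases hk with hk | hk <;> simp only [Set.mem_setOf_eq, e]
        · left
          conv_lhs => rw [← hk]
          group
        · right
          have h1 : ψ k * (u * z) * (ψ k)⁻¹ = u := by rw [hcz, hk, mul_assoc, H.zz, mul_one]
          conv_lhs => rw [← h1]
          group }
  have hnf : ∀ f : A5, f ^ 5 = 1 → f ≠ 1 → f ∉ S := by
    intro f hf5 hf1 hfS
    have h2 : ψ (f * f) * u * (ψ (f * f))⁻¹ = u := by
      rw [map_mul, show ψ f * ψ f * u * (ψ f * ψ f)⁻¹ = ψ f * (ψ f * u * (ψ f)⁻¹) * (ψ f)⁻¹ by group]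
      rcases hfS with e | e <;> rw [e]
      · exact e
      · rw [hcz, e, mul_assoc, H.zz, mul_one]
    have hc2 : Commute (ψ f ^ 2) u := by
      rw [pow_two, ← map_mul]; exact mul_inv_eq_iff_eq_mul.mp h2
    have hc : Commute (ψ f) u := by
      have := hc2.pow_left 3
      rwa [← pow_mul, ← map_pow, show f ^ (2 * 3) = f by rw [pow_succ, hf5, one_mul], ] at this
    rcases five_fix H (hψ f) (by rw [← map_pow, hf5, map_one]) (fun e => hf1 (by
      rw [← hsec f]; exact (H.img_eq_one _).mpr (by rw [e]; exact one_mem Q))) hu.1 hc with e | e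
    · exact hu.2.2.1 e
    · exact hu.2.2.2 e
  have hind : S.index ≤ 5 := by
    let cl : G → Finset G := fun v => {v, v * z}
    set T := (Finset.univ.filter fun v : G => Hyp.Sat z Q v) with hT
    have hT10 : T.card = 10 := by
      rw [hT, ← Fintype.card_subtype, ← Nat.card_eq_fintype_card, H.sat_main.1]
    have him : (T.image cl).card * 2 ≤ 10 := by
      rw [← hT10]
      rw [Finset.card_eq_sum_card_image cl T, ← smul_eq_mul]
      refine Finset.card_nsmul_le_sum (T.image cl) _ 2 fun C hC => ?_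
      obtain ⟨v, hv, rfl⟩ := Finset.mem_image.mp hC
      have hv' := (Finset.mem_filter.mp hv).2
      refine le_trans (le_of_eq (Finset.card_pair (a := v) (b := v * z) (fun e => H.z_ne (mul_eq_left.mp e.symm))).symm)
        (Finset.card_le_card fun w hw => ?_)
      simp only [Finset.mem_insert, Finset.mem_singleton] at hw
      rcases hw with rfl | rfl
      · simp [hv]
      · simp only [Finset.mem_filter]
        refine ⟨by simp [hT, H.sat_mul_z hv'], ?_⟩
        simp only [cl, mul_assoc, H.zz, mul_one]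
        exact Finset.pair_comm _ _
    rw [Subgroup.index, Nat.card_eq_fintype_card]
    refine le_trans (Finset.card_le_card_of_injOn (t := T.image cl)
      (fun q : A5 ⧸ S => cl (ψ q.out * u * (ψ q.out)⁻¹)) (fun q _ => ?_) ?_) (by omega)
    · exact Finset.mem_image_of_mem _ (by simp [hT, H.sat_conj hu (hψ _)])
    · intro q _ r _ hqr
      dsimp only at hqr
      have hm : ψ q.out * u * (ψ q.out)⁻¹ ∈ cl (ψ r.out * u * (ψ r.out)⁻¹) := by
        rw [← hqr]; simp [cl]
      rw [← q.out_eq, ← r.out_eq]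
      refine (QuotientGroup.eq.mpr ?_).symm
      show (r.out : A5)⁻¹ * q.out ∈ S
      have e : ψ ((r.out : A5)⁻¹ * q.out) * u * (ψ ((r.out : A5)⁻¹ * q.out))⁻¹ =
          (ψ r.out)⁻¹ * (ψ q.out * u * (ψ q.out)⁻¹) * ψ r.out := by
        rw [map_mul, map_inv]; group
      simp only [cl, Finset.mem_insert, Finset.mem_singleton] at hm
      show _ ∨ _
      rw [e]
      rcases hm with h | h <;> rw [h]
      · left; group
      · right; rw [mul_assoc _ (ψ r.out * u * (ψ r.out)⁻¹ * z), mul_assoc (ψ r.out * u * (ψ r.out)⁻¹) z, ← (hψ _).eq]; group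
  have hcard : Nat.card S = 12 := by
    have h1 := S.card_mul_index
    rw [nat_card_alternatingGroup, Nat.card_fin, show Nat.factorial 5 / 2 = 60 from rfl] at h1
    have h5 : ¬ 5 ∣ Nat.card S := fun hd => by
      haveI : Fact (Nat.Prime 5) := ⟨by norm_num⟩
      obtain ⟨x, hx⟩ := exists_prime_orderOf_dvd_card' 5 hd
      have hxS := x.2
      rw [← Subgroup.orderOf_coe] at hx
      refine hnf (x : A5) ?_ (fun e => by rw [e, orderOf_one] at hx; omega) hxS
      have := pow_orderOf_eq_one (x : A5)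
      rwa [hx] at this
    have hdvd : Nat.card S ∣ 60 := Dvd.intro _ h1
    have hge : 12 ≤ Nat.card S := by
      by_contra hlt
      have := Nat.mul_le_mul (Nat.le_of_lt_succ (by omega : Nat.card S < 12)) hind
      omega
    have hle : Nat.card S ≤ 60 := Nat.le_of_dvd (by norm_num) hdvd
    interval_cases hn : Nat.card S <;> first | rfl | omega
  obtain ⟨v, w, hv, hw, hv2, hv1, hw2, hw1, hvw, hcomm⟩ : ∃ v w, v ∈ S ∧ w ∈ S ∧ v * v = 1 ∧ v ≠ 1 ∧
      w * w = 1 ∧ w ≠ 1 ∧ v ≠ w ∧ v * w = w * v := by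
    haveI : Fact (Nat.Prime 2) := ⟨Nat.prime_two⟩
    obtain ⟨P, hP⟩ := Sylow.exists_subgroup_card_pow_prime 2 (n := 2)
      (show 2 ^ 2 ∣ Nat.card S by rw [hcard]; norm_num)
    haveI := IsPGroup.isMulCommutative_of_card_eq_prime_sq (p := 2) hP
    have h4 : ∀ x : P, ((x : S) : A5) * ((x : S) : A5) = 1 := fun x => a5_four _ (by
      have h := pow_card_eq_one' (x := x)
      rw [hP] at h
      exact congrArg (fun y : P => ((y : S) : A5)) h)
    obtain ⟨x, y, hx1, hy1, hxy⟩ : ∃ x y : P, x ≠ 1 ∧ y ≠ 1 ∧ x ≠ y := by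
      haveI := Fintype.ofFinite P
      have h3 : 2 < (Finset.univ : Finset P).card := by
        rw [Finset.card_univ, ← Nat.card_eq_fintype_card, hP]; norm_num
      obtain ⟨a, -, b, -, c, -, hab, hac, hbc⟩ := Finset.two_lt_card.mp h3
      by_cases ha : a = 1
      · subst ha; exact ⟨b, c, hab.symm, hac.symm, hbc⟩
      · by_cases hb : b = 1
        · subst hb; exact ⟨a, c, ha, hbc.symm, hac⟩
        · exact ⟨a, b, ha, hb, hab⟩
    exact ⟨_, _, (x : S).2, (y : S).2, h4 x, fun e => hx1 (Subtype.ext (Subtype.ext e)), h4 y,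
      fun e => hy1 (Subtype.ext (Subtype.ext e)), fun e => hxy (Subtype.ext (Subtype.ext e)),
      congrArg (fun t : P => ((t : S) : A5)) (mul_comm' x y)⟩
  obtain ⟨i, -, -, hcrit⟩ := a5_four_criterion v w hv2 hv1 hw2 hw1 hvw hcomm
  refine ⟨i, fun k => ?_⟩
  have hsub : ∀ h ∈ S, app h i = i := by
    intro h hh
    by_contra hne
    rcases hcrit h hne with e | e | e | e
    · exact hnf _ e.1 e.2 hh
    · exact hnf _ e.1 e.2 (mul_mem hh hv)
    · exact hnf _ e.1 e.2 (mul_mem hh hw)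
    · exact hnf _ e.1 e.2 (mul_mem hh (mul_mem hv hw))
  refine ⟨hsub k, fun hk => ?_⟩
  have he : (Finset.univ.filter fun h : A5 => h ∈ S) = Finset.univ.filter fun h : A5 => app h i = i := by
    refine Finset.eq_of_subset_of_card_le (fun h hh => ?_) ?_
    · simp only [Finset.mem_filter, Finset.mem_univ, true_and] at hh ⊢; exact hsub h hh
    · rw [stab_card i, ← Fintype.card_subtype, ← Nat.card_eq_fintype_card]
      exact le_of_eq hcard.symm
  have : k ∈ Finset.univ.filter fun h : A5 => h ∈ S := by rw [he]; simp [hk]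
  exact (Finset.mem_filter.mp this).2

theorem exists_lab (H : Hyp z Q χ) : ∃ ψ u, Lab z Q χ ψ u := by
  obtain ⟨ψ, hψ, hsec⟩ := exists_hom H
  obtain ⟨g, hg⟩ := H.exists_sat
  set u0 := g * z * g⁻¹
  obtain ⟨i, hi⟩ := pair_stab H ψ hψ hsec hg
  set u := ψ (mv i) * u0 * (ψ (mv i))⁻¹ with hudef
  have hu := H.sat_conj hg (hψ (mv i))
  have honly : ∀ k, ψ k * u * (ψ k)⁻¹ = u ∨ ψ k * u * (ψ k)⁻¹ = u * z ↔ app k 4 = 4 := by
    intro k
    have h1 : app ((mv i)⁻¹ * k * mv i) i = i ↔ app k 4 = 4 := by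
      rw [app_mul, app_mul, mv_spec]
      constructor
      · intro h
        have := congrArg (app (mv i)) h
        rwa [app_inv, mv_spec] at this
      · intro h
        rw [h]
        conv_lhs => rw [← mv_spec i, ← app_mul, inv_mul_cancel]
        rfl
    rw [← h1, ← hi]
    have e : ψ ((mv i)⁻¹ * k * mv i) * u0 * (ψ ((mv i)⁻¹ * k * mv i))⁻¹ =
        (ψ (mv i))⁻¹ * (ψ k * u * (ψ k)⁻¹) * ψ (mv i) := by
      rw [hudef, map_mul, map_mul, map_inv]; group
    have e2 : u * z = ψ (mv i) * (u0 * z) * (ψ (mv i))⁻¹ := by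
      calc u * z = ψ (mv i) * u0 * ((ψ (mv i))⁻¹ * z) := by rw [hudef]; group
        _ = ψ (mv i) * u0 * (z * (ψ (mv i))⁻¹) := by rw [(hψ _).inv_left.eq]
        _ = _ := by group
    constructor
    · rintro (h | h) <;> rw [e, h]
      · left; rw [hudef]; group
      · right; rw [e2]; group
    · intro h
      have e3 : ψ k * u * (ψ k)⁻¹ =
          ψ (mv i) * (ψ ((mv i)⁻¹ * k * mv i) * u0 * (ψ ((mv i)⁻¹ * k * mv i))⁻¹) * (ψ (mv i))⁻¹ := by
        rw [e]; group
      rcases h with h | h <;> rw [e3, h]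
      · exact Or.inl rfl
      · exact Or.inr e2.symm
  refine ⟨ψ, u, H, hψ, hsec, hu, fun k hk => ?_, fun k hk => (honly k).mp hk⟩
  have hthree : ∀ a : A5, app a 4 = 4 → a ^ 3 = 1 → ψ a * u * (ψ a)⁻¹ = u := by
    intro a ha4 ha3
    refine ((honly a).mpr ha4).resolve_right fun e => ?_
    have hz : ψ a * (u * z) * (ψ a)⁻¹ = u := by
      rw [← mul_assoc, mul_assoc (ψ a * u), ← (hψ a).inv_left.eq, ← mul_assoc, e, mul_assoc, H.zz, mul_one]
    have e3 : ψ a * (ψ a * (ψ a * u * (ψ a)⁻¹) * (ψ a)⁻¹) * (ψ a)⁻¹ = u := by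
      calc _ = ψ (a ^ 3) * u * (ψ (a ^ 3))⁻¹ := by rw [show a ^ 3 = a * a * a by rw [pow_succ, pow_two], map_mul, map_mul]; group
        _ = u := by rw [ha3, map_one]; simp
    rw [e, hz, e] at e3
    exact H.z_ne (mul_eq_left.mp e3)
  obtain ⟨a, b, ha, hb, ha3, hb3, rfl⟩ := stab4_three k hk
  calc ψ (a * b) * u * (ψ (a * b))⁻¹ = ψ a * (ψ b * u * (ψ b)⁻¹) * (ψ a)⁻¹ := by rw [map_mul]; group
    _ = u := by rw [hthree b hb hb3, hthree a ha ha3]

end H36.J3U
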