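import Cfsg.Agent.H36.J3U.KappaData

/-!
Facts in the table group about the elementary abelian subgroup of order 16.
-/

set_option autoImplicit false
set_option maxRecDepth 100000

namespace H36.J3U

/-- The elementary abelian subgroup `{1,z,u,uz} × {1,w,w',w''}`. -/
def sixteen : List Nat :=
  [0, 13, 30, 43, 60, 73, 90, 103, 1800, 1813, 1830, 1843, 1860, 1873, 1890, 1903]

/-- The translations by `v`. -/
def transl : List Nat := [0, 1183, 1290, 1513]

theorem sixteen_facts :
    sixteen.all (fun a => decide (a < 1920) && decide (phiC a < 1920) && sixteen.contains (phiC a) &&
      sixteen.contains (invC a) && mulC a a == 0 && (phiC a == a) == (a == 0) &&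
      sixteen.all (fun b => sixteen.contains (mulC a b) && mulC a b == mulC b a)) = true ∧
      sixteen.Nodup ∧ sixteen.length = 16 := by
  decide +kernel

theorem sixteen_stab : (List.range 1920).all (fun a =>
    decide (phiC a < 1920) == [60, 1800, 13, 43].all (fun x => sixteen.contains (cjC a x))) = true := by
  decide +kernel

theorem sixteen_dom : (domList.map Prod.fst).all (fun d =>
    sixteen.all (fun x => sixteen.contains (cjC d x))) = true := by decide +kernel

theorem sixteen_self : (List.range 1920).all (fun a =>
    !(mulC a 13 == mulC 13 a) || sixteen.contains a) = true := by decide +kernel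

theorem invol_outside : (List.range 1920).all (fun x =>
    !(mulC x x == 0 && !(x % 60 == 0)) || (List.range 1920).any (fun a => cjC a x == 13)) = true := by
  decide +kernel

theorem invol_inside : ((List.range 32).filter fun q => mulC (60 * q) (60 * q) == 0).length = 12 := by
  decide +kernel

theorem three_class : (List.range 1920).all (fun x =>
    !(mulC x (mulC x x) == 0 && !(x == 0)) ||
      (List.range 1920).any (fun a => cjC a x == 15 || cjC a x == 24)) = true := by
  decide +kernel

theorem block_z : sixteen.all (fun y =>
    !(mulC y 15 == mulC 15 y && mulC y 1183 == mulC 1183 y) || [0, 60, 1800, 1860].contains y) = true := by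
  decide +kernel

theorem block_w : sixteen.all (fun y =>
    decide (cjC 24 y < 1920) && (!(phiC (cjC 24 y) == y) || [0, 13, 43, 30].contains y)) = true := by
  decide +kernel

theorem block_cover : sixteen.all (fun x =>
    [0, 60, 1800, 1860].contains x ||
      transl.any (fun t => [13, 43, 30].any (fun w => cjC t w == x))) = true := by
  decide +kernel

theorem block_kernel : (domList.map Prod.fst).all (fun d =>
    !([13, 43, 30].contains (cjC d 13) && [1873, 103, 1830].contains (cjC d 1873)) || sixteen.contains d) =
      true := by
  decide +kernel

theorem block_translate : [1873, 103, 1830] = [13, 43, 30].map (cjC 1183) := by decide +kernel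

theorem sixteen_adjust : sixteen.all (fun d =>
    sixteen.any (fun a => mulC (mulC (phiC a) d) a == 0) &&
      sixteen.any (fun a => mulC (mulC (phiInvC a) d) a == 0)) = true := by
  decide +kernel

theorem sixteen_fix_free : sixteen.all (fun a => decide (phiInvC a < 1920) &&
    (!(mulC a (phiC (invC a)) == 0) || a == 0)) = true := by decide +kernel

end H36.J3U
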