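import Cfsg.Agent.H36.J3U.KappaRel
import Cfsg.Agent.H36.J3U.NormData

/-!
The normaliser of the elementary abelian group of order 16 when all involutions are conjugate:
`κ` is centralised by an element of order five and is conjugate to `c` or `c⁻¹`.
-/

set_option autoImplicit false
set_option maxRecDepth 100000

namespace H36.J3U

variable {G : Type*} [Group G] {z : G} {e : Nat → G} {k : G}

/-- All involutions are conjugate. -/
def OneClass (G : Type*) [Group G] : Prop :=
  ∀ x y : G, x * x = 1 → x ≠ 1 → y * y = 1 → y ≠ 1 → IsConj x y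

/-- Membership in the group of order 16. -/
def In16 (e : Nat → G) (g : G) : Prop := ∃ a ∈ sixteen, e a = g

theorem mem_sixteen {a : Nat} (ha : a ∈ sixteen) :
    a < 1920 ∧ phiC a < 1920 ∧ phiC a ∈ sixteen ∧ invC a ∈ sixteen ∧ mulC a a = 0 ∧
      (phiC a = a → a = 0) ∧ ∀ b ∈ sixteen, mulC a b ∈ sixteen ∧ mulC a b = mulC b a := by
  have := List.all_eq_true.mp sixteen_facts.1 a ha
  simp only [Bool.and_eq_true, decide_eq_true_eq, beq_iff_eq, List.contains_iff_mem,
    List.all_eq_true] at this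
  obtain ⟨⟨⟨⟨⟨⟨h1, h2⟩, h3⟩, h4⟩, h5⟩, h6⟩, h7⟩ := this
  exact ⟨h1, h2, h3, h4, h5, fun h => by simpa [h] using h6.symm, h7⟩

theorem lt_sixteen {a : Nat} (ha : a ∈ sixteen) : a < 1920 := (mem_sixteen ha).1

/-- The group of order 16. -/
def E16 (M : Mdl z e) : Subgroup G where
  carrier := {g | In16 e g}
  one_mem' := ⟨0, by decide, M.one⟩
  mul_mem' := fun {g h} ⟨a, ha, hg⟩ ⟨b, hb, hh⟩ =>
    ⟨mulC a b, ((mem_sixteen ha).2.2.2.2.2.2 b hb).1, by rw [M.mul _ _ (lt_sixteen ha) (lt_sixteen hb), hg, hh]⟩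
  inv_mem' := fun {g} ⟨a, ha, hg⟩ =>
    ⟨invC a, (mem_sixteen ha).2.2.2.1, by rw [M.inv (lt_sixteen ha), hg]⟩

/-- The normaliser of the group of order 16. -/
def N16 (M : Mdl z e) : Subgroup G where
  carrier := {n | (∀ g, g ∈ E16 M → n * g * n⁻¹ ∈ E16 M) ∧ ∀ g, g ∈ E16 M → n⁻¹ * g * n ∈ E16 M}
  one_mem' := ⟨fun g hg => by simpa using hg, fun g hg => by simpa using hg⟩
  mul_mem' := fun {a b} ha hb =>
    ⟨fun g hg => by simpa [mul_assoc] using ha.1 _ (hb.1 g hg),
      fun g hg => by simpa [mul_assoc] using hb.2 _ (ha.2 g hg)⟩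
  inv_mem' := fun {a} ha => ⟨fun g hg => by simpa using ha.2 g hg, fun g hg => by simpa using ha.1 g hg⟩

/-- The block of an element. -/
def Bl (M : Mdl z e) (x y : G) : Prop :=
  y ∈ E16 M ∧ ∀ m ∈ N16 M, Commute m x → Commute m y

theorem Bl.conj {M : Mdl z e} {x y n : G} (h : Bl M x y) (hn : n ∈ N16 M) :
    Bl M (n * x * n⁻¹) (n * y * n⁻¹) := by
  refine ⟨hn.1 _ h.1, fun m hm hc => ?_⟩
  have h2 : Commute (n⁻¹ * m * n) x := by
    have := hc.map (MulAut.conj n⁻¹).toMonoidHom
    simpa [mul_assoc] using this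
  have h3 := (h.2 _ (mul_mem (mul_mem (inv_mem hn) hm) hn) h2).map (MulAut.conj n).toMonoidHom
  simpa [mul_assoc] using h3

section

variable [Finite G] (M : Mdl z e) (K : Kappa z e k)
include M K

theorem mem_N16 {n : G} (h : ∀ g, g ∈ E16 M → n * g * n⁻¹ ∈ E16 M) : n ∈ N16 M := by
  refine ⟨h, fun g hg => ?_⟩
  obtain ⟨⟨g', hg'⟩, he⟩ := Finite.surjective_of_injective
    (f := fun g : E16 M => (⟨n * g * n⁻¹, h _ g.2⟩ : E16 M))
    (fun a b hab => Subtype.ext (mul_left_cancel (mul_right_cancel (congrArg Subtype.val hab)))) ⟨g, hg⟩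
  have he' : n * g' * n⁻¹ = g := congrArg Subtype.val he
  rw [← he']; simpa [mul_assoc] using hg'

theorem dom_mem_N16 {d : Nat} (hd : d < 1920) (hd' : phiC d < 1920) : e d ∈ N16 M := by
  refine mem_N16 M K fun g hg => ?_
  obtain ⟨a, ha, rfl⟩ := hg
  have h := List.all_eq_true.mp (List.all_eq_true.mp sixteen_dom d (mem_dom hd hd')) a ha
  exact ⟨cjC d a, List.contains_iff_mem.mp h, (M.cj hd (lt_sixteen ha)).2⟩

theorem kap_mem_N16 : k ∈ N16 M := by
  refine mem_N16 M K fun g hg => ?_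
  obtain ⟨a, ha, rfl⟩ := hg
  obtain ⟨h1, h2, h3, -⟩ := mem_sixteen ha
  exact ⟨phiC a, h3, by rw [K.kap.phi M h1 h2, mul_inv_cancel_right]⟩

theorem N16_inter {n : G} (hn : n ∈ N16 M) (hz : Commute n z) :
    ∃ d, d < 1920 ∧ phiC d < 1920 ∧ e d = n := by
  obtain ⟨d, hd, rfl⟩ := M.surj n hz
  refine ⟨d, hd, ?_, rfl⟩
  have h := List.all_eq_true.mp sixteen_stab d (List.mem_range.mpr hd)
  have h4 : ∀ x ∈ [60, 1800, 13, 43], x ∈ sixteen := by decide
  have hall : [60, 1800, 13, 43].all (fun x => sixteen.contains (cjC d x)) = true := by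
    rw [List.all_eq_true]
    intro x hx
    obtain ⟨y, hy, hye⟩ := hn.1 (e x) ⟨x, h4 x hx, rfl⟩
    have hx1 := lt_sixteen (h4 x hx)
    have : y = cjC d x := M.inj _ _ (lt_sixteen hy) (M.cj hd hx1).1 (hye.trans (M.cj hd hx1).2.symm)
    rw [List.contains_iff_mem, ← this]; exact hy
  rw [hall] at h
  simpa using h

theorem conj_ne_one {x n : G} (h : x ≠ 1) : n * x * n⁻¹ ≠ 1 := fun e => h (conj_eq_one_iff.mp e)

theorem invol_mem {g : G} (hg : g ∈ E16 M) (h1 : g ≠ 1) : g * g = 1 := by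
  obtain ⟨a, ha, rfl⟩ := hg
  rw [← M.mul _ _ (lt_sixteen ha) (lt_sixteen ha), (mem_sixteen ha).2.2.2.2.1, M.one]

theorem z_ne : z ≠ 1 := fun h => by
  have := M.inj 60 0 (by norm_num) (by norm_num) (by rw [M.ez, M.one, h])
  omega

theorem fusion (hone : OneClass G) {g : G} (hg : g ∈ E16 M) (h1 : g ≠ 1) :
    ∃ n ∈ N16 M, n * z * n⁻¹ = g := by
  obtain ⟨t, ht⟩ := isConj_iff.mp (hone z g (by rw [← M.ez, ← M.mul _ _ (by norm_num) (by norm_num),
    show mulC 60 60 = 0 by decide +kernel, M.one]) (z_ne M K) (invol_mem M K hg h1) h1)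
  -- the group conjugated into the centraliser
  have hcomm : ∀ a ∈ E16 M, ∀ b ∈ E16 M, Commute a b := by
    rintro _ ⟨a, ha, rfl⟩ _ ⟨b, hb, rfl⟩
    exact M.comm (lt_sixteen ha) (lt_sixteen hb) ((mem_sixteen ha).2.2.2.2.2.2 b hb).2
  have hin : ∀ a ∈ sixteen, ∃ b, b < 1920 ∧ e b = t⁻¹ * e a * t := fun a ha => by
    refine M.surj _ ?_
    have h := (hcomm (e a) ⟨a, ha, rfl⟩ g hg).map (MulAut.conj t⁻¹).toMonoidHom
    rw [← ht] at h
    simpa [mul_assoc] using h
  choose f hf hfe using hin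
  have hff : ∀ a ha, mulC (f a ha) (f a ha) = 0 := fun a ha =>
    M.inj _ _ (mulC_lt (hf a ha) (hf a ha)) (by norm_num) (by
      rw [M.mul _ _ (hf a ha) (hf a ha), hfe]
      calc t⁻¹ * e a * t * (t⁻¹ * e a * t) = t⁻¹ * (e a * e a) * t := by group
        _ = e 0 := by
          rw [← M.mul _ _ (lt_sixteen ha) (lt_sixteen ha), (mem_sixteen ha).2.2.2.2.1, M.one]; simp)
  obtain ⟨a0, ha0, hout⟩ : ∃ a, ∃ ha : a ∈ sixteen, f a ha % 60 ≠ 0 := by
    by_contra hno
    push Not at hno
    let F : sixteen.toFinset → ((List.range 32).filter fun q => mulC (60 * q) (60 * q) == 0).toFinset :=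
      fun a => ⟨f a.1 (List.mem_toFinset.mp a.2) / 60, by
        have h0 := hno a.1 (List.mem_toFinset.mp a.2)
        have h1 := hf a.1 (List.mem_toFinset.mp a.2)
        have h2 := hff a.1 (List.mem_toFinset.mp a.2)
        simp only [List.mem_toFinset, List.mem_filter, List.mem_range, beq_iff_eq]
        refine ⟨by omega, ?_⟩
        rw [show 60 * (f a.1 (List.mem_toFinset.mp a.2) / 60) = f a.1 (List.mem_toFinset.mp a.2) by omega]
        exact h2⟩
    have hinj : Function.Injective F := fun a b hab => by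
      have h0 := congrArg Subtype.val hab
      have ea := hno a.1 (List.mem_toFinset.mp a.2)
      have eb := hno b.1 (List.mem_toFinset.mp b.2)
      simp only [F] at h0
      have heq : f a.1 (List.mem_toFinset.mp a.2) = f b.1 (List.mem_toFinset.mp b.2) := by omega
      have := (hfe a.1 (List.mem_toFinset.mp a.2)).symm.trans ((congrArg e heq).trans (hfe b.1 _))
      exact Subtype.ext (M.inj _ _ (lt_sixteen (List.mem_toFinset.mp a.2))
        (lt_sixteen (List.mem_toFinset.mp b.2)) (mul_left_cancel (mul_right_cancel this)))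
    have hle := Fintype.card_le_of_injective F hinj
    rw [Fintype.card_coe, Fintype.card_coe, List.toFinset_card_of_nodup sixteen_facts.2.1,
      sixteen_facts.2.2] at hle
    have := List.toFinset_card_le ((List.range 32).filter fun q => mulC (60 * q) (60 * q) == 0)
    rw [invol_inside] at this
    omega
  have hb := List.all_eq_true.mp invol_outside (f a0 ha0) (List.mem_range.mpr (hf a0 ha0))
  simp only [hff a0 ha0, beq_self_eq_true, Bool.true_and, beq_eq_false_iff_ne.mpr hout, Bool.not_false,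
    Bool.not_true, Bool.false_or, List.any_eq_true, List.mem_range, beq_iff_eq] at hb
  obtain ⟨b, hb1, hbe⟩ := hb
  have h13 : e b * (t⁻¹ * e a0 * t) * (e b)⁻¹ = e 13 := by
    rw [← hfe a0 ha0, ← (M.cj hb1 (hf a0 ha0)).2, hbe]
  refine ⟨(e b * t⁻¹)⁻¹, inv_mem (mem_N16 M K fun x hx => ?_), ?_⟩
  · obtain ⟨a, ha, rfl⟩ := hx
    refine ⟨cjC b (f a ha), ?_, by rw [(M.cj hb1 (hf a ha)).2, hfe]; group⟩
    have hc : Commute (e (cjC b (f a ha))) (e 13) := by
      rw [(M.cj hb1 (hf a ha)).2, hfe, ← h13]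
      have h := (hcomm (e a) ⟨a, ha, rfl⟩ (e a0) ⟨a0, ha0, rfl⟩).map (MulAut.conj (e b * t⁻¹)).toMonoidHom
      simpa [mul_assoc] using h
    have hl := (M.cj hb1 (hf a ha)).1
    have := List.all_eq_true.mp sixteen_self _ (List.mem_range.mpr hl)
    rw [M.inj (mulC (cjC b (f a ha)) 13) (mulC 13 (cjC b (f a ha))) (mulC_lt hl (by norm_num))
      (mulC_lt (by norm_num) hl)
      (by rw [M.mul _ _ hl (by norm_num), M.mul _ _ (by norm_num) hl, hc.eq])] at this
    simpa using this
  · calc (e b * t⁻¹)⁻¹ * z * (e b * t⁻¹)⁻¹⁻¹ = t * ((e b)⁻¹ * z * e b) * t⁻¹ := by group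
      _ = g := by rw [(M.comm_z hb1).inv_left.eq, mul_assoc z, inv_mul_cancel, mul_one, ht]

theorem bl_z_iff {y : G} : Bl M z y ↔ y = 1 ∨ y = z ∨ y = e 1800 ∨ y = e 1860 := by
  constructor
  · rintro ⟨⟨a, ha, rfl⟩, hc⟩
    have h : ∀ g, g < 1920 → phiC g < 1920 → mulC a g = mulC g a := fun g hg hg' =>
      M.inj _ _ (mulC_lt (lt_sixteen ha) hg) (mulC_lt hg (lt_sixteen ha)) (by
        rw [M.mul _ _ (lt_sixteen ha) hg, M.mul _ _ hg (lt_sixteen ha),
          (hc _ (dom_mem_N16 M K hg hg') (M.comm_z hg)).eq])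
    have := List.all_eq_true.mp block_z a ha
    simp only [h 15 (by norm_num) (by decide +kernel), h 1183 (by norm_num) (by decide +kernel),
      beq_self_eq_true, Bool.and_self, Bool.not_true, Bool.false_or, List.contains_iff_mem,
      List.mem_cons, List.not_mem_nil, or_false] at this
    rcases this with rfl | rfl | rfl | rfl
    · exact Or.inl M.one
    · exact Or.inr (Or.inl M.ez)
    · exact Or.inr (Or.inr (Or.inl rfl))
    · exact Or.inr (Or.inr (Or.inr rfl))
  · intro h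
    refine ⟨?_, fun m hm hmz => ?_⟩
    · rcases h with rfl | rfl | rfl | rfl
      · exact one_mem _
      · exact ⟨60, by decide, M.ez⟩
      · exact ⟨1800, by decide, rfl⟩
      · exact ⟨1860, by decide, rfl⟩
    · obtain ⟨d, hd, hd', rfl⟩ := N16_inter M K hm hmz
      rcases h with rfl | rfl | rfl | rfl
      · exact Commute.one_right _
      · exact hmz
      · exact M.comm_u hd hd'
      · rw [M.uz.1]; exact (M.comm_u hd hd').mul_right hmz

theorem bl_w {y : G} (h : Bl M (e 13) y) : y = 1 ∨ y = e 13 ∨ y = e 43 ∨ y = e 30 := by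
  obtain ⟨⟨a, ha, rfl⟩, hc⟩ := h
  have hm : k * e 24 ∈ N16 M :=
    mul_mem (kap_mem_N16 M K) (dom_mem_N16 M K (by norm_num) (by decide +kernel))
  have hfix : Commute (k * e 24) (e 13) := by
    refine mul_inv_eq_iff_eq_mul.mp ?_
    calc k * e 24 * e 13 * (k * e 24)⁻¹ = k * (e 24 * e 13 * (e 24)⁻¹) * k⁻¹ := by group
      _ = k * e 30 * k⁻¹ := by
        rw [← (M.cj (show 24 < 1920 by norm_num) (show 13 < 1920 by norm_num)).2,
          show cjC 24 13 = 30 by decide +kernel]
      _ = _ := by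
        rw [K.kap.phi M (show 30 < 1920 by norm_num) (by decide +kernel), mul_inv_cancel_right,
          show phiC 30 = 13 by decide +kernel]
  have hb := List.all_eq_true.mp block_w a ha
  simp only [Bool.and_eq_true, decide_eq_true_eq] at hb
  have h24 := M.cj (show 24 < 1920 by norm_num) (lt_sixteen ha)
  have hp : phiC (cjC 24 a) < 1920 := by
    have : sixteen.all (fun a => decide (phiC (cjC 24 a) < 1920)) = true := by decide +kernel
    simpa using List.all_eq_true.mp this a ha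
  have heq : phiC (cjC 24 a) = a := by
    refine M.inj _ _ hp (lt_sixteen ha) ?_
    have h := (hc _ hm hfix).eq
    rw [show e (phiC (cjC 24 a)) = k * e (cjC 24 a) * k⁻¹ by
      rw [K.kap.phi M h24.1 hp, mul_inv_cancel_right], h24.2]
    calc k * (e 24 * e a * (e 24)⁻¹) * k⁻¹ = k * e 24 * e a * (k * e 24)⁻¹ := by group
      _ = e a := by rw [h, mul_inv_cancel_right]
  have h2 := hb.2
  simp only [heq, beq_self_eq_true, Bool.not_true, Bool.false_or, List.contains_iff_mem,
    List.mem_cons, List.not_mem_nil, or_false] at h2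
  rcases h2 with rfl | rfl | rfl | rfl
  · exact Or.inl M.one
  · exact Or.inr (Or.inl rfl)
  · exact Or.inr (Or.inr (Or.inl rfl))
  · exact Or.inr (Or.inr (Or.inr rfl))

theorem kap_block (hone : OneClass G) {x : G} (hx : x ∈ E16 M) : Bl M x (k * x * k⁻¹) := by
  have hk := kap_mem_N16 M K
  have r := K.kap.rot
  have hV : ∀ x, x = z ∨ x = e 1800 ∨ x = e 1860 → Bl M x (k * x * k⁻¹) := by
    have b1 : Bl M z (k * z * k⁻¹) := (bl_z_iff M K).mpr (Or.inr (Or.inr (Or.inl r.dz)))
    have b2 : Bl M (e 1800) (k * e 1800 * k⁻¹) := by have := b1.conj hk; rwa [r.dz] at this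
    have b3 : Bl M (e 1860) (k * e 1860 * k⁻¹) := by have := b2.conj hk; rwa [r.du] at this
    rintro x (rfl | rfl | rfl)
    exacts [b1, b2, b3]
  obtain ⟨n, hn, hnz⟩ := fusion M K hone (g := e 13) ⟨13, by decide, rfl⟩ (fun h => by
    have := M.inj 13 0 (by norm_num) (by norm_num) (by rw [M.one, h])
    omega)
  have hb43 : Bl M (e 13) (e 43) := by
    have hu := ((bl_z_iff M K).mpr (Or.inr (Or.inr (Or.inl rfl))) : Bl M z (e 1800)).conj hn
    have huz := ((bl_z_iff M K).mpr (Or.inr (Or.inr (Or.inr rfl))) : Bl M z (e 1860)).conj hn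
    rw [hnz] at hu huz
    have hne1 : ∀ a, a < 1920 → a ≠ 0 → n * e a * n⁻¹ ≠ 1 := fun a ha h0 => conj_ne_one M K fun h =>
      h0 (M.inj _ _ ha (by norm_num) (h.trans M.one.symm))
    have hne13 : ∀ a, a < 1920 → a ≠ 60 → n * e a * n⁻¹ ≠ e 13 := fun a ha h0 h => by
      rw [← hnz] at h
      exact h0 (M.inj _ _ ha (by norm_num) ((mul_left_cancel (mul_right_cancel h)).trans M.ez.symm))
    rcases bl_w M K hu with h | h | h | h
    · exact absurd h (hne1 _ (by norm_num) (by norm_num))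
    · exact absurd h (hne13 _ (by norm_num) (by norm_num))
    · rw [h] at hu; exact hu
    · have h2 : n * e 1860 * n⁻¹ = e 43 := by
        calc n * e 1860 * n⁻¹ = (n * e 1800 * n⁻¹) * (n * z * n⁻¹) := by rw [M.uz.1]; group
          _ = _ := by
            rw [h, hnz, ← M.mul _ _ (by norm_num) (by norm_num), show mulC 30 13 = 43 by decide +kernel]
      rw [h2] at huz; exact huz
  have hW : ∀ w ∈ [13, 43, 30], Bl M (e w) (k * e w * k⁻¹) := by
    have b1 : Bl M (e 13) (k * e 13 * k⁻¹) := by rw [K.kap.kw]; exact hb43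
    have b2 : Bl M (e 43) (k * e 43 * k⁻¹) := by have := b1.conj hk; rwa [K.kap.kw] at this
    have h43 : k * e 43 * k⁻¹ = e 30 := by
      rw [K.kap.phi M (show 43 < 1920 by norm_num) (by decide +kernel), mul_inv_cancel_right,
        show phiC 43 = 30 by decide +kernel]
    have b3 : Bl M (e 30) (k * e 30 * k⁻¹) := by have := b2.conj hk; rwa [h43] at this
    intro w hw
    simp only [List.mem_cons, List.not_mem_nil, or_false] at hw
    rcases hw with rfl | rfl | rfl
    exacts [b1, b2, b3]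
  obtain ⟨a, ha, rfl⟩ := hx
  have hc := List.all_eq_true.mp block_cover a ha
  simp only [Bool.or_eq_true, List.contains_iff_mem, List.any_eq_true, beq_iff_eq, List.mem_cons,
    List.not_mem_nil, or_false] at hc
  rcases hc with hc | ⟨t, ht, w, hw, hwe⟩
  · rcases hc with rfl | rfl | rfl | rfl
    · rw [M.one]; simp only [mul_one, mul_inv_cancel]; exact ⟨one_mem _, fun m _ _ => Commute.one_right m⟩
    · rw [M.ez]; exact hV _ (Or.inl rfl)
    · exact hV _ (Or.inr (Or.inl rfl))
    · exact hV _ (Or.inr (Or.inr rfl))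
  · have ht' : ∀ t ∈ [0, 1183, 1290, 1513], t < 1920 ∧ phiC t = t := by decide +kernel
    have ht'' := ht' t (by simpa [transl] using ht)
    have hw1 : w < 1920 := by
      have : ∀ w ∈ [13, 43, 30], w < 1920 := by decide
      exact this w (by simpa using hw)
    have hcom : k * e t = e t * k := by
      have := K.kap.phi M ht''.1 (by rw [ht''.2]; exact ht''.1)
      rwa [ht''.2] at this
    have hb := (hW w (by simpa using hw)).conj (dom_mem_N16 M K ht''.1 (by rw [ht''.2]; exact ht''.1))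
    rw [← (M.cj ht''.1 hw1).2, hwe] at hb
    have : e t * (k * e w * k⁻¹) * (e t)⁻¹ = k * e a * k⁻¹ := by
      calc e t * (k * e w * k⁻¹) * (e t)⁻¹ = (e t * k) * e w * (e t * k)⁻¹ := by group
        _ = (k * e t) * e w * (k * e t)⁻¹ := by rw [hcom]
        _ = _ := by rw [← hwe, (M.cj ht''.1 hw1).2]; group
    rwa [this] at hb

theorem conj_kappa (hone : OneClass G) {n : G} (hn : n ∈ N16 M) :
    ∃ d ∈ sixteen, n * k * n⁻¹ = k * e d ∨ n * k * n⁻¹ = k⁻¹ * e d := by
  set r := n * k * n⁻¹ with hr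
  have hk := kap_mem_N16 M K
  have hrN : r ∈ N16 M := mul_mem (mul_mem hn hk) (inv_mem hn)
  have hrb : ∀ y ∈ E16 M, Bl M y (r * y * r⁻¹) := fun y hy => by
    have := (kap_block M K hone (hn.2 y hy)).conj hn
    have e1 : n * (n⁻¹ * y * n) * n⁻¹ = y := by group
    have e2 : n * (k * (n⁻¹ * y * n) * k⁻¹) * n⁻¹ = r * y * r⁻¹ := by rw [hr]; group
    rwa [e1, e2] at this
  have hrz : r * z * r⁻¹ ≠ z := by
    intro h
    have hx := hn.2 z ⟨60, by decide, M.ez⟩
    obtain ⟨a, ha, hae⟩ := hx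
    have hfix : phiC a = a := by
      refine M.inj _ _ (mem_sixteen ha).2.1 (lt_sixteen ha) ?_
      calc e (phiC a) = k * e a * k⁻¹ := by
            rw [K.kap.phi M (lt_sixteen ha) (mem_sixteen ha).2.1, mul_inv_cancel_right]
        _ = n⁻¹ * (r * z * r⁻¹) * n := by rw [hae, hr]; group
        _ = e a := by rw [h, hae]
    rw [(mem_sixteen ha).2.2.2.2.2.1 hfix, M.one] at hae
    exact z_ne M K (by
      calc z = n * (n⁻¹ * z * n) * n⁻¹ := by group
        _ = 1 := by rw [← hae]; simp)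
  have kz := K.kap.rot
  have finish : ∀ s : G, s ∈ N16 M →
      (∀ w ∈ [13, 43, 30], ∃ w' ∈ [13, 43, 30], s * e w * s⁻¹ = e w') →
      Commute s (e 1183) → Commute (s * r) z → ∃ d ∈ sixteen, s * r = e d := by
    intro s hs hsW hsv hsz
    obtain ⟨d, hd, hd', hde⟩ := N16_inter M K (mul_mem hs hrN) hsz
    refine ⟨d, ?_, hde.symm⟩
    have hlt : ∀ w ∈ [13, 43, 30], w < 1920 := by decide
    have hpick : ∀ y : G, (y = 1 ∨ y = e 13 ∨ y = e 43 ∨ y = e 30) → y ≠ 1 → ∃ w ∈ [13, 43, 30], y = e w := by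
      rintro y (h | h | h | h) h1
      exacts [absurd h h1, ⟨13, by decide, h⟩, ⟨43, by decide, h⟩, ⟨30, by decide, h⟩]
    have h13ne : e 13 ≠ 1 := fun h0 => by
      have := M.inj 13 0 (by norm_num) (by norm_num) (h0.trans M.one.symm)
      omega
    have hw : cjC d 13 ∈ [13, 43, 30] := by
      obtain ⟨w, hw0, h⟩ := hpick _ (bl_w M K (hrb (e 13) ⟨13, by decide, rfl⟩)) (conj_ne_one M K h13ne)
      obtain ⟨w', hw', he⟩ := hsW w hw0
      have he2 : e (cjC d 13) = e w' := by
        calc e (cjC d 13) = s * (r * e 13 * r⁻¹) * s⁻¹ := by rw [(M.cj hd (by norm_num)).2, hde]; group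
          _ = e w' := by rw [h, he]
      rw [M.inj _ _ (M.cj hd (by norm_num)).1 (hlt w' hw') he2]; exact hw'
    have h1873 : e 1873 = e 1183 * e 13 * (e 1183)⁻¹ := by
      rw [← (M.cj (show 1183 < 1920 by norm_num) (show 13 < 1920 by norm_num)).2,
        show cjC 1183 13 = 1873 by decide +kernel]
    have hw2 : cjC d 1873 ∈ [1873, 103, 1830] := by
      rw [block_translate, List.mem_map]
      have hbb := hrb (e 1873) ⟨1873, by decide, rfl⟩
      rw [h1873] at hbb
      have hb' := hbb.conj (inv_mem (dom_mem_N16 M K (show 1183 < 1920 by norm_num) (by decide +kernel)))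
      have e1 : (e 1183)⁻¹ * (e 1183 * e 13 * (e 1183)⁻¹) * (e 1183)⁻¹⁻¹ = e 13 := by group
      rw [e1] at hb'
      set X := (e 1183)⁻¹ * (r * (e 1183 * e 13 * (e 1183)⁻¹) * r⁻¹) * (e 1183)⁻¹⁻¹ with hX
      obtain ⟨w, hw0, h⟩ := hpick _ (bl_w M K hb') (conj_ne_one M K (conj_ne_one M K (conj_ne_one M K h13ne)))
      obtain ⟨w', hw', he⟩ := hsW w hw0
      refine ⟨w', hw', ?_⟩
      refine M.inj _ _ (M.cj (by norm_num) (hlt w' hw')).1 (M.cj hd (by norm_num)).1 ?_
      rw [(M.cj (by norm_num) (hlt w' hw')).2, (M.cj hd (by norm_num)).2, hde, h1873]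
      calc e 1183 * e w' * (e 1183)⁻¹ = e 1183 * (s * X * s⁻¹) * (e 1183)⁻¹ := by rw [h, he]
        _ = (e 1183 * s) * X * (e 1183 * s)⁻¹ := by group
        _ = (s * e 1183) * X * (s * e 1183)⁻¹ := by rw [hsv.eq]
        _ = _ := by rw [hX]; group
    have := List.all_eq_true.mp block_kernel d (mem_dom hd hd')
    rw [List.contains_iff_mem.mpr hw, List.contains_iff_mem.mpr hw2] at this
    simpa using this
  have hk3 := K.kap.cube M
  have hkW : ∀ w ∈ [13, 43, 30], ∃ w' ∈ [13, 43, 30], k * e w * k⁻¹ = e w' := by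
    intro w hw
    have hall : ∀ w ∈ [13, 43, 30], w < 1920 ∧ phiC w < 1920 ∧ phiC w ∈ [13, 43, 30] := by decide +kernel
    obtain ⟨h1, h2, h3⟩ := hall w hw
    exact ⟨phiC w, h3, by rw [K.kap.phi M h1 h2, mul_inv_cancel_right]⟩
  have hkv : Commute k (e 1183) := mul_inv_eq_iff_eq_mul.mp K.kap.kv
  have hkk : k * k = k⁻¹ := eq_inv_of_mul_eq_one_left hk3
  obtain h | h | h | h := (bl_z_iff M K).mp (hrb z ⟨60, by decide, M.ez⟩)
  · exact absurd h (conj_ne_one M K (z_ne M K))
  · exact absurd h hrz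
  · have hki : k⁻¹ * e 1800 * k = z := by rw [← kz.dz]; group
    obtain ⟨d, hd, hde⟩ := finish k⁻¹ (inv_mem hk) (fun w hw => by
        obtain ⟨w1, hw1, he1⟩ := hkW w hw
        obtain ⟨w2, hw2, he2⟩ := hkW w1 hw1
        refine ⟨w2, hw2, ?_⟩
        rw [← hkk]
        calc k * k * e w * (k * k)⁻¹ = k * (k * e w * k⁻¹) * k⁻¹ := by group
          _ = e w2 := by rw [he1, he2]) hkv.inv_left
      (mul_inv_eq_iff_eq_mul.mp (by
        calc k⁻¹ * r * z * (k⁻¹ * r)⁻¹ = k⁻¹ * (r * z * r⁻¹) * k := by group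
          _ = z := by rw [h, hki]))
    exact ⟨d, hd, Or.inl (by rw [← hde]; group)⟩
  · obtain ⟨d, hd, hde⟩ := finish k hk hkW hkv (mul_inv_eq_iff_eq_mul.mp (by
        calc k * r * z * (k * r)⁻¹ = k * (r * z * r⁻¹) * k⁻¹ := by group
          _ = z := by rw [h, kz.duz]))
    exact ⟨d, hd, Or.inr (by rw [← hde]; group)⟩

/-- The normaliser of `⟨κ⟩` in the normaliser of the group of order 16. -/
def NK : Subgroup G where
  carrier := {n | n ∈ N16 M ∧ (n * k * n⁻¹ = k ∨ n * k * n⁻¹ = k⁻¹)}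
  one_mem' := ⟨one_mem _, Or.inl (by simp)⟩
  mul_mem' := fun {a b} ha hb => by
    refine ⟨mul_mem ha.1 hb.1, ?_⟩
    have e1 : a * b * k * (a * b)⁻¹ = a * (b * k * b⁻¹) * a⁻¹ := by group
    have e2 : a * k⁻¹ * a⁻¹ = (a * k * a⁻¹)⁻¹ := by group
    rcases ha.2 with h | h <;> rcases hb.2 with h' | h' <;> rw [e1, h']
    · exact Or.inl h
    · exact Or.inr (by rw [e2, h])
    · exact Or.inr h
    · exact Or.inl (by rw [e2, h, inv_inv])
  inv_mem' := fun {a} ha => by
    refine ⟨inv_mem ha.1, ?_⟩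
    rcases ha.2 with h | h
    · left
      calc a⁻¹ * k * a⁻¹⁻¹ = a⁻¹ * (a * k * a⁻¹) * a := by rw [h]; group
        _ = k := by group
    · right
      calc a⁻¹ * k * a⁻¹⁻¹ = (a⁻¹ * (a * k * a⁻¹) * a)⁻¹ := by rw [h]; group
        _ = k⁻¹ := by group

theorem card_NK (hone : OneClass G) : Nat.card (NK (k := k) M) = 180 := by
  classical
  have hcard16 : Nat.card (E16 M) = 16 := by
    refine (Nat.card_congr (Equiv.ofBijective
      (fun a : sixteen.toFinset => (⟨e a, a, List.mem_toFinset.mp a.2, rfl⟩ : E16 M)) ⟨?_, ?_⟩)).symm.trans ?_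
    · intro a b h
      exact Subtype.ext (M.inj _ _ (lt_sixteen (List.mem_toFinset.mp a.2))
        (lt_sixteen (List.mem_toFinset.mp b.2)) (congrArg Subtype.val h))
    · rintro ⟨g, a, ha, rfl⟩
      exact ⟨⟨a, List.mem_toFinset.mpr ha⟩, rfl⟩
    · rw [Nat.card_eq_fintype_card, Fintype.card_coe, List.toFinset_card_of_nodup sixteen_facts.2.1,
        sixteen_facts.2.2]
  have hdomlt : ∀ d : (domList.map Prod.fst).toFinset, (d : Nat) < 1920 ∧ phiC d < 1920 := fun d => by
    have : (domList.map Prod.fst).all (fun a => decide (a < 1920) && decide (phiC a < 1920)) = true := by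
      decide +kernel
    simpa using List.all_eq_true.mp this d (List.mem_toFinset.mp d.2)
  choose nx hnx hnxe using fun x : {x : E16 M // x ≠ 1} =>
    fusion M K hone x.1.2 (fun h => x.2 (Subtype.ext h))
  have hN : Nat.card (N16 M) = 15 * 192 := by
    let F : {x : E16 M // x ≠ 1} × (domList.map Prod.fst).toFinset → N16 M := fun p =>
      ⟨nx p.1 * e p.2, mul_mem (hnx p.1) (dom_mem_N16 M K (hdomlt p.2).1 (hdomlt p.2).2)⟩
    have hFz : ∀ p, (F p : G) * z * (F p : G)⁻¹ = ((p.1.1 : E16 M) : G) := fun p => by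
      show nx p.1 * e p.2 * z * (nx p.1 * e p.2)⁻¹ = _
      rw [mul_assoc (nx p.1), (M.comm_z (hdomlt p.2).1).eq, ← hnxe p.1]
      group
    have hbij : Function.Bijective F := by
      refine ⟨fun p q h => ?_, fun n => ?_⟩
      · have h1 : p.1 = q.1 := Subtype.ext (Subtype.ext (by rw [← hFz p, ← hFz q, h]))
        have h2 := congrArg Subtype.val h
        simp only [F, h1, mul_right_inj] at h2
        exact Prod.ext h1 (Subtype.ext (M.inj _ _ (hdomlt p.2).1 (hdomlt q.2).1 h2))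
      · let x : E16 M := ⟨(n : G) * z * (n : G)⁻¹, n.2.1 _ ⟨60, by decide, M.ez⟩⟩
        have hx : x ≠ 1 := fun h => conj_ne_one M K (z_ne M K) (congrArg Subtype.val h)
        have hc : Commute ((nx ⟨x, hx⟩)⁻¹ * n) z := by
          refine mul_inv_eq_iff_eq_mul.mp ?_
          have := hnxe ⟨x, hx⟩
          calc (nx ⟨x, hx⟩)⁻¹ * n * z * ((nx ⟨x, hx⟩)⁻¹ * n)⁻¹
              = (nx ⟨x, hx⟩)⁻¹ * ((x : G)) * nx ⟨x, hx⟩ := by simp only [x]; group
            _ = z := by rw [← this]; group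
        obtain ⟨d, hd, hd', hde⟩ := N16_inter M K (mul_mem (inv_mem (hnx ⟨x, hx⟩)) n.2) hc
        refine ⟨(⟨x, hx⟩, ⟨d, List.mem_toFinset.mpr (mem_dom hd hd')⟩), Subtype.ext ?_⟩
        show nx ⟨x, hx⟩ * e d = n
        rw [hde, mul_inv_cancel_left]
    rw [← Nat.card_congr (Equiv.ofBijective F hbij), Nat.card_prod]
    congr 1
    · haveI := Fintype.ofFinite (E16 M)
      rw [Nat.card_eq_fintype_card, Fintype.card_subtype_compl, ← Nat.card_eq_fintype_card, hcard16]
      simp
    · rw [Nat.card_eq_fintype_card, Fintype.card_coe,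
        List.toFinset_card_of_nodup (by decide +kernel), List.length_map, dom_length]
  let F : E16 M × NK (k := k) M → N16 M := fun p => ⟨(p.1 : G) * p.2, by
    obtain ⟨a, ha, hae⟩ := p.1.2
    exact mul_mem (hae ▸ dom_mem_N16 M K (lt_sixteen ha) (mem_sixteen ha).2.1) p.2.2.1⟩
  have hF : Function.Bijective F := by
    refine ⟨fun p q h => ?_, fun n => ?_⟩
    · have h2 : (q.1 : G)⁻¹ * p.1 = q.2 * (p.2 : G)⁻¹ := by
        have h0 : (p.1 : G) * p.2 = q.1 * q.2 := congrArg Subtype.val h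
        calc (q.1 : G)⁻¹ * p.1 = (q.1 : G)⁻¹ * (p.1 * p.2) * (p.2 : G)⁻¹ := by group
          _ = _ := by rw [h0]; group
      obtain ⟨a, ha, hae⟩ : (q.1 : G)⁻¹ * p.1 ∈ E16 M := mul_mem (inv_mem q.1.2) p.1.2
      have hak : e a ∈ NK (k := k) M := by rw [hae, h2]; exact mul_mem q.2.2 (inv_mem p.2.2)
      have ha1 := lt_sixteen ha
      have hi := (mem_sixteen ha).2.2.2.1
      have hprod : e a * k * (e a)⁻¹ * k⁻¹ = e (mulC a (phiC (invC a))) := by
        rw [M.mul _ _ ha1 (mem_sixteen hi).2.1, ← M.inv ha1, mul_assoc (e a) k,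
          K.kap.phi M (lt_sixteen hi) (mem_sixteen hi).2.1]
        group
      have h0 : a = 0 := by
        rcases hak.2 with hc | hc
        · have := List.all_eq_true.mp sixteen_fix_free a ha
          rw [M.inj (mulC a (phiC (invC a))) 0 (mulC_lt ha1 (mem_sixteen hi).2.1) (by norm_num)
            (by rw [← hprod, hc, mul_inv_cancel, M.one])] at this
          exact ((by simpa using this : phiInvC a < 1920 ∧ a = 0)).2
        · exfalso
          rw [hc] at hprod
          have hkk : Commute (k⁻¹ * k⁻¹) z := by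
            rw [hprod]; exact M.comm_z (mulC_lt ha1 (mem_sixteen hi).2.1)
          have hk1 : k⁻¹ * k⁻¹ = k := by
            have := K.kap.cube M
            calc k⁻¹ * k⁻¹ = k⁻¹ * k⁻¹ * (k * k * k) := by rw [this, mul_one]
              _ = k := by group
          rw [hk1] at hkk
          have hz2 := K.kap.rot.dz
          rw [hkk.eq, mul_inv_cancel_right, ← M.ez] at hz2
          have := M.inj _ _ (by norm_num) (by norm_num) hz2
          omega
      rw [h0, M.one] at hae
      have hp1 : (p.1 : G) = q.1 := (inv_mul_eq_one.mp hae.symm).symm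
      exact Prod.ext (Subtype.ext hp1) (Subtype.ext (by
        have h0 : (p.1 : G) * p.2 = q.1 * q.2 := congrArg Subtype.val h
        rw [hp1] at h0
        exact mul_left_cancel h0))
    · obtain ⟨d, hd, hde⟩ := conj_kappa M K hone n.2
      have ha := List.all_eq_true.mp sixteen_adjust d hd
      simp only [Bool.and_eq_true, List.any_eq_true, beq_iff_eq] at ha
      obtain ⟨⟨a, ha1, ha1e⟩, ⟨b, hb1, hb1e⟩⟩ := ha
      have hd1 := lt_sixteen hd
      rcases hde with hde | hde
      · have hbm := lt_sixteen hb1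
        have hbp : phiInvC b < 1920 := by
          have := List.all_eq_true.mp sixteen_fix_free b hb1
          simp only [Bool.and_eq_true, decide_eq_true_eq] at this
          exact this.1
        have hsys : k⁻¹ * e b = e (phiInvC b) * k⁻¹ := by
          have hp := phiInv_spec hbm hbp
          have := K.kap.phi M hbp (by rw [hp]; exact hbm)
          rw [hp] at this
          calc k⁻¹ * e b = k⁻¹ * (e b * k) * k⁻¹ := by group
            _ = k⁻¹ * (k * e (phiInvC b)) * k⁻¹ := by rw [this]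
            _ = _ := by group
        have hbb : e b * e b = 1 := by rw [← M.mul _ _ hbm hbm, (mem_sixteen hb1).2.2.2.2.1, M.one]
        have hz' : e (phiInvC b) * e d * e b = 1 := by
          rw [← M.mul _ _ hbp hd1, ← M.mul _ _ (mulC_lt hbp hd1) hbm, hb1e, M.one]
        refine ⟨(⟨e b, b, hb1, rfl⟩, ⟨e b * n, mul_mem (dom_mem_N16 M K hbm (mem_sixteen hb1).2.1) n.2,
          Or.inl ?_⟩), Subtype.ext (show e b * (e b * n) = (n : G) by rw [← mul_assoc, hbb, one_mul])⟩
        calc e b * n * k * (e b * n)⁻¹ = e b * (n * k * (n : G)⁻¹) * e b := by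
              rw [mul_inv_rev, inv_eq_of_mul_eq_one_right hbb]; group
          _ = k * (k⁻¹ * e b) * k * e d * e b := by rw [hde]; group
          _ = k * (e (phiInvC b) * e d * e b) := by rw [hsys]; group
          _ = k := by rw [hz', mul_one]
      · have ham := lt_sixteen ha1
        have hap := (mem_sixteen ha1).2.1
        have haa : e a * e a = 1 := by rw [← M.mul _ _ ham ham, (mem_sixteen ha1).2.2.2.2.1, M.one]
        have hz' : e (phiC a) * e d * e a = 1 := by
          rw [← M.mul _ _ hap hd1, ← M.mul _ _ (mulC_lt hap hd1) ham, ha1e, M.one]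
        refine ⟨(⟨e a, a, ha1, rfl⟩, ⟨e a * n, mul_mem (dom_mem_N16 M K ham hap) n.2, Or.inr ?_⟩),
          Subtype.ext (show e a * (e a * n) = (n : G) by rw [← mul_assoc, haa, one_mul])⟩
        calc e a * n * k * (e a * n)⁻¹ = e a * (n * k * (n : G)⁻¹) * e a := by
              rw [mul_inv_rev, inv_eq_of_mul_eq_one_right haa]; group
          _ = k⁻¹ * (k * e a) * k⁻¹ * e d * e a := by rw [hde]; group
          _ = k⁻¹ * (e (phiC a) * e d * e a) := by rw [K.kap.phi M ham hap]; group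
          _ = k⁻¹ := by rw [hz', mul_one]
  have h := Nat.card_congr (Equiv.ofBijective F hF)
  rw [Nat.card_prod, hcard16, hN] at h
  omega

theorem exists_five (hone : OneClass G) : ∃ f : G, Commute f k ∧ f ^ 5 = 1 ∧ f ≠ 1 := by
  haveI : Fact (Nat.Prime 5) := ⟨by norm_num⟩
  obtain ⟨⟨f, hf⟩, hfo⟩ := exists_prime_orderOf_dvd_card' (G := NK (k := k) M) 5
    (by rw [card_NK M K hone]; norm_num)
  rw [← Subgroup.orderOf_coe] at hfo
  have hf5 : f ^ 5 = 1 := by rw [← hfo]; exact pow_orderOf_eq_one f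
  have hf1 : f ≠ 1 := fun h => by
    have : orderOf f = 5 := hfo
    rw [h, orderOf_one] at this; omega
  refine ⟨f, ?_, hf5, hf1⟩
  rcases hf.2 with h | h
  · exact mul_inv_eq_iff_eq_mul.mp h
  exfalso
  have h2 : f ^ 5 * k * (f ^ 5)⁻¹ = k⁻¹ := by
    have e2 : ∀ x : G, f * x⁻¹ * f⁻¹ = (f * x * f⁻¹)⁻¹ := fun x => by group
    calc f ^ 5 * k * (f ^ 5)⁻¹ = f * (f * (f * (f * (f * k * f⁻¹) * f⁻¹) * f⁻¹) * f⁻¹) * f⁻¹ := by
          simp only [pow_succ, pow_zero, one_mul, mul_inv_rev, mul_assoc]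
      _ = k⁻¹ := by simp only [h, e2, inv_inv]
  rw [hf5, one_mul, inv_one, mul_one] at h2
  have h3 := K.kap.cube M
  have hk1 : k = 1 := by
    have : k * k = 1 := by nth_rewrite 1 [h2]; simp
    rwa [this, one_mul] at h3
  have hz := K.kap.rot.dz
  rw [hk1, one_mul, inv_one, mul_one, ← M.ez] at hz
  have := M.inj _ _ (by norm_num) (by norm_num) hz
  omega

theorem kappa_conj (hone : OneClass G) : ∃ a : G, a * k * a⁻¹ = e 15 ∨ a * k⁻¹ * a⁻¹ = e 15 := by
  have f : mulC 1183 1183 = 0 := by decide +kernel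
  obtain ⟨t, ht⟩ := isConj_iff.mp (hone (e 1183) z
    (by rw [← M.mul _ _ (by norm_num) (by norm_num), f, M.one])
    (fun h => by have := M.inj 1183 0 (by norm_num) (by norm_num) (h.trans M.one.symm); omega)
    M.uz.2.1 (z_ne M K))
  have hc : Commute (t * k * t⁻¹) z := by
    rw [← ht]
    have := (show Commute k (e 1183) from mul_inv_eq_iff_eq_mul.mp K.kap.kv).map (MulAut.conj t).toMonoidHom
    simpa using this
  obtain ⟨x, hx, hxe⟩ := M.surj _ hc
  have h3 := K.kap.cube M
  have hx3 : mulC x (mulC x x) = 0 := M.inj _ _ (mulC_lt hx (mulC_lt hx hx)) (by norm_num) (by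
    rw [M.mul _ _ hx (mulC_lt hx hx), M.mul _ _ hx hx, hxe, M.one]
    calc t * k * t⁻¹ * (t * k * t⁻¹ * (t * k * t⁻¹)) = t * (k * k * k) * t⁻¹ := by group
      _ = 1 := by rw [h3]; simp)
  have hx0 : x ≠ 0 := by
    intro h
    rw [h, M.one] at hxe
    have hz := K.kap.rot.dz
    rw [conj_eq_one_iff.mp hxe.symm, one_mul, inv_one, mul_one, ← M.ez] at hz
    have := M.inj _ _ (by norm_num) (by norm_num) hz
    omega
  have h := List.all_eq_true.mp three_class x (List.mem_range.mpr hx)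
  simp only [hx3, beq_self_eq_true, Bool.true_and, beq_eq_false_iff_ne.mpr hx0, Bool.not_false,
    Bool.not_true, Bool.false_or, List.any_eq_true, List.mem_range, Bool.or_eq_true, beq_iff_eq] at h
  obtain ⟨a, ha, hax⟩ := h
  refine ⟨e a * t, ?_⟩
  have hcj : e a * t * k * (e a * t)⁻¹ = e (cjC a x) := by rw [(M.cj ha hx).2, hxe]; group
  rcases hax with h | h
  · exact Or.inl (by rw [hcj, h])
  · right
    have : e a * t * k⁻¹ * (e a * t)⁻¹ = (e a * t * k * (e a * t)⁻¹)⁻¹ := by group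
    rw [this, hcj, h, ← M.inv (by norm_num), show invC 24 = 15 by decide +kernel]

end

end H36.J3U
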