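import Cfsg.Agent.H36.J3U.Inst
import Cfsg.Agent.H1.J3.Top

/-!
Recognition of `J₃` by an involution centraliser and the single class of involutions.
-/

set_option autoImplicit false
set_option maxRecDepth 100000
set_option synthInstance.maxSize 4000
set_option synthInstance.maxHeartbeats 200000

namespace H36.J3U

section

variable {G : Type*} [Group G] {z : G} {e : Nat → G} {k : G}

theorem card_cent (M : Mdl z e) : Nat.card (Subgroup.centralizer ({z} : Set G)) = 1920 := by
  refine (Nat.card_congr (Equiv.ofBijective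
    (fun a : Fin 1920 => (⟨e a, Subgroup.mem_centralizer_singleton_iff.mpr (M.comm_z a.isLt).eq⟩ :
      Subgroup.centralizer ({z} : Set G))) ⟨?_, ?_⟩)).symm.trans (Nat.card_fin 1920)
  · intro a b h
    exact Fin.ext (M.inj _ _ a.isLt b.isLt (congrArg Subtype.val h))
  · rintro ⟨g, hg⟩
    obtain ⟨a, ha, rfl⟩ := M.surj g (Subgroup.mem_centralizer_singleton_iff.mp hg)
    exact ⟨⟨a, ha⟩, rfl⟩

theorem card_Kc [Finite G] (M : Mdl z e) (K : Kappa z e k) (hone : OneClass G) : Nat.card (Kc e) = 1080 := by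
  haveI : Fact (Nat.Prime 3) := ⟨by norm_num⟩
  obtain ⟨π, hπ, hker⟩ := exists_pi M K hone
  have hco : orderOf (cK e) = 3 := orderOf_eq_prime (Subtype.ext (by
    show e 15 ^ 3 = 1
    rw [pow_succ, pow_two, c_cube M])) (fun h => by
      have := M.inj 15 0 (by norm_num) (by norm_num) ((congrArg Subtype.val h).trans M.one.symm)
      omega)
  have h1 := (MonoidHom.ker π).index_mul_card
  have hk : MonoidHom.ker π = Zc e := Subgroup.ext fun x => hker x
  rw [Subgroup.index_ker, MonoidHom.range_eq_top_of_surjective π hπ, Subgroup.card_top, a6_card, hk,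
    Nat.card_zpowers, hco] at h1
  omega

theorem index_cases : ∀ n ∈ Nat.divisors 2907, n % 128 = 1 → n = 1 := by decide +kernel

theorem Mg_eq_top [Finite G] (M : Mdl z e) (K : Kappa z e k) (hone : OneClass G)
    (hcard : Nat.card G = 50232960) : Mg e k = ⊤ := by
  classical
  haveI : Fact (Nat.Prime 2) := ⟨Nat.prime_two⟩
  set N := Mg e k with hN
  have hC : Subgroup.centralizer ({z} : Set G) ≤ N := fun g hg =>
    cent_le_Mg M (Subgroup.mem_centralizer_singleton_iff.mp hg)
  have h1 := Subgroup.card_dvd_of_le hC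
  rw [card_cent M] at h1
  have h2 := Subgroup.card_dvd_of_le (Kc_le_Mg M K hone : Kc e ≤ N)
  rw [card_Kc M K hone] at h2
  have h3 : 17280 ∣ Nat.card N := by
    have := Nat.lcm_dvd h1 h2
    rwa [show Nat.lcm 1920 1080 = 17280 by norm_num] at this
  obtain ⟨m, hm⟩ := h3
  have hidx : N.index * Nat.card N = 50232960 := hcard ▸ N.index_mul_card
  have hn : N.index ∣ 2907 := ⟨m, by rw [hm] at hidx; linarith⟩
  -- a Sylow 2-subgroup acts semiregularly on the other cosets
  obtain ⟨S, hS⟩ := Sylow.exists_subgroup_card_pow_prime 2 (n := 7) (G := N)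
    (dvd_trans (by norm_num : 2 ^ 7 ∣ 1920) h1)
  letI : MulAction S {q : G ⧸ N // q ≠ ((1 : G) : G ⧸ N)} :=
    { smul := fun s q => ⟨((s : N) : G) • q.1, fun h => q.2 (by
        have h' : q.1 = (((s : N) : G))⁻¹ • ((1 : G) : G ⧸ N) := eq_inv_smul_iff.mpr h
        rw [h', MulAction.Quotient.smul_mk, QuotientGroup.eq]
        simpa using (s : N).2)⟩
      one_smul := fun q => Subtype.ext (one_smul _ _)
      mul_smul := fun s s' q => Subtype.ext (mul_smul _ _ _) }
  have hstab : ∀ q : {q : G ⧸ N // q ≠ ((1 : G) : G ⧸ N)}, MulAction.stabilizer S q = ⊥ := by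
    intro q
    rw [Subgroup.eq_bot_iff_forall]
    intro s hs
    by_contra hs1
    -- an involution in the stabiliser
    have hp : IsPGroup 2 S := IsPGroup.of_card hS
    have h2dvd : 2 ∣ orderOf s := by
      obtain ⟨j, hj⟩ := (IsPGroup.iff_orderOf.mp hp) s
      rw [hj]
      exact dvd_pow_self 2 (fun h => hs1 (orderOf_eq_one_iff.mp (by rw [hj, h, pow_zero])))
    set i := s ^ (orderOf s / 2) with hi
    have hio : orderOf i = 2 := orderOf_pow_orderOf_div (orderOf_pos s).ne' h2dvd
    have his : i ∈ MulAction.stabilizer S q := pow_mem hs _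
    obtain ⟨g, hg⟩ := QuotientGroup.mk_surjective q.1
    have hfix : ((i : N) : G) • q.1 = q.1 := congrArg Subtype.val (MulAction.mem_stabilizer_iff.mp his)
    rw [← hg, MulAction.Quotient.smul_mk, eq_comm, QuotientGroup.eq] at hfix
    simp only [smul_eq_mul] at hfix
    have hi2 : ((i : N) : G) * ((i : N) : G) = 1 := by
      have : i * i = 1 := by rw [← pow_two, ← hio, pow_orderOf_eq_one]
      exact congrArg (fun x : S => ((x : N) : G)) this
    have hi1 : ((i : N) : G) ≠ 1 := fun h => by
      have : i = 1 := Subtype.ext (Subtype.ext h)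
      rw [this, orderOf_one] at hio
      omega
    obtain ⟨a, ha, hae⟩ := oneClass_Mg M K hone (i : N).2 hi2 hi1
    obtain ⟨b, hb, hbe⟩ := oneClass_Mg M K hone (x := g⁻¹ * ((i : N) : G) * g)
      (by simpa [mul_assoc] using hfix)
      (by
        calc g⁻¹ * ((i : N) : G) * g * (g⁻¹ * ((i : N) : G) * g)
            = g⁻¹ * (((i : N) : G) * ((i : N) : G)) * g := by group
          _ = 1 := by rw [hi2]; group)
      (fun h => hi1 (by
        calc ((i : N) : G) = g * (g⁻¹ * ((i : N) : G) * g) * g⁻¹ := by group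
          _ = 1 := by rw [h]; group))
    have hc : Commute (a⁻¹ * g * b) z := mul_inv_eq_iff_eq_mul.mp (by
      calc a⁻¹ * g * b * z * (a⁻¹ * g * b)⁻¹ = a⁻¹ * g * (b * z * b⁻¹) * g⁻¹ * a := by group
        _ = a⁻¹ * (a * z * a⁻¹) * a := by rw [hbe, hae]; group
        _ = z := by group)
    have hgN : g ∈ N := by
      have := mul_mem (mul_mem ha (cent_le_Mg M hc : a⁻¹ * g * b ∈ N)) (inv_mem hb)
      simpa [mul_assoc] using this
    refine q.2 ?_
    rw [← hg, QuotientGroup.eq]
    simpa using inv_mem hgN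
  have hdvd : 128 ∣ Nat.card {q : G ⧸ N // q ≠ ((1 : G) : G ⧸ N)} := by
    haveI := Fintype.ofFinite {q : G ⧸ N // q ≠ ((1 : G) : G ⧸ N)}
    rw [Nat.card_congr (MulAction.selfEquivSigmaOrbitsQuotientStabilizer S _), Nat.card_sigma]
    refine Finset.dvd_sum fun o _ => ?_
    have h := (MulAction.stabilizer S o.out).index_mul_card
    rw [hstab, Subgroup.card_bot, mul_one, hS] at h
    rw [hstab, ← Subgroup.index_eq_card, h]; norm_num
  have hsum : Nat.card {q : G ⧸ N // q ≠ ((1 : G) : G ⧸ N)} + 1 = N.index := by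
    haveI := Fintype.ofFinite (G ⧸ N)
    rw [Subgroup.index_eq_card, Nat.card_eq_fintype_card, Nat.card_eq_fintype_card, Fintype.card_subtype_compl,
      Fintype.card_subtype_eq]
    have : 0 < Fintype.card (G ⧸ N) := Fintype.card_pos
    omega
  exact Subgroup.index_eq_one.mp (index_cases _ (Nat.mem_divisors.mpr ⟨hn, by norm_num⟩) (by omega))

theorem ev_map {G' : Type*} [Group G'] (φ : G →* G') {e' : Nat → G'} (he : ∀ a, a < 1920 → e' a = φ (e a))
    {k' : G'} (hk : k' = φ k) : ∀ R, ev e' k' R = φ (ev e k R) := by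
  intro R
  induction R with
  | nil => simp [ev]
  | cons s R ih =>
    rw [ev, ev, map_mul, ih]
    congr 1
    unfold stv
    split
    · exact he s (by assumption)
    · split
      · exact hk
      · rw [hk, map_inv]

theorem map_closure_pairs {G' : Type*} [Group G'] (φ : G →* G') :
    (Mg e k).map φ = Mg (fun a => φ (e a)) (φ k) := by
  rw [Mg, Mg, MonoidHom.map_closure, Set.image_union, Set.image_singleton, ← Set.image_comp]
  rfl

end

/-- Two groups with the same table system: the generated subgroup maps isomorphically. -/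
theorem Mg_equiv {G G' : Type*} [Group G] [Group G'] [Finite G] [Finite G'] [IsSimpleGroup G']
    {z : G} {e : Nat → G} {k : G} {z' : G'} {e' : Nat → G'} {k' : G'}
    (M : Mdl z e) (K : Kappa z e k) (S : Sys e k) (M' : Mdl z' e') (K' : Kappa z' e' k') (S' : Sys e' k')
    (hcard : Nat.card G' = 50232960) (htop : Mg e' k' = ⊤) : Nonempty (Mg e k ≃* G') := by
  classical
  let E : Nat → G × G' := fun a => (e a, e' a)
  set H : Subgroup (G × G') := Mg E (k, k') with hH
  have hfst : H.map (MonoidHom.fst G G') = Mg e k := map_closure_pairs _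
  have hsnd : H.map (MonoidHom.snd G G') = ⊤ := (map_closure_pairs _).trans htop
  -- the bound
  have hbound : Nat.card H ≤ 81 * 1920 * 1920 := by
    let EH : Nat → H := fun a => if h : a < 1920 then ⟨E a, e_mem_Mg h⟩ else 1
    let kH : H := ⟨(k, k'), k_mem_Mg⟩
    have hEH : ∀ a, a < 1920 → ((EH a : H) : G × G') = E a := fun a ha => by simp only [EH, dif_pos ha]
    have hS : Sys EH kH := by
      refine ⟨fun a b ha hb => Subtype.ext ?_, fun d hd hd' => Subtype.ext ?_, fun R hR => Subtype.ext ?_⟩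
      · rw [Subgroup.coe_mul, hEH _ (mulC_lt ha hb), hEH _ ha, hEH _ hb]
        exact Prod.ext (S.mul a b ha hb) (S'.mul a b ha hb)
      · rw [Subgroup.coe_mul, Subgroup.coe_mul, hEH _ hd, hEH _ hd']
        exact Prod.ext (S.phi d hd hd') (S'.phi d hd hd')
      · rw [show ((ev EH kH R : H) : G × G') = H.subtype (ev EH kH R) from rfl,
          ← ev_map H.subtype (e' := E) (fun a ha => (hEH a ha).symm) (k' := (k, k')) rfl R]
        exact Prod.ext ((ev_map (MonoidHom.fst G G') (fun _ _ => rfl) rfl R).symm.trans (S.rels R hR))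
          ((ev_map (MonoidHom.snd G G') (fun _ _ => rfl) rfl R).symm.trans (S'.rels R hR))
    refine hS.card_le ?_
    refine Subgroup.map_injective (Subgroup.subtype_injective H) ?_
    rw [MonoidHom.map_closure, ← MonoidHom.range_eq_map, Subgroup.range_subtype, Set.image_union,
      Set.image_singleton, ← Set.image_comp]
    exact congrArg (fun X => Subgroup.closure (X ∪ {(k, k')})) (Set.image_congr fun a ha => hEH a ha)
  -- the kernel of the first projection
  let N' : Subgroup G' := H.comap (MonoidHom.inr G G')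
  have hN'n : N'.Normal := ⟨fun y hy g => by
    obtain ⟨⟨x, g'⟩, hxg, hg⟩ := (hsnd ▸ Subgroup.mem_top g : g ∈ H.map (MonoidHom.snd G G'))
    have hg' : g' = g := hg
    subst hg'
    have hy' : ((1 : G), y) ∈ H := hy
    have := mul_mem (mul_mem hxg hy') (inv_mem hxg)
    show ((1 : G), g' * y * g'⁻¹) ∈ H
    simpa using this⟩
  have hN' : N' = ⊥ := by
    rcases hN'n.eq_bot_or_eq_top with h | h
    · exact h
    exfalso
    let f : Mg e k × G' → H := fun p => ⟨((p.1 : G), p.2), by
      obtain ⟨⟨x, y⟩, hxy, hx⟩ := ((le_of_eq hfst.symm) p.1.2 : (p.1 : G) ∈ H.map (MonoidHom.fst G G'))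
      have hx' : x = p.1 := hx
      have hy : ((1 : G), y⁻¹ * p.2) ∈ H := (le_of_eq h.symm) (Subgroup.mem_top (y⁻¹ * p.2))
      have := mul_mem hxy hy
      simpa [hx'] using this⟩
    have hf : Function.Injective f := fun p q hpq => by
      have h' := congrArg Subtype.val hpq
      exact Prod.ext (Subtype.ext (congrArg Prod.fst h' :)) (congrArg Prod.snd h' :)
    have hle := Nat.card_le_card_of_injective f hf
    rw [Nat.card_prod, hcard] at hle
    have h1920 : 1920 ≤ Nat.card (Mg e k) := by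
      rw [← card_cent M]
      exact Nat.le_of_dvd Nat.card_pos (Subgroup.card_dvd_of_le fun g hg =>
        cent_le_Mg M (Subgroup.mem_centralizer_singleton_iff.mp hg))
    nlinarith
  -- the kernel of the second projection
  have hker : ∀ x : G, (x, (1 : G')) ∈ H → x = 1 := by
    intro x hx
    have hfix : ∀ y : G, (y, (1 : G')) ∈ H → Commute y z → y = 1 := by
      intro y hy hc
      obtain ⟨a, ha, rfl⟩ := M.surj y hc
      have h2 : (e a, e' a) ∈ H := e_mem_Mg (e := E) ha
      have h3 : ((1 : G), e' a) ∈ H := by simpa using mul_mem (inv_mem hy) h2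
      have h4 : e' a = 1 := Subgroup.mem_bot.mp (hN' ▸ (h3 : e' a ∈ N'))
      rw [M'.inj a 0 ha (by norm_num) (h4.trans M'.one.symm), M.one]
    -- conjugation by a conjugate of `z` inverts
    have hinv : ∀ v : G, ∀ v' : G', (v, v') ∈ H → v * v = 1 →
        (∀ y : G, (y, (1 : G')) ∈ H → Commute y v → y = 1) → ∀ y : G, (y, (1 : G')) ∈ H → v * y * v = y⁻¹ := by
      intro v v' hv hvv hfixv y hy
      let N : Subgroup G := H.comap (MonoidHom.inl G G')
      have hvi : v⁻¹ = v := inv_eq_of_mul_eq_one_right hvv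
      have hNv : ∀ y ∈ N, v * y * v ∈ N := fun y hy => by
        have hy' : (y, (1 : G')) ∈ H := hy
        have := mul_mem (mul_mem hv hy') (inv_mem hv)
        show (v * y * v, (1 : G')) ∈ H
        simpa [hvi] using this
      let F : N → N := fun y => ⟨(y : G)⁻¹ * (v * y * v), mul_mem (inv_mem y.2) (hNv _ y.2)⟩
      have hF : Function.Injective F := by
        intro a b hab
        have h' : (a : G)⁻¹ * (v * a * v) = (b : G)⁻¹ * (v * b * v) := congrArg Subtype.val hab
        have hm : (b : G) * (a : G)⁻¹ ∈ N := mul_mem b.2 (inv_mem a.2)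
        have hc : Commute ((b : G) * (a : G)⁻¹) v := by
          show (b : G) * (a : G)⁻¹ * v = v * ((b : G) * (a : G)⁻¹)
          calc (b : G) * (a : G)⁻¹ * v = (b : G) * ((a : G)⁻¹ * (v * a * v)) * v⁻¹ * (a : G)⁻¹ := by group
            _ = (b : G) * ((b : G)⁻¹ * (v * b * v)) * v⁻¹ * (a : G)⁻¹ := by rw [h']
            _ = _ := by group
        exact Subtype.ext (mul_inv_eq_one.mp (hfixv _ hm hc)).symm
      obtain ⟨⟨a, ha⟩, hae⟩ := Finite.surjective_of_injective hF ⟨y, hy⟩
      have hae' : a⁻¹ * (v * a * v) = y := congrArg Subtype.val hae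
      rw [← hae']
      calc v * (a⁻¹ * (v * a * v)) * v = v * a⁻¹ * v * a * (v * v) := by group
        _ = (v * a * v)⁻¹ * a := by rw [hvv, mul_inv_rev, mul_inv_rev, hvi]; group
        _ = _ := by group
    obtain ⟨huz, hzz, huu, -, hcu, -⟩ := M.uz
    have hzH : (z, z') ∈ H := by
      have h := e_mem_Mg (e := E) (k := (k, k')) (show 60 < 1920 by norm_num)
      simp only [E, M.ez, M'.ez] at h
      exact h
    have hkH : (k, k') ∈ H := k_mem_Mg
    have hfixk : ∀ v : G, (∀ y : G, (y, (1 : G')) ∈ H → Commute y v → y = 1) →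
        ∀ y : G, (y, (1 : G')) ∈ H → Commute y (k * v * k⁻¹) → y = 1 := by
      intro v hv y hy hc
      have h1 : (k⁻¹ * y * k, (1 : G')) ∈ H := by simpa using mul_mem (mul_mem (inv_mem hkH) hy) hkH
      have h2 := hv _ h1 (by
        have := hc.map (MulAut.conj k⁻¹).toMonoidHom
        simpa [mul_assoc] using this)
      calc y = k * (k⁻¹ * y * k) * k⁻¹ := by group
        _ = 1 := by rw [h2]; group
    have fu := hfixk z hfix
    rw [K.kap.rot.dz] at fu
    have fuz := hfixk _ fu
    rw [K.kap.rot.du] at fuz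
    have hu := hinv _ _ (e_mem_Mg (e := E) (show 1800 < 1920 by norm_num)) huu fu
    have huzi := hinv _ _ (e_mem_Mg (e := E) (show 1860 < 1920 by norm_num))
      (by rw [huz, hcu.symm.mul_mul_mul_comm, huu, hzz, one_mul]) fuz
    have hz := hinv _ _ hzH hzz hfix
    have h1 : z * x * z = x := by
      calc z * x * z = e 1800 * (e 1860 * x * e 1860) * e 1800 := by
            rw [huz, show e 1800 * (e 1800 * z * x * (e 1800 * z)) * e 1800 =
              e 1800 * e 1800 * z * x * (e 1800 * z) * e 1800 by group, huu, one_mul, hcu.eq,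
              show z * x * (z * e 1800) * e 1800 = z * x * z * (e 1800 * e 1800) by group, huu, mul_one]
        _ = e 1800 * x⁻¹ * e 1800 := by rw [huzi x hx]
        _ = x := by rw [hu x⁻¹ (by simpa using inv_mem hx), inv_inv]
    refine hfix x hx ?_
    show x * z = z * x
    calc x * z = z * x * z * z := by rw [h1]
      _ = _ := by rw [mul_assoc, hzz, mul_one]
  -- the isomorphism
  let p1 : H →* Mg e k := ((MonoidHom.fst G G').comp H.subtype).codRestrict (Mg e k) fun h => by
    rw [← hfst]; exact ⟨h, h.2, rfl⟩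
  let p2 : H →* G' := (MonoidHom.snd G G').comp H.subtype
  have b1 : Function.Bijective p1 := by
    refine ⟨(injective_iff_map_eq_one p1).mpr fun h hh => ?_, fun m => ?_⟩
    · obtain ⟨⟨x, y⟩, hxy⟩ := h
      have hx : x = 1 := congrArg Subtype.val hh
      subst hx
      have hy : y = 1 := Subgroup.mem_bot.mp (hN' ▸ (hxy : y ∈ N'))
      subst hy
      rfl
    · obtain ⟨q, hq, hqe⟩ := ((le_of_eq hfst.symm) m.2 : (m : G) ∈ H.map (MonoidHom.fst G G'))
      exact ⟨⟨q, hq⟩, Subtype.ext hqe⟩
  have b2 : Function.Bijective p2 := by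
    refine ⟨(injective_iff_map_eq_one p2).mpr fun h hh => ?_, fun g => ?_⟩
    · obtain ⟨⟨x, y⟩, hxy⟩ := h
      have hy : y = 1 := hh
      subst hy
      have hx := hker x hxy
      subst hx
      rfl
    · obtain ⟨q, hq, hqe⟩ := (hsnd ▸ Subgroup.mem_top g : g ∈ H.map (MonoidHom.snd G G'))
      exact ⟨⟨q, hq⟩, hqe⟩
  exact ⟨(MulEquiv.ofBijective p1 b1).symm.trans (MulEquiv.ofBijective p2 b2)⟩

theorem isoJ3_of_simple {G : Type*} [Group G] [Finite G] [IsSimpleGroup G] (t : G) (ht : orderOf t = 2)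
    (Q : Subgroup (Subgroup.centralizer ({t} : Set G))) [Q.Normal] (hQ : Cfsg.IsExtraspecial 2 Q)
    (hcard : Nat.card Q = 32)
    (hminus : ∀ E : Subgroup Q, Cfsg.IsElementaryAbelian 2 E → Nat.card E ≤ 2 ^ 2)
    (h2c : Subgroup.centralizer (Q : Set (Subgroup.centralizer ({t} : Set G))) ≤ Q)
    (e : (Subgroup.centralizer ({t} : Set G)) ⧸ Q ≃* alternatingGroup (Fin 5))
    (hone : ∀ x y : G, orderOf x = 2 → orderOf y = 2 → IsConj x y) : Cfsg.Spor.IsoJ3 G := by
  obtain ⟨f, M⟩ := exists_mdl t ht Q hQ hcard hminus h2c e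
  have h1 := oneClass_of hone
  obtain ⟨k, K, S⟩ := exists_sys M h1
  let F := GaloisField 2 2
  letI : Fintype F := Fintype.ofFinite F
  obtain ⟨ω, hF, hω⟩ : ∃ ω : F, Fintype.card F = 4 ∧ ω ^ 2 + ω + 1 = 0 := by
    have h4 : Fintype.card F = 4 := by
      rw [← Nat.card_eq_fintype_card, GaloisField.card 2 2 (by norm_num)]; norm_num
    classical
    obtain ⟨w, hw0, hw1⟩ : ∃ w : F, w ≠ 0 ∧ w ≠ 1 := by
      have h3 : 2 < (Finset.univ : Finset F).card := by rw [Finset.card_univ, h4]; norm_num
      obtain ⟨a, -, b, -, c, -, hab, hac, hbc⟩ := Finset.two_lt_card.mp h3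
      by_contra hno
      push Not at hno
      by_cases ha : a = 0
      · have hb := hno b (fun h => hab (ha.trans h.symm))
        have hc := hno c (fun h => hac (ha.trans h.symm))
        exact hbc (hb.trans hc.symm)
      · have ha1 := hno a ha
        by_cases hb : b = 0
        · exact hac (ha1.trans (hno c (fun h => hbc (hb.trans h.symm))).symm)
        · exact hab (ha1.trans (hno b hb).symm)
    refine ⟨w, h4, ?_⟩
    have h := FiniteField.pow_card_sub_one_eq_one w hw0
    rw [h4] at h
    have hz : (w - 1) * (w ^ 2 + w + 1) = 0 := by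
      calc (w - 1) * (w ^ 2 + w + 1) = w ^ (4 - 1) - 1 := by norm_num; ring
        _ = 0 := by rw [h, sub_self]
    exact (mul_eq_zero.mp hz).resolve_left (sub_ne_zero.mpr hw1)
  obtain ⟨hfin, hsimp, hJ, honeJ, t', f', M'⟩ := j3_mdl hF ω hω
  haveI := hfin
  haveI := hsimp
  obtain ⟨k', K', S'⟩ := exists_sys M' honeJ
  obtain ⟨φ⟩ := Mg_equiv M K S M' K' S' hJ (Mg_eq_top M' K' honeJ hJ)
  have hIso : Cfsg.Spor.IsoJ3 (Mg f k) := ⟨F, inferInstance, inferInstance, ω, hF, hω, ⟨φ⟩⟩
  have htop : Mg f k = ⊤ := by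
    refine H1.J3.eq_top_of_J3 (Mg f k) hone ?_ t ht (cent_le_Mg M (Commute.refl t))
      (fun g hg => cent_le_Mg M (Subgroup.mem_centralizer_singleton_iff.mp hg)) (card_cent M) hIso
    intro x y hx hy
    have key : ∀ x : Mg f k, orderOf x = 2 → ∃ h : Mg f k, (h : G) * t * (h : G)⁻¹ = x := by
      intro x hx
      obtain ⟨h, hh, hhe⟩ := oneClass_Mg M K h1 x.2
        (by rw [← Subgroup.coe_mul, ← pow_two, ← hx, pow_orderOf_eq_one, Subgroup.coe_one])
        (fun h0 => by
          have : x = 1 := Subtype.ext h0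
          rw [this, orderOf_one] at hx
          omega)
      exact ⟨⟨h, hh⟩, hhe⟩
    obtain ⟨a, ha⟩ := key x hx
    obtain ⟨b, hb⟩ := key y hy
    refine isConj_iff.mpr ⟨b * a⁻¹, Subtype.ext ?_⟩
    show (b : G) * (a : G)⁻¹ * (x : G) * ((b : G) * (a : G)⁻¹)⁻¹ = y
    rw [← ha, ← hb]; group
  obtain ⟨F', i1, i2, ω', hF', hω', ⟨ψ⟩⟩ := hIso
  exact ⟨F', i1, i2, ω', hF', hω', ⟨(Subgroup.topEquiv.symm.trans (MulEquiv.subgroupCongr htop.symm)).trans ψ⟩⟩

end H36.J3U
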