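import Cfsg.Agent.H36.J3U.Check
import Mathlib.Data.Set.Card
import Mathlib.Tactic.Group

/-!
A group generated by a copy of `2^(1+4):A₅` and an element `κ` satisfying the relators has order at most
`81 · 1920 · 1920`.
-/

set_option autoImplicit false

namespace H36.J3U

variable {G : Type*} [Group G]

/-- The value of a step. -/
def stv (e : Nat → G) (k : G) (s : Nat) : G := if s < 1920 then e s else if s = 1920 then k else k⁻¹

/-- The value of a list of steps in the order of application. -/
def ev (e : Nat → G) (k : G) : List Nat → G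
  | [] => 1
  | s :: L => ev e k L * stv e k s

/-- The value of a reduced stack. -/
def evS (e : Nat → G) (k : G) : List Nat → G
  | [] => 1
  | s :: S => stv e k s * evS e k S

/-- The multiplication table, the table of `κ` and the relators hold. -/
structure Sys (e : Nat → G) (k : G) : Prop where
  mul : ∀ a b, a < 1920 → b < 1920 → e (mulC a b) = e a * e b
  phi : ∀ d, d < 1920 → phiC d < 1920 → k * e d = e (phiC d) * k
  rels : ∀ R ∈ relators, ev e k R = 1

theorem table_facts : oneC < 1920 ∧ mulC oneC oneC = oneC ∧
    (List.range 1920).all (fun a => decide (invC a < 1920) && (mulC a (invC a) == oneC)) = true ∧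
    (List.range 1920).all (fun d => !decide (phiInvC d < 1920) || (phiC (phiInvC d) == d)) = true ∧
    (List.range 1024).all (fun i => decide (entry qmTab 5 i < 32)) = true ∧
    (List.range 1920).all (fun i => decide (entry qaTab 5 i < 32)) = true ∧
    (List.range 3600).all (fun i => decide (entry lmTab 6 i < 60)) = true := by
  decide +kernel

theorem phiInv_spec {d : Nat} (hd : d < 1920) (h : phiInvC d < 1920) : phiC (phiInvC d) = d := by
  have := List.all_eq_true.mp table_facts.2.2.2.1 d (List.mem_range.mpr hd)
  simpa [h] using this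

theorem invC_lt {a : Nat} (ha : a < 1920) : invC a < 1920 ∧ mulC a (invC a) = oneC := by
  have := List.all_eq_true.mp table_facts.2.2.1 a (List.mem_range.mpr ha)
  simpa using this

theorem mulC_lt {a b : Nat} (ha : a < 1920) (hb : b < 1920) : mulC a b < 1920 := by
  have hQA : qaC (a % 60) (b / 60) < 32 := by
    have := List.all_eq_true.mp table_facts.2.2.2.2.2.1 (32 * (a % 60) + b / 60)
      (List.mem_range.mpr (by omega))
    simpa [qaC] using this
  have hQM : qmC (a / 60) (qaC (a % 60) (b / 60)) < 32 := by
    have := List.all_eq_true.mp table_facts.2.2.2.2.1 (32 * (a / 60) + qaC (a % 60) (b / 60))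
      (List.mem_range.mpr (by omega))
    simpa [qmC] using this
  have hLM : lmC (a % 60) (b % 60) < 60 := by
    have := List.all_eq_true.mp table_facts.2.2.2.2.2.2 (60 * (a % 60) + b % 60)
      (List.mem_range.mpr (by omega))
    simpa [lmC] using this
  unfold mulC
  omega

variable {e : Nat → G} {k : G}

namespace Sys

theorem one (S : Sys e k) : e oneC = 1 := by
  have := S.mul oneC oneC table_facts.1 table_facts.1
  rw [table_facts.2.1] at this
  exact (mul_eq_left.mp this.symm)

theorem inv (S : Sys e k) {a : Nat} (ha : a < 1920) : e (invC a) = (e a)⁻¹ := by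
  refine eq_inv_of_mul_eq_one_right ?_
  rw [← S.mul a _ ha (invC_lt ha).1, (invC_lt ha).2, S.one]

theorem phiInv (S : Sys e k) {d : Nat} (hd : d < 1920) (h : phiInvC d < 1920) :
    k⁻¹ * e d = e (phiInvC d) * k⁻¹ := by
  have hs := phiInv_spec hd h
  have := S.phi _ h (by rw [hs]; exact hd)
  rw [hs] at this
  calc k⁻¹ * e d = k⁻¹ * (e d * k) * k⁻¹ := by group
    _ = k⁻¹ * (k * e (phiInvC d)) * k⁻¹ := by rw [this]
    _ = e (phiInvC d) * k⁻¹ := by group

end Sys

theorem evS_push (S : Sys e k) (L : List Nat) (s : Nat) :
    evS e k (push L s) = stv e k s * evS e k L := by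
  unfold push
  split
  · rename_i hs
    split
    · split <;> rename_i h
      · simp [evS, stv, hs, h, S.one, table_facts.1]
      · simp [evS]
    · rename_i t L'
      split
      · rename_i ht
        split <;> rename_i h
        · simp only [evS, stv, if_pos hs, if_pos ht]
          rw [← mul_assoc, ← S.mul s t hs ht, h, S.one, one_mul]
        · simp only [evS, stv, if_pos hs, if_pos ht, if_pos (mulC_lt hs ht)]
          rw [← mul_assoc, ← S.mul s t hs ht]
      · split <;> rename_i h
        · simp [evS, stv, hs, h, S.one, table_facts.1]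
        · simp [evS]
  · split
    · simp [evS]
    · rename_i hs _ t L'
      split
      · rename_i h
        rcases h with ⟨rfl, rfl⟩ | ⟨rfl, rfl⟩ <;> simp [evS, stv]
      · simp [evS]

theorem evS_foldl (S : Sys e k) : ∀ (L T : List Nat),
    evS e k (L.foldl push T) = ev e k L * evS e k T := by
  intro L
  induction L with
  | nil => intro T; simp [ev]
  | cons s L ih => intro T; rw [List.foldl_cons, ih, evS_push S, ev, mul_assoc]

theorem evS_red (S : Sys e k) (L : List Nat) : evS e k (red L) = ev e k L := by
  rw [red, evS_foldl S]; simp [evS]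

theorem ev_append (e : Nat → G) (k : G) (A B : List Nat) : ev e k (A ++ B) = ev e k B * ev e k A := by
  induction A with
  | nil => simp [ev]
  | cons s A ih => simp [ev, ih, mul_assoc]

theorem ev_target (S : Sys e k) (r p : Nat) : evS e k (target r p) = 1 := by
  unfold target
  split
  · rename_i hr
    rw [evS_red S, ev_append]
    have h := S.rels (relators.getD r []) (by rw [List.getD_eq_getElem _ _ hr]; exact List.getElem_mem hr)
    rw [← List.take_append_drop p (relators.getD r []), ev_append] at h
    exact mul_eq_one_comm.mp h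
  · rfl

variable (e k)

/-- The image of the table as a subgroup. -/
def base : Subgroup G := Subgroup.closure (e '' {a | a < 1920})

/-- The point of a node. -/
def pt (j : Nat) : G ⧸ base e :=
  if _h1 : fKind (fact (parent j)) = 1 ∧ fI (fact (parent j)) < j then
    (k * e (fB (fact (parent j)))) • pt (fI (fact (parent j)))
  else if _h2 : fKind (fact (parent j)) = 2 ∧ fJ (fact (parent j)) < j then
    (k⁻¹ * e (fA (fact (parent j)))) • pt (fJ (fact (parent j)))
  else ((1 : G) : G ⧸ base e)
termination_by j
decreasing_by
  · exact _h1.2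
  · exact _h2.2

/-- A fact holds. -/
def Holds (m : Nat) : Prop :=
  fB (fact m) < 1920 ∧ fA (fact m) < 1920 ∧
    (fT (fact m) = 0 → e (fB (fact m)) • pt e k (fI (fact m)) = e (fA (fact m)) • pt e k (fJ (fact m))) ∧
    (fT (fact m) = 1 →
      (k * e (fB (fact m))) • pt e k (fI (fact m)) = e (fA (fact m)) • pt e k (fJ (fact m)))

variable {e k}

theorem pt_zero : pt e k 0 = ((1 : G) : G ⧸ base e) := by
  rw [pt, dif_neg (fun h => Nat.not_lt_zero _ h.2), dif_neg (fun h => Nat.not_lt_zero _ h.2)]

theorem move_holds (S : Sys e k) {n m i b i' b' : Nat} {w : List Nat}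
    (hn : ∀ x < n, Holds e k x) (hb : b < 1920) (h : move n m i b = some (i', b', w)) :
    b' < 1920 ∧ ev e k w • (e b • pt e k i) = e b' • pt e k i' := by
  unfold move at h
  dsimp only at h
  split at h
  · split at h
    · rename_i hx
      simp only [Option.some.injEq, Prod.mk.injEq] at h
      obtain ⟨rfl, rfl, rfl⟩ := h
      refine ⟨mulC_lt hx hb, ?_⟩
      rw [S.mul _ _ hx hb, mul_smul]
      simp [ev, stv, hx]
    · simp at h
  · split at h
    · simp at h
    · rename_i hx
      obtain ⟨hB, hA, h0, h1⟩ := hn (m >>> 3) (by omega)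
      split at h
      · split at h
        · rename_i ht
          have h0 := h0 ht
          split at h
          · split at h
            · rename_i hi
              simp only [Option.some.injEq, Prod.mk.injEq] at h
              obtain ⟨rfl, rfl, rfl⟩ := h
              have hd := mulC_lt hb (invC_lt hB).1
              refine ⟨mulC_lt hd hA, ?_⟩
              rw [S.mul _ _ hd hA, S.mul _ _ hb (invC_lt hB).1, S.inv hB, mul_smul, mul_smul, ← h0, ← hi,
                inv_smul_smul]
              simp [ev]
            · simp at h
          · split at h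
            · rename_i hi
              simp only [Option.some.injEq, Prod.mk.injEq] at h
              obtain ⟨rfl, rfl, rfl⟩ := h
              have hd := mulC_lt hb (invC_lt hA).1
              refine ⟨mulC_lt hd hB, ?_⟩
              rw [S.mul _ _ hd hB, S.mul _ _ hb (invC_lt hA).1, S.inv hA, mul_smul, mul_smul, h0, ← hi,
                inv_smul_smul]
              simp [ev]
            · simp at h
        · simp at h
      · split at h
        · rename_i ht
          have h1 := h1 ht
          split at h
          · split at h
            · rename_i hi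
              simp only [Option.some.injEq, Prod.mk.injEq] at h
              obtain ⟨rfl, rfl, rfl⟩ := h
              have hd := mulC_lt hb (invC_lt hB).1
              refine ⟨mulC_lt hi.2 hA, ?_⟩
              rw [S.mul _ _ hi.2 hA, mul_smul, ← h1, hi.1, ← mul_smul, ← mul_smul]
              congr 1
              rw [← mul_assoc, ← S.phi _ hd hi.2, S.mul _ _ hb (invC_lt hB).1, S.inv hB]
              simp [ev, stv, mul_assoc]
            · simp at h
          · split at h
            · rename_i hi
              simp only [Option.some.injEq, Prod.mk.injEq] at h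
              obtain ⟨rfl, rfl, rfl⟩ := h
              have hd := mulC_lt hb (invC_lt hA).1
              refine ⟨mulC_lt hi.2 hB, ?_⟩
              have h1' : e (fB (fact (m >>> 3))) • pt e k (fI (fact (m >>> 3))) =
                  (k⁻¹ * e (fA (fact (m >>> 3)))) • pt e k (fJ (fact (m >>> 3))) := by
                rw [mul_smul k⁻¹, ← h1, ← mul_smul, ← mul_assoc, inv_mul_cancel, one_mul]
              rw [S.mul _ _ hi.2 hB, mul_smul, h1', hi.1, ← mul_smul, ← mul_smul]
              congr 1
              rw [← mul_assoc, ← S.phiInv hd hi.2, S.mul _ _ hb (invC_lt hA).1, S.inv hA]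
              simp [ev, stv, mul_assoc]
            · simp at h
        · simp at h

theorem walk_holds (S : Sys e k) {n : Nat} (hn : ∀ x < n, Holds e k x) :
    ∀ (ms : List Nat) (i b i' b' : Nat) (w : List Nat), b < 1920 → walk n ms i b = some (i', b', w) →
      b' < 1920 ∧ ev e k w • (e b • pt e k i) = e b' • pt e k i' := by
  intro ms
  induction ms with
  | nil =>
    intro i b i' b' w hb h
    simp only [walk, Option.some.injEq, Prod.mk.injEq] at h
    obtain ⟨rfl, rfl, rfl⟩ := h
    exact ⟨hb, by simp [ev]⟩
  | cons m ms ih =>
    intro i b i' b' w hb h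
    simp only [walk] at h
    split at h
    · rename_i i1 b1 w1 hm
      split at h
      · rename_i i2 b2 w2 hw
        simp only [Option.some.injEq, Prod.mk.injEq] at h
        obtain ⟨rfl, rfl, rfl⟩ := h
        obtain ⟨hb1, e1⟩ := move_holds S hn hb hm
        obtain ⟨hb2, e2⟩ := ih _ _ _ _ _ hb1 hw
        refine ⟨hb2, ?_⟩
        rw [ev_append, mul_smul, e1, e2]
      · simp at h
    · simp at h

theorem smul_pt_zero (S : Sys e k) {b : Nat} (hb : b < 1920) : e b • pt e k 0 = pt e k 0 := by
  rw [pt_zero]
  show ((e b * 1 : G) : G ⧸ base e) = ((1 : G) : G ⧸ base e)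
  rw [QuotientGroup.eq]
  have : e b ∈ base e := Subgroup.subset_closure ⟨b, hb, rfl⟩
  simpa using this

theorem holds (S : Sys e k) : ∀ m < numFacts, Holds e k m := by
  intro m
  induction m using Nat.strong_induction_on with
  | _ m ih =>
    intro hm
    have hn : ∀ x < m, Holds e k x := fun x hx => ih x hx (lt_trans hx hm)
    have hc := checkFact_ok hm
    simp only [checkFact, Bool.and_eq_true, decide_eq_true_eq] at hc
    obtain ⟨⟨hB, hA⟩, hc⟩ := hc
    refine ⟨hB, hA, ?_⟩
    split at hc
    · simp only [Bool.and_eq_true, beq_iff_eq] at hc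
      obtain ⟨⟨ht, hi⟩, hj⟩ := hc
      refine ⟨fun _ => ?_, fun h => by omega⟩
      rw [hi, hj, smul_pt_zero S hB, smul_pt_zero S hA]
    · split at hc
      · rename_i hk
        simp only [Bool.and_eq_true, beq_iff_eq, decide_eq_true_eq] at hc
        obtain ⟨⟨⟨ht, hlt⟩, ha⟩, hp⟩ := hc
        refine ⟨fun h => by omega, fun _ => ?_⟩
        conv_rhs => rw [ha, S.one, one_smul, pt]
        rw [hp, dif_pos ⟨hk, hlt⟩]
      · split at hc
        · rename_i hk
          simp only [Bool.and_eq_true, beq_iff_eq, decide_eq_true_eq] at hc
          obtain ⟨⟨⟨ht, hlt⟩, hb⟩, hp⟩ := hc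
          refine ⟨fun h => by omega, fun _ => ?_⟩
          conv_lhs => rw [hb, S.one, mul_one, pt]
          rw [hp, dif_neg (fun h => by omega), dif_pos ⟨hk, hlt⟩, ← mul_smul, ← mul_assoc,
            mul_inv_cancel, one_mul]
        · split at hc
          · rename_i i b w hw
            simp only [Bool.and_eq_true, beq_iff_eq] at hc
            obtain ⟨⟨hi, hb⟩, hc⟩ := hc
            subst hi hb
            obtain ⟨-, heq⟩ := walk_holds S hn _ _ _ _ _ _ hB hw
            split at hc
            · rename_i ht
              simp only [beq_iff_eq] at hc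
              refine ⟨fun _ => ?_, fun h => by omega⟩
              rw [← heq, ← evS_red S, hc, ev_target S, one_smul]
            · simp only [Bool.and_eq_true, beq_iff_eq] at hc
              refine ⟨fun h => by omega, fun _ => ?_⟩
              have h1 : ev e k (w ++ [1921]) = 1 := by rw [← evS_red S, hc.2, ev_target S]
              rw [ev_append] at h1
              have hk' : ev e k w = k := by
                have : k⁻¹ * ev e k w = 1 := by simpa [ev, stv] using h1
                exact (inv_mul_eq_one.mp this).symm
              rw [mul_smul, ← heq, hk']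
          · simp at hc

/-- The points reached. -/
def reach (e : Nat → G) (k : G) : Set (G ⧸ base e) :=
  (fun p : Fin 81 × Fin 1920 => e p.2 • pt e k (liveNodes.getD p.1 0)) '' Set.univ

theorem reach_mem {i b : Nat} (hi : liveNodes.contains i = true) (hb : b < 1920) :
    e b • pt e k i ∈ reach e k := by
  obtain ⟨t, ht, rfl⟩ := List.mem_iff_getElem.mp (List.contains_iff_mem.mp hi)
  refine ⟨(⟨t, live_zero.2.1 ▸ ht⟩, ⟨b, hb⟩), trivial, ?_⟩
  simp [List.getElem?_eq_getElem ht]

theorem reach_e (S : Sys e k) {a : Nat} (ha : a < 1920) {y : G ⧸ base e} (hy : y ∈ reach e k) :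
    e a • y ∈ reach e k := by
  obtain ⟨⟨t, b⟩, -, rfl⟩ := hy
  refine ⟨(t, ⟨mulC a b, mulC_lt ha b.isLt⟩), trivial, ?_⟩
  show e (mulC a b) • _ = _
  rw [S.mul a b ha b.isLt, mul_smul]

theorem reach_k (S : Sys e k) {y : G ⧸ base e} (hy : y ∈ reach e k) : k • y ∈ reach e k := by
  obtain ⟨⟨t, b⟩, -, rfl⟩ := hy
  have hcov := List.all_eq_true.mp cover_ok (b : Nat) (List.mem_range.mpr b.isLt)
  rw [List.any_eq_true] at hcov
  obtain ⟨r, hr, hd⟩ := hcov
  rw [List.mem_range] at hr
  rw [decide_eq_true_eq] at hd
  set rep := cosetReps.getD r 0 with hrepdef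
  have hrep : rep < 1920 := by
    have := List.all_eq_true.mp live_zero.2.2.2 rep (by
      rw [hrepdef, List.getD_eq_getElem _ _ (live_zero.2.2.1 ▸ hr)]; exact List.getElem_mem _)
    simpa using this
  have hcl := List.all_eq_true.mp close_ok (10 * (t : Nat) + r)
    (List.mem_range.mpr (by have := t.isLt; omega))
  unfold checkClose at hcl
  rw [show (10 * (t : Nat) + r) / 10 = t by omega, show (10 * (t : Nat) + r) % 10 = r by omega] at hcl
  split at hcl
  · rename_i i b' w hw
    simp only [Bool.and_eq_true, beq_iff_eq] at hcl
    obtain ⟨hb', heq⟩ := walk_holds S (holds S) _ _ _ _ _ _ hrep hw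
    have hk : ev e k w = k := by rw [← evS_red S, hcl.2]; simp [evS, stv]
    rw [hk] at heq
    set d := mulC b (invC rep)
    have hdl : d < 1920 := mulC_lt b.isLt (invC_lt hrep).1
    have hb : e (b : Nat) = e d * e rep := by
      rw [S.mul _ _ b.isLt (invC_lt hrep).1, S.inv hrep, inv_mul_cancel_right]
    show k • e (b : Nat) • pt e k (liveNodes.getD t 0) ∈ reach e k
    rw [← mul_smul, hb, ← mul_assoc, S.phi d hdl hd, mul_assoc, mul_smul, mul_smul, heq]
    exact reach_e S hd (reach_mem hcl.1 hb')
  · simp at hcl

theorem Sys.card_le [Finite G] (S : Sys e k)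
    (hgen : Subgroup.closure (e '' {a | a < 1920} ∪ {k}) = ⊤) :
    Nat.card G ≤ 81 * 1920 * 1920 := by
  classical
  have hall : ∀ g : G, ∀ y ∈ reach e k, g • y ∈ reach e k := by
    intro g
    induction hgen ▸ Subgroup.mem_top g using Subgroup.closure_induction with
    | mem x hx =>
      rcases hx with ⟨a, ha, rfl⟩ | rfl
      · exact fun y hy => reach_e S ha hy
      · exact fun y hy => reach_k S hy
    | one => exact fun y hy => by rwa [one_smul]
    | mul x y _ _ hx hy => exact fun p hp => by rw [mul_smul]; exact hx _ (hy _ hp)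
    | inv x _ hx =>
      intro p hp
      obtain ⟨q, hq⟩ := Finite.surjective_of_injective
        (f := fun q : reach e k => (⟨x • (q : G ⧸ base e), hx _ q.2⟩ : reach e k))
        (fun q r h => Subtype.ext (smul_left_cancel x (congrArg Subtype.val h))) ⟨p, hp⟩
      have hxq : x • (q : G ⧸ base e) = p := congrArg Subtype.val hq
      rw [← hxq, inv_smul_smul]
      exact q.2
  have h0 : ((1 : G) : G ⧸ base e) ∈ reach e k := by
    have := reach_mem (e := e) (k := k) live_zero.1 table_facts.1
    rwa [S.one, one_smul, pt_zero] at this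
  have hR : reach e k = Set.univ := Set.eq_univ_of_forall fun y => by
    induction y using QuotientGroup.induction_on with
    | _ g => simpa using hall g _ h0
  have hX : Nat.card (G ⧸ base e) ≤ 81 * 1920 := by
    rw [← Nat.card_univ, ← hR, reach]
    refine le_trans (Nat.card_image_le Set.finite_univ) ?_
    simp
  have hH : Nat.card (base e) ≤ 1920 := by
    let T : Subgroup G :=
      { carrier := e '' {a | a < 1920}
        one_mem' := ⟨oneC, table_facts.1, S.one⟩
        mul_mem' := fun {x y} hx hy => by
          obtain ⟨a, ha, rfl⟩ := hx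
          obtain ⟨b, hb, rfl⟩ := hy
          exact ⟨mulC a b, mulC_lt ha hb, S.mul a b ha hb⟩
        inv_mem' := fun {x} hx => by
          obtain ⟨a, ha, rfl⟩ := hx
          exact ⟨invC a, (invC_lt ha).1, S.inv ha⟩ }
    have hle : base e ≤ T := (Subgroup.closure_le T).mpr fun x hx => hx
    refine le_trans (Nat.card_le_card_of_injective _ (Subgroup.inclusion_injective hle)) ?_
    show Nat.card ↥(e '' {a | a < 1920}) ≤ 1920
    refine le_trans (Nat.card_image_le (Set.finite_lt_nat 1920)) (le_of_eq ?_)
    exact (Nat.card_congr (Fin.equivSubtype (n := 1920)).symm).trans (Nat.card_fin 1920)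
  calc Nat.card G = Nat.card (G ⧸ base e) * Nat.card (base e) :=
        Subgroup.card_eq_card_quotient_mul_card_subgroup _
    _ ≤ _ := Nat.mul_le_mul hX hH

end H36.J3U
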