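import Cfsg.Agent.H36.J3U.Cent

/-!
The centraliser of `c` splits over `⟨c⟩`, and all the relators hold.
-/

set_option autoImplicit false
set_option maxRecDepth 100000
set_option synthInstance.maxSize 4000
set_option synthInstance.maxHeartbeats 200000

namespace H36.J3U

variable {G : Type*} [Group G] [Finite G] {z : G} {e : Nat → G} {k : G}

local notation "A6" => alternatingGroup (Fin 6)

theorem a6_card : Nat.card A6 = 360 := by
  rw [nat_card_alternatingGroup, Nat.card_fin]; norm_num [Nat.factorial]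

theorem commute_of_card_dvd_nine {X : Type*} [Group X] [Finite X] (S : Subgroup X) (h : Nat.card S ∣ 9)
    {a b : X} (ha : a ∈ S) (hb : b ∈ S) : Commute a b := by
  haveI : Fact (Nat.Prime 3) := ⟨by norm_num⟩
  obtain ⟨i, hi, he⟩ := (Nat.dvd_prime_pow (by norm_num : Nat.Prime 3)).mp (show Nat.card S ∣ 3 ^ 2 by simpa using h)
  have hcomm : IsMulCommutative S := by
    interval_cases i
    · haveI : Subsingleton S := (Nat.card_eq_one_iff_unique.mp (by simpa using he)).1
      exact ⟨⟨fun a b => Subsingleton.elim _ _⟩⟩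
    · haveI := isCyclic_of_prime_card (p := 3) (by simpa using he)
      exact ⟨⟨fun a b => IsCyclic.commGroup.mul_comm a b⟩⟩
    · exact IsPGroup.isMulCommutative_of_card_eq_prime_sq (p := 3) he
  exact congrArg Subtype.val (hcomm.is_comm.comm ⟨a, ha⟩ ⟨b, hb⟩)

/-- An element inverting both `c` and `κ` is impossible; hence no exact inversion. -/
theorem no_inverter (M : Mdl z e) (K : Kappa z e k) (π : Kc e →* A6)
    (hker : ∀ x : Kc e, π x = 1 ↔ x ∈ Zc e) (hC : ∀ (x : A6), x * π ⟨k * e 15, mem_Kc.mpr (pts M K).ma⟩ * x⁻¹ ≠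
      (π ⟨e 12 * (k * e 15) * e 12, mem_Kc.mpr (pts M K).mb⟩)⁻¹)
    {i : G} (hik : Commute i k) (hic : i * e 15 * i⁻¹ = (e 15)⁻¹) : False := by
  have P := pts M K
  have hkc : Commute k (e 15) := K.kap.rot.dc
  have hrr : e 960 * e 960 = 1 := P.cfg.rr
  have hri : (e 960)⁻¹ = e 960 := inv_eq_of_mul_eq_one_right hrr
  set t := e 960 * i with ht
  have tc : ∀ g, t * g * t⁻¹ = e 960 * (i * g * i⁻¹) * e 960 := fun g => by
    rw [ht, mul_inv_rev, hri]; group
  have t1 : t * e 15 * t⁻¹ = (e 15)⁻¹ := by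
    rw [tc, hic, P.mr.inv_right.eq, mul_assoc, hrr, mul_one]
  have t2 : t * k * t⁻¹ = k⁻¹ * e 15 := by
    rw [tc, hik.eq, mul_inv_cancel_right, K.relA]
  have tinv : ∀ g, t * g⁻¹ * t⁻¹ = (t * g * t⁻¹)⁻¹ := fun g => by group
  have tmul : ∀ g h, t * (g * h) * t⁻¹ = t * g * t⁻¹ * (t * h * t⁻¹) := fun g h => by group
  have hc3 := c_cube M
  have t3 : t * (k⁻¹ * e 15) * t⁻¹ = k * e 15 := by
    rw [tmul, tinv, t2, t1, mul_inv_rev, inv_inv]
    calc (e 15)⁻¹ * k * (e 15)⁻¹ = k * (e 15)⁻¹ * (e 15)⁻¹ := by rw [hkc.inv_right.eq]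
      _ = k * (e 15 * e 15 * e 15)⁻¹ * e 15 := by group
      _ = k * e 15 := by rw [hc3, inv_one, mul_one]
  have t4 : t * (k * e 15) * t⁻¹ = k⁻¹ := by rw [tmul, t2, t1, mul_inv_cancel_right]
  set τ := t * t * t with hτ
  have hτc : τ * e 15 * τ⁻¹ = (e 15)⁻¹ := by
    calc τ * e 15 * τ⁻¹ = t * (t * (t * e 15 * t⁻¹) * t⁻¹) * t⁻¹ := by rw [hτ]; group
      _ = _ := by rw [t1, tinv, t1, inv_inv, t1]
  have hτk : τ * k * τ⁻¹ = k⁻¹ := by
    calc τ * k * τ⁻¹ = t * (t * (t * k * t⁻¹) * t⁻¹) * t⁻¹ := by rw [hτ]; group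
      _ = _ := by rw [t2, t3, t4]
  have hτw : τ * (k * e 15) * τ⁻¹ = (k * e 15)⁻¹ := by
    calc τ * (k * e 15) * τ⁻¹ = τ * k * τ⁻¹ * (τ * e 15 * τ⁻¹) := by group
      _ = _ := by rw [hτk, hτc, mul_inv_rev, hkc.inv_inv.eq]
  obtain ⟨g15, -, -, -, gg, -, -, -, -⟩ := pts_facts
  set g := e 12
  have hgg : g * g = 1 := by rw [← M.mul _ _ (by norm_num) (by norm_num), gg, M.one]
  have hgi : g⁻¹ = g := inv_eq_of_mul_eq_one_right hgg
  have hgc : g * (e 15)⁻¹ * g⁻¹ = e 15 := by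
    rw [← M.inv (by norm_num), show invC 15 = 24 by decide +kernel, ← (M.cj (by norm_num) (by norm_num)).2,
      show cjC 12 24 = 15 by decide +kernel]
  have hmem : Commute (g * τ) (e 15) := mul_inv_eq_iff_eq_mul.mp (by
    calc g * τ * e 15 * (g * τ)⁻¹ = g * (τ * e 15 * τ⁻¹) * g⁻¹ := by group
      _ = e 15 := by rw [hτc, hgc])
  refine hC (π ⟨g * τ, mem_Kc.mpr hmem⟩) ?_
  rw [← map_inv, ← map_inv, ← map_mul, ← map_mul]
  refine congrArg π (Subtype.ext ?_)
  show g * τ * (k * e 15) * (g * τ)⁻¹ = (g * (k * e 15) * g)⁻¹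
  calc g * τ * (k * e 15) * (g * τ)⁻¹ = g * (τ * (k * e 15) * τ⁻¹) * g⁻¹ := by group
    _ = g * (k * e 15)⁻¹ * g := by rw [hτw, hgi]
    _ = _ := by simp only [mul_inv_rev, hgi, mul_assoc]

theorem exists_transfer (M : Mdl z e) (K : Kappa z e k) (hone : OneClass G) (π : Kc e →* A6)
    (hπ : Function.Surjective π) (hker : ∀ x : Kc e, π x = 1 ↔ x ∈ Zc e) :
    ∃ (A : Subgroup (Kc e)) (T : Kc e →* A), (∀ a ∈ A, ∀ b ∈ A, Commute a b) ∧ Odd (Nat.card A) ∧
      ((T (cK e) : A) : Kc e) = cK e := by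
  classical
  haveI : Fact (Nat.Prime 3) := ⟨by norm_num⟩
  have P := pts M K
  have hc1 : cK e ≠ 1 := fun h => by
    have := M.inj 15 0 (by norm_num) (by norm_num) ((congrArg Subtype.val h).trans M.one.symm)
    omega
  have hco : orderOf (cK e) = 3 := orderOf_eq_prime (Subtype.ext (by
    show e 15 ^ 3 = 1
    rw [pow_succ, pow_two, c_cube M])) hc1
  have hcard : Nat.card (Kc e) = 1080 := by
    have h1 := (MonoidHom.ker π).index_mul_card
    have hk : MonoidHom.ker π = Zc e := Subgroup.ext fun x => hker x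
    rw [Subgroup.index_ker, MonoidHom.range_eq_top_of_surjective π hπ, Subgroup.card_top, a6_card, hk,
      Nat.card_zpowers, hco] at h1
    omega
  -- the element `y`
  obtain ⟨a, k0, hk0, hak⟩ : ∃ a k0, (k0 = k ∨ k0 = k⁻¹) ∧ a * k0 * a⁻¹ = e 15 := by
    obtain ⟨a, h | h⟩ := kappa_conj M K hone
    exacts [⟨a, k, Or.inl rfl, h⟩, ⟨a, k⁻¹, Or.inr rfl, h⟩]
  have hkc : Commute k0 (e 15) := by
    rcases hk0 with rfl | rfl
    exacts [K.kap.rot.dc, K.kap.rot.dc.inv_left]
  have hy : Commute (a * e 15 * a⁻¹) (e 15) := by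
    nth_rewrite 2 [← hak]
    exact hkc.symm.map (MulAut.conj a).toMonoidHom
  set y : Kc e := ⟨a * e 15 * a⁻¹, mem_Kc.mpr hy⟩ with hydef
  have hyZ : y ∉ Zc e := fun h => by
    obtain ⟨n, hn, hne⟩ := Zc_cases M h
    have hne' : e n = a * e 15 * a⁻¹ := hne
    simp only [List.mem_cons, List.not_mem_nil, or_false] at hn
    have hkz : ∀ w : G, (w = k ∨ w = k⁻¹) → ¬ Commute w z := by
      intro w hw hc
      have hc' : Commute k z := by rcases hw with rfl | rfl; exacts [hc, Commute.inv_left_iff.mp hc]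
      have hz := K.kap.rot.dz
      rw [hc'.eq, mul_inv_cancel_right, ← M.ez] at hz
      have := M.inj _ _ (by norm_num) (by norm_num) hz
      omega
    rcases hn with rfl | rfl | rfl
    · rw [M.one] at hne'
      exact hc1 (Subtype.ext (conj_eq_one_iff.mp hne'.symm))
    · have : e 15 = k0 := mul_left_cancel (mul_right_cancel (hne'.symm.trans hak.symm))
      exact hkz k0 hk0 (this ▸ M.comm_z (by norm_num))
    · have h24 : e 24 = (e 15)⁻¹ := by
        rw [← M.inv (by norm_num), show invC 15 = 24 by decide +kernel]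
      have h15 : e 15 = (a * k0 * a⁻¹) := hak.symm
      have : e 15 = k0⁻¹ := by
        have h2 : a * e 15 * a⁻¹ = a * k0⁻¹ * a⁻¹ := by rw [← hne', h24, h15]; group
        exact mul_left_cancel (mul_right_cancel h2)
      refine hkz k0⁻¹ ?_ (this ▸ M.comm_z (by norm_num))
      rcases hk0 with rfl | rfl
      exacts [Or.inr rfl, Or.inl (inv_inv _)]
  have hcc : ∀ g : Kc e, Commute g (cK e) := fun g => Subtype.ext (mem_Kc.mp g.2).eq
  let S := Subgroup.closure ({cK e, y} : Set (Kc e))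
  have hScomm : IsMulCommutative S := Subgroup.isMulCommutative_closure (by
    intro p hp q hq
    simp only [Set.mem_insert_iff, Set.mem_singleton_iff] at hp hq
    rcases hp with rfl | rfl <;> rcases hq with rfl | rfl
    exacts [rfl, (hcc y).symm.eq, (hcc y).eq, rfl])
  have hyo : y ^ 3 = 1 := Subtype.ext (by
    show (a * e 15 * a⁻¹) ^ 3 = 1
    rw [conj_pow, pow_succ, pow_two, c_cube M, mul_one, mul_inv_cancel])
  have hSp : IsPGroup 3 S := fun g => ⟨1, Subtype.ext (by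
    obtain ⟨g, hg⟩ := g
    show g ^ (3 ^ 1) = 1
    rw [pow_one]
    induction hg using Subgroup.closure_induction with
    | mem x hx =>
      simp only [Set.mem_insert_iff, Set.mem_singleton_iff] at hx
      rcases hx with rfl | rfl
      exacts [hco ▸ pow_orderOf_eq_one _, hyo]
    | one => exact one_pow _
    | mul x y hx hy ihx ihy =>
      have hxy : Commute x y := congrArg Subtype.val (hScomm.is_comm.comm ⟨x, hx⟩ ⟨y, hy⟩)
      rw [hxy.mul_pow, ihx, ihy, one_mul]
    | inv x _ ih => rw [inv_pow, ih, inv_one])⟩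
  obtain ⟨Q, hQ⟩ := hSp.exists_le_sylow
  have hQ27 : Nat.card Q = 27 := by
    obtain ⟨n, hn⟩ := Q.2.exists_card_eq
    have hi : ¬ 3 ∣ (Q : Subgroup (Kc e)).index := Q.not_dvd_index
    have hm := (Q : Subgroup (Kc e)).index_mul_card
    rw [hn, hcard] at hm
    have hn3 : n ≤ 6 := by
      by_contra hlt
      have h7 : 3 ^ 7 ≤ 3 ^ n := Nat.pow_le_pow_right (by norm_num) (by omega)
      have : 3 ^ n ≤ 1080 := Nat.le_of_dvd (by norm_num) ⟨_, by rw [mul_comm]; exact hm.symm⟩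
      norm_num at h7
      omega
    show Nat.card (Q : Subgroup (Kc e)) = 27
    rw [hn]
    interval_cases n <;> omega
  have hcQ : cK e ∈ (Q : Subgroup (Kc e)) := hQ (Subgroup.subset_closure (by simp))
  have hyQ : y ∈ (Q : Subgroup (Kc e)) := hQ (Subgroup.subset_closure (by simp))
  by_cases hall : ∀ p ∈ (Q : Subgroup (Kc e)), Commute p y
  · -- an abelian Sylow subgroup
    have hcomm : ∀ a ∈ (Q : Subgroup (Kc e)), ∀ b ∈ (Q : Subgroup (Kc e)), Commute a b := by
      intro a ha b hb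
      by_cases haS : a ∈ S
      · induction haS using Subgroup.closure_induction with
        | mem x hx =>
          simp only [Set.mem_insert_iff, Set.mem_singleton_iff] at hx
          rcases hx with rfl | rfl
          exacts [(hcc b).symm, (hall b hb).symm]
        | one => exact Commute.one_left b
        | mul x w hx hw ihx ihw => exact (ihx (hQ hx)).mul_left (ihw (hQ hw))
        | inv x hx ih => exact (ih (hQ hx)).inv_left
      · set H := (Q : Subgroup (Kc e)) ⊓ Subgroup.centralizer ({a} : Set (Kc e)) with hH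
        have hSH : S ≤ H := (Subgroup.closure_le H).mpr (by
          intro x hx
          simp only [Set.mem_insert_iff, Set.mem_singleton_iff] at hx
          rcases hx with rfl | rfl
          · exact ⟨hcQ, Subgroup.mem_centralizer_singleton_iff.mpr (hcc a).symm.eq⟩
          · exact ⟨hyQ, Subgroup.mem_centralizer_singleton_iff.mpr (hall a ha).symm.eq⟩)
        have haH : a ∈ H := ⟨ha, Subgroup.mem_centralizer_singleton_iff.mpr rfl⟩
        have h1 : Zc e ≤ S := Subgroup.zpowers_le.mpr (Subgroup.subset_closure (by simp))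
        have hZ : Zc e ≠ S := fun he => hyZ (he ▸ Subgroup.subset_closure (by simp))
        have hS : S ≠ H := fun he => haS (he ▸ haH)
        have e1 := Subgroup.card_dvd_of_le h1
        have e2 := Subgroup.card_dvd_of_le hSH
        have e3 := Subgroup.card_dvd_of_le (inf_le_left : H ≤ (Q : Subgroup (Kc e)))
        have n1 : Nat.card (Zc e) ≠ Nat.card S := fun he => hZ (Subgroup.eq_of_le_of_card_ge h1 he.ge)
        have n2 : Nat.card S ≠ Nat.card H := fun he => hS (Subgroup.eq_of_le_of_card_ge hSH he.ge)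
        rw [Nat.card_zpowers, hco] at e1 n1
        rw [hQ27] at e3
        have hH27 : Nat.card H = 27 := by
          obtain ⟨i, hi, hie⟩ := (Nat.dvd_prime_pow (by norm_num : Nat.Prime 3)).mp (show Nat.card H ∣ 3 ^ 3 by rw [show (3 : ℕ) ^ 3 = 27 by norm_num]; exact e3)
          obtain ⟨j, hj, hje⟩ := (Nat.dvd_prime_pow (by norm_num : Nat.Prime 3)).mp
            (show Nat.card S ∣ 3 ^ 3 from dvd_trans e2 (by rw [show (3 : ℕ) ^ 3 = 27 by norm_num]; exact e3))
          rw [hje] at e1 n1 n2 e2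
          rw [hie] at n2 e2 ⊢
          have hij : j ≤ i := (Nat.pow_dvd_pow_iff_le_right (by norm_num)).mp e2
          interval_cases i <;> interval_cases j <;> norm_num at *
        have hHQ : H = (Q : Subgroup (Kc e)) := Subgroup.eq_of_le_of_card_ge inf_le_left (by rw [hH27, hQ27])
        exact (Subgroup.mem_centralizer_singleton_iff.mp (hHQ ▸ hb : b ∈ H).2).symm
    haveI : IsMulCommutative (Q : Subgroup (Kc e)) := ⟨⟨fun a b => Subtype.ext (hcomm _ a.2 _ b.2)⟩⟩
    open scoped IsMulCommutative in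
    refine ⟨Q, MonoidHom.transfer (MonoidHom.id (Q : Subgroup (Kc e))), hcomm, by
      rw [show Nat.card (Q : Subgroup (Kc e)) = 27 from hQ27]; decide, ?_⟩
    open scoped IsMulCommutative in
    rw [MonoidHom.transfer_eq_pow _ (cK e) (fun n g0 _ => by
      rw [mul_assoc, ((hcc g0).pow_right n).symm.eq, inv_mul_cancel_left])]
    show cK e ^ (Q : Subgroup (Kc e)).index = cK e
    have hi : (Q : Subgroup (Kc e)).index = 40 := by
      have := (Q : Subgroup (Kc e)).index_mul_card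
      rw [hQ27, hcard] at this
      omega
    rw [hi, ← pow_mod_orderOf, hco]
    norm_num
  · exfalso
    push Not at hall
    obtain ⟨p, hp, hpy⟩ := hall
    have hd : Nat.card ((Q : Subgroup (Kc e)).map π) ∣ 9 := by
      have h1 : Nat.card ((Q : Subgroup (Kc e)).map π) ∣ 27 := hQ27 ▸ Subgroup.card_map_dvd _ _
      have h2 : Nat.card ((Q : Subgroup (Kc e)).map π) ∣ 360 := a6_card ▸ Subgroup.card_subgroup_dvd_card _
      exact dvd_trans (Nat.dvd_gcd h1 h2) (by norm_num)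
    have hcp := commute_of_card_dvd_nine _ hd (Subgroup.mem_map_of_mem π hp) (Subgroup.mem_map_of_mem π hyQ)
    have hmem : p * y * p⁻¹ * y⁻¹ ∈ Zc e := (hker _).mp (by
      rw [map_mul, map_mul, map_mul, map_inv, map_inv, hcp.eq]; group)
    obtain ⟨p1, hp1⟩ : ∃ p1 : Kc e, p1 * y * p1⁻¹ = y * cK e := by
      obtain ⟨n, hn, hne⟩ := Zc_cases M hmem
      simp only [List.mem_cons, List.not_mem_nil, or_false] at hn
      rcases hn with rfl | rfl | rfl
      · refine absurd (mul_inv_eq_iff_eq_mul.mp (mul_inv_eq_one.mp (Subtype.ext (hne.symm.trans M.one)))) ?_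
        exact fun h => hpy h
      · refine ⟨p, ?_⟩
        have h0 : p * y * p⁻¹ * y⁻¹ = cK e := Subtype.ext hne.symm
        rw [(hcc y).eq, ← h0]; group
      · refine ⟨p * p, ?_⟩
        have h0 : p * y * p⁻¹ * y⁻¹ = cK e * cK e := Subtype.ext (hne.symm.trans (by
          rw [← pts_facts.2.2.2.2.2.2.2.2, M.mul _ _ (by norm_num) (by norm_num)]; rfl))
        have h1 : p * y * p⁻¹ = cK e * cK e * y := by rw [← h0]; group
        have h2 : p * cK e * p⁻¹ = cK e := by rw [(hcc p).eq, mul_inv_cancel_right]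
        calc p * p * y * (p * p)⁻¹ = p * (p * y * p⁻¹) * p⁻¹ := by group
          _ = p * (cK e * cK e * y) * p⁻¹ := by rw [h1]
          _ = p * cK e * p⁻¹ * (p * cK e * p⁻¹) * (p * y * p⁻¹) := by group
          _ = cK e * (cK e * cK e * cK e) * y := by rw [h2, h1]; group
          _ = y * cK e := by
            rw [show cK e * cK e * cK e = 1 from Subtype.ext (c_cube M), mul_one, (hcc y).eq]
    obtain ⟨i0', hi0'⟩ := a6_real (π y) (by rw [← pow_two, ← pow_succ, ← map_pow, hyo, map_one])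
    obtain ⟨i0, rfl⟩ := hπ i0'
    have hmem2 : y * (i0 * y * i0⁻¹) ∈ Zc e := (hker _).mp (by
      rw [map_mul, map_mul, map_mul, map_inv, hi0', mul_inv_cancel])
    obtain ⟨i1, hi1⟩ : ∃ i1 : Kc e, i1 * y * i1⁻¹ = y⁻¹ := by
      obtain ⟨n, hn, hne⟩ := Zc_cases M hmem2
      simp only [List.mem_cons, List.not_mem_nil, or_false] at hn
      have hcp1 : p1 * cK e * p1⁻¹ = cK e := by rw [(hcc p1).eq, mul_inv_cancel_right]
      rcases hn with rfl | rfl | rfl
      · exact ⟨i0, eq_inv_of_mul_eq_one_right (Subtype.ext (hne.symm.trans M.one))⟩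
      · refine ⟨p1 * i0, ?_⟩
        have h0 : y * (i0 * y * i0⁻¹) = cK e := Subtype.ext hne.symm
        calc p1 * i0 * y * (p1 * i0)⁻¹ = p1 * (y⁻¹ * (y * (i0 * y * i0⁻¹))) * p1⁻¹ := by group
          _ = (p1 * y * p1⁻¹)⁻¹ * (p1 * cK e * p1⁻¹) := by rw [h0]; group
          _ = y⁻¹ := by rw [hp1, hcp1, (hcc y).eq, mul_inv_rev, inv_mul_cancel_right]
      · refine ⟨p1 * p1 * i0, ?_⟩
        have h0 : y * (i0 * y * i0⁻¹) = cK e * cK e := Subtype.ext (hne.symm.trans (by
          rw [← pts_facts.2.2.2.2.2.2.2.2, M.mul _ _ (by norm_num) (by norm_num)]; rfl))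
        calc p1 * p1 * i0 * y * (p1 * p1 * i0)⁻¹
            = p1 * (p1 * (y⁻¹ * (y * (i0 * y * i0⁻¹))) * p1⁻¹) * p1⁻¹ := by group
          _ = (p1 * (p1 * y * p1⁻¹) * p1⁻¹)⁻¹ * ((p1 * (p1 * cK e * p1⁻¹) * p1⁻¹) *
                (p1 * (p1 * cK e * p1⁻¹) * p1⁻¹)) := by rw [h0]; simp only [mul_inv_rev, inv_inv, mul_assoc, inv_mul_cancel_left]
          _ = ((p1 * y * p1⁻¹) * cK e)⁻¹ * (cK e * cK e) := by
            rw [hp1, hcp1, hcp1, show p1 * (y * cK e) * p1⁻¹ = p1 * y * p1⁻¹ * (p1 * cK e * p1⁻¹) by group,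
              hp1, hcp1]
          _ = y⁻¹ := by
            rw [hp1, mul_inv_rev, mul_inv_rev, mul_assoc, mul_assoc, ((hcc y⁻¹).mul_right (hcc y⁻¹)).eq]
            group
    obtain ⟨-, -, hC⟩ := (show Cfg (π ⟨z, mem_Kc.mpr P.mz⟩) (π ⟨e 1800, mem_Kc.mpr P.mu⟩)
      (π ⟨e 960, mem_Kc.mpr P.mr⟩) (π ⟨k * e 15, mem_Kc.mpr P.ma⟩)
      (π ⟨e 12 * (k * e 15) * e 12, mem_Kc.mpr P.mb⟩) from by
        constructor
        case z1 =>
          intro h
          obtain ⟨n, hn, hne⟩ := Zc_cases M ((hker _).mp h)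
          have hne' : e n = e 60 := hne.trans M.ez.symm
          have hlt : ∀ n ∈ [0, 15, 24], n < 1920 ∧ n ≠ 60 := by decide
          exact (hlt n hn).2 (M.inj _ _ (hlt n hn).1 (by norm_num) hne')
        all_goals
          simp only [← map_inv, ← map_mul, ← map_one π]
          refine congrArg π (Subtype.ext ?_)
        exacts [P.cfg.zz, P.cfg.uu, P.cfg.rr, P.cfg.zu, P.cfg.zr, P.cfg.ur, P.cfg.a3, P.cfg.b3, P.cfg.az,
          P.cfg.au, P.cfg.ra, P.cfg.bz, P.cfg.br, P.cfg.ub]).a6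
    have h1 : (i1 : G) * (a * e 15 * a⁻¹) * (i1 : G)⁻¹ = (a * e 15 * a⁻¹)⁻¹ := congrArg Subtype.val hi1
    refine no_inverter M K π hker hC (i := a⁻¹ * i1 * a) ?_ ?_
    · have h2 : Commute (a⁻¹ * i1 * a) k0 := by
        have h3 := (mem_Kc.mp i1.2).map (MulAut.conj a⁻¹).toMonoidHom
        rw [← hak] at h3
        simpa [mul_assoc] using h3
      rcases hk0 with rfl | rfl
      · exact h2
      · exact Commute.inv_right_iff.mp h2
    · calc a⁻¹ * i1 * a * e 15 * (a⁻¹ * i1 * a)⁻¹ = a⁻¹ * ((i1 : G) * (a * e 15 * a⁻¹) * (i1 : G)⁻¹) * a := by group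
        _ = _ := by rw [h1]; group

theorem relators_BC (M : Mdl z e) (K : Kappa z e k) (hone : OneClass G) :
    (k * e 27) ^ 10 = 1 ∧ (k * e 3 * k⁻¹ * e 12) ^ 4 = 1 := by
  have P := pts M K
  obtain ⟨π, hπ, hker⟩ := exists_pi M K hone
  obtain ⟨A, T, hAc, hAodd, hTc⟩ := exists_transfer M K hone π hπ hker
  have hfaith : ∀ x : Kc e, T x = 1 → π x = 1 → x = 1 := by
    intro x hT hx
    obtain ⟨n, rfl⟩ := Subgroup.mem_zpowers_iff.mp ((hker x).mp hx)
    have h := congrArg (fun t : A => (t : Kc e)) hT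
    simp only [map_zpow, Subgroup.coe_zpow, hTc, Subgroup.coe_one] at h
    exact h
  have hkill : ∀ t x : Kc e, t * x * t⁻¹ = x⁻¹ → T x = 1 := by
    intro t x h
    have h1 := congrArg T h
    rw [map_mul, map_mul, map_inv, map_inv] at h1
    have hc : Commute (T t) (T x) := Subtype.ext (hAc _ (T t).2 _ (T x).2).eq
    rw [hc.eq, mul_inv_cancel_right] at h1
    have h2 : T x ^ 2 = 1 := by rw [pow_two]; nth_rewrite 1 [h1]; exact inv_mul_cancel _
    have h3 : orderOf (T x) ∣ Nat.gcd 2 (Nat.card A) :=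
      Nat.dvd_gcd (orderOf_dvd_of_pow_eq_one h2) (orderOf_dvd_natCard _)
    rw [Nat.coprime_two_left.mpr hAodd] at h3
    exact orderOf_eq_one_iff.mp (Nat.dvd_one.mp h3)
  have hrr : e 960 * e 960 = 1 := P.cfg.rr
  have huu : e 1800 * e 1800 = 1 := P.cfg.uu
  let aK : Kc e := ⟨k * e 15, mem_Kc.mpr P.ma⟩
  let bK : Kc e := ⟨e 12 * (k * e 15) * e 12, mem_Kc.mpr P.mb⟩
  have hTa : T aK = 1 := hkill ⟨e 960, mem_Kc.mpr P.mr⟩ aK (Subtype.ext (by
    show e 960 * (k * e 15) * (e 960)⁻¹ = (k * e 15)⁻¹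
    rw [inv_eq_of_mul_eq_one_right hrr, P.cfg.ra]))
  have hTb : T bK = 1 := hkill ⟨e 1800, mem_Kc.mpr P.mu⟩ bK (Subtype.ext (by
    show e 1800 * (e 12 * (k * e 15) * e 12) * (e 1800)⁻¹ = (e 12 * (k * e 15) * e 12)⁻¹
    rw [inv_eq_of_mul_eq_one_right huu, P.cfg.ub]))
  obtain ⟨hB, hC, -⟩ := (show Cfg (π ⟨z, mem_Kc.mpr P.mz⟩) (π ⟨e 1800, mem_Kc.mpr P.mu⟩)
      (π ⟨e 960, mem_Kc.mpr P.mr⟩) (π aK) (π bK) from by
        constructor
        case z1 =>
          intro h
          obtain ⟨n, hn, hne⟩ := Zc_cases M ((hker _).mp h)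
          have hne' : e n = e 60 := hne.trans M.ez.symm
          have hlt : ∀ n ∈ [0, 15, 24], n < 1920 ∧ n ≠ 60 := by decide
          exact (hlt n hn).2 (M.inj _ _ (hlt n hn).1 (by norm_num) hne')
        all_goals
          simp only [← map_inv, ← map_mul, ← map_one π]
          refine congrArg π (Subtype.ext ?_)
        exacts [P.cfg.zz, P.cfg.uu, P.cfg.rr, P.cfg.zu, P.cfg.zr, P.cfg.ur, P.cfg.a3, P.cfg.b3, P.cfg.az,
          P.cfg.au, P.cfg.ra, P.cfg.bz, P.cfg.br, P.cfg.ub]).a6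
  have h5 : (aK * bK) ^ 5 = 1 := hfaith _ (by rw [map_pow, map_mul, hTa, hTb, one_mul, one_pow])
    (by rw [map_pow, map_mul, hB])
  have h4 : (aK * bK⁻¹) ^ 4 = 1 := hfaith _ (by rw [map_pow, map_mul, map_inv, hTa, hTb, inv_one, one_mul, one_pow])
    (by rw [map_pow, map_mul, map_inv, hC])
  have h5' : (k * e 15 * (e 12 * (k * e 15) * e 12)) ^ 5 = 1 := congrArg Subtype.val h5
  have h4' : (k * e 15 * (e 12 * (k * e 15) * e 12)⁻¹) ^ 4 = 1 := congrArg Subtype.val h4
  have f : mulC 15 12 = 27 ∧ invC 12 = 12 ∧ invC 15 = 24 ∧ mulC 12 15 = 3 ∧ mulC 24 12 = 3 ∧ mulC 15 3 = 12 := by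
    decide +kernel
  refine ⟨?_, ?_⟩
  · rw [show (10 : ℕ) = 2 * 5 by norm_num, pow_mul, pow_two, ← f.1, M.mul _ _ (by norm_num) (by norm_num)]
    calc (k * (e 15 * e 12) * (k * (e 15 * e 12))) ^ 5 = (k * e 15 * (e 12 * (k * e 15) * e 12)) ^ 5 := by
          simp only [mul_assoc]
      _ = 1 := h5'
  · have hgi : (e 12)⁻¹ = e 12 := by rw [← M.inv (by norm_num), f.2.1]
    have hkey : k * e 15 * (e 12 * (k * e 15) * e 12)⁻¹ = k * e 3 * k⁻¹ * e 12 := by
      have h3 : e 15 * (e 12 * (e 15)⁻¹) = e 3 := by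
        rw [← M.inv (by norm_num), f.2.2.1, ← M.mul _ _ (by norm_num) (by norm_num),
          ← M.mul _ _ (by norm_num) (mulC_lt (by norm_num) (by norm_num)),
          show mulC 15 (mulC 12 24) = 3 by decide +kernel]
      calc k * e 15 * (e 12 * (k * e 15) * e 12)⁻¹
          = k * (e 15 * ((e 12)⁻¹ * (e 15)⁻¹)) * k⁻¹ * (e 12)⁻¹ := by group
        _ = _ := by rw [hgi, h3]
    rw [hkey] at h4'
    exact h4'

theorem exists_sys (M : Mdl z e) (hone : OneClass G) : ∃ k, Kappa z e k ∧ Sys e k := by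
  obtain ⟨k, K⟩ := exists_kappa M
  obtain ⟨hB, hC⟩ := relators_BC M K hone
  refine ⟨k, K, ⟨M.mul, fun d hd hd' => K.kap.phi M hd hd', fun R hR => ?_⟩⟩
  have h3 := K.kap.cube M
  have hA := K.relA
  set g := e 12
  have hgi : g⁻¹ = g := by rw [← M.inv (by norm_num), show invC 12 = 12 by decide +kernel]
  have h27i : (e 27)⁻¹ = e 27 := by rw [← M.inv (by norm_num), show invC 27 = 27 by decide +kernel]
  have h3i : (e 3)⁻¹ = e 3 := by rw [← M.inv (by norm_num), show invC 3 = 3 by decide +kernel]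
  have h975 : e 975 = e 15 * e 960 := by
    rw [← show mulC 15 960 = 975 by decide +kernel, M.mul _ _ (by norm_num) (by norm_num)]
  have h984 : e 984 = e 960 * (e 15)⁻¹ := by
    rw [← M.inv (by norm_num), show invC 15 = 24 by decide +kernel,
      ← M.mul _ _ (by norm_num) (by norm_num), show mulC 960 24 = 984 by decide +kernel]
  have h24 : e 24 = (e 15)⁻¹ := by rw [← M.inv (by norm_num), show invC 15 = 24 by decide +kernel]
  have hc3 := c_cube M
  have hrr : e 960 * e 960 = 1 := (pts M K).cfg.rr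
  have hri : (e 960)⁻¹ = e 960 := inv_eq_of_mul_eq_one_right hrr
  have hA1 : e 960 * (k * (e 975 * (k * e 15))) = 1 := by
    rw [h975]
    calc e 960 * (k * (e 15 * e 960 * (k * e 15))) = e 960 * k * e 15 * e 960 * k * e 15 := by group
      _ = e 960 * k * (e 960 * e 15) * k * e 15 := by
        rw [(pts M K).mr.eq]; group
      _ = k⁻¹ * e 15 * e 15 * (k * e 15) := by rw [← mul_assoc (e 960 * k), hA]; group
      _ = k⁻¹ * (e 15 * e 15 * k) * e 15 := by group
      _ = k⁻¹ * (k * (e 15 * e 15)) * e 15 := by rw [(K.kap.rot.dc.mul_right K.kap.rot.dc).eq]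
      _ = e 15 * e 15 * e 15 := by group
      _ = 1 := hc3
  simp only [relators, List.mem_cons, List.not_mem_nil, or_false] at hR
  rcases hR with rfl | rfl | rfl | rfl | rfl | rfl | rfl | rfl <;>
    simp only [ev, stv, Nat.reduceLT, reduceIte, Nat.reduceEqDiff, one_mul]
  · exact h3
  · simpa [mul_assoc] using hA1
  · rw [← hB]; simp only [pow_succ, pow_zero, one_mul, mul_assoc]
  · rw [← hC]; simp only [pow_succ, pow_zero, one_mul, mul_assoc, g]
  · rw [show k⁻¹ * k⁻¹ * k⁻¹ = (k * k * k)⁻¹ by group, h3, inv_one]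
  · rw [h24, h984]
    calc (e 15)⁻¹ * k⁻¹ * (e 960 * (e 15)⁻¹) * k⁻¹ * e 960
        = ((e 960)⁻¹ * (k * ((e 15 * (e 960)⁻¹) * (k * e 15))))⁻¹ := by group
      _ = 1 := by rw [hri, ← h975, hA1, inv_one]
  · have := congrArg (·⁻¹) hB
    simp only [inv_one] at this
    rw [← this, ← inv_pow, mul_inv_rev, h27i]
    simp only [pow_succ, pow_zero, one_mul, mul_assoc]
  · have := congrArg (·⁻¹) hC
    simp only [inv_one] at this
    rw [← this, ← inv_pow, mul_inv_rev, mul_inv_rev, mul_inv_rev, inv_inv, h3i, hgi]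
    simp only [pow_succ, pow_zero, one_mul, mul_assoc, g]

end H36.J3U
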